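import Cfsg.Agent.Lib.Trans3.FischerType.PairQuot

/-!
The 276 elements of `A` that are not conjugate to the central involution, labelled by pairs among 24 points,
with what is used of the labelling: triangles, disjoint pairs, transitivity and octads.
-/

set_option autoImplicit false
set_option linter.unusedSectionVars false

open scoped Pointwise

namespace CfsgLib.Trans3.FischerType.PairCode

variable {G : Type*} [Group G]

/-- A labelling of `tcls z A` by pairs of points. -/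
structure Lab (z : G) (A : Subgroup G) where
  /-- The element of a pair. -/
  π : Cfsg.GolayPt → Cfsg.GolayPt → G
  mem : ∀ p q, p ≠ q → π p q ∈ tcls z A
  self : ∀ p, π p p = 1
  symm : ∀ p q, π p q = π q p
  tri : ∀ p q r, π p q * π p r = π q r
  surj : ∀ x ∈ tcls z A, ∃ p q, p ≠ q ∧ π p q = x
  inj : ∀ p q p' q', p ≠ q → p' ≠ q' → π p q = π p' q' → p' = p ∧ q' = q ∨ p' = q ∧ q' = p
  disj : ∀ p q r s, p ≠ q → r ≠ s → p ≠ r → p ≠ s → q ≠ r → q ≠ s → π p q * π r s ∈ zcls z A
  move : ∀ p q r j j', p ≠ q → p ≠ r → q ≠ r → j ∉ [p, q, r] → j' ∉ [p, q, r] →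
    ∃ m ∈ Subgroup.normalizer (A : Set G), m * π p q * m⁻¹ = π p q ∧ m * π p r * m⁻¹ = π p r ∧
      m * π p j * m⁻¹ = π p j'
  move3 : ∀ p q r p' q' r', p ≠ q → p ≠ r → q ≠ r → p' ≠ q' → p' ≠ r' → q' ≠ r' →
    ∃ m ∈ Subgroup.normalizer (A : Set G), m * π p q * m⁻¹ = π p' q' ∧ m * π p r * m⁻¹ = π p' r'
  oct : ∀ p q r, p ≠ q → p ≠ r → q ≠ r → ∃ f : Fin 6 → Cfsg.GolayPt,
    (∀ i, f i ∉ [p, q, r]) ∧ π p q = π (f 0) (f 1) * π (f 2) (f 3) * π (f 4) (f 5)

namespace SumGraph

variable {A : Type*} [CommGroup A] [Finite A] {T : Set A} (g : SumGraph T)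

include g

/-- The element of a disjoint pair of pairs is neither trivial nor labelled. -/
theorem pairElt_disjoint {a b c d : ↥(Stars T)} (hab : a ≠ b) (hcd : c ≠ d) (hac : a ≠ c) (had : a ≠ d)
    (hbc : b ≠ c) (hbd : b ≠ d) :
    pairElt T a b * pairElt T c d ≠ 1 ∧ pairElt T a b * pairElt T c d ∉ T := by
  constructor
  · intro h
    have : pairElt T a b = pairElt T c d := by
      rw [← mul_one (pairElt T c d), ← h, mul_comm (pairElt T a b), g.cancel_left]
    rcases g.pairElt_inj hab hcd this with ⟨e, -⟩ | ⟨e, -⟩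
    · exact hac e.symm
    · exact hbc e.symm
  · intro h
    obtain ⟨hS, hxS, hyS⟩ := mem_stars (g.pairElt_mem hab).2.2 (g.pairElt_mem hcd).2.2 h
    rcases g.mem_pairElt hab (R := ⟨_, hS⟩) hxS with e | e <;>
      rcases g.mem_pairElt hcd (R := ⟨_, hS⟩) hyS with e' | e'
    · exact hac (e.symm.trans e')
    · exact had (e.symm.trans e')
    · exact hbc (e.symm.trans e')
    · exact hbd (e.symm.trans e')

/-- A block through two of three stars and missing the third. -/
theorem exists_six {p q r : ↥(Stars T)} (hpq : p ≠ q) (hpr : p ≠ r) (hqr : q ≠ r) :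
    ∃ f : Fin 6 → ↥(Stars T), (∀ i, f i ∉ [p, q, r]) ∧
      pairElt T p q = pairElt T (f 0) (f 1) * pairElt T (f 2) (f 3) * pairElt T (f 4) (f 5) := by
  classical
  haveI := Fintype.ofFinite A
  haveI := Fintype.ofFinite ↥(Stars T)
  have h24 : Fintype.card ↥(Stars T) = 24 := by rw [← Nat.card_eq_fintype_card, g.card_stars]
  have h3 : ({p, q, r} : Finset ↥(Stars T)).card = 3 := by
    rw [Finset.card_insert_of_notMem (by simp [hpq, hpr]), Finset.card_pair hqr]
  -- two further points, then one outside their block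
  obtain ⟨s, hs, -, hs5⟩ := Finset.exists_subsuperset_card_eq (n := 5)
    (Finset.subset_univ ({p, q, r} : Finset ↥(Stars T))) (by omega) (by simp [h24])
  obtain ⟨b, hb, hsb⟩ := g.exists_block p hs5
  obtain ⟨o, ho⟩ : ∃ o, o ∉ b := by
    by_contra! hall
    have h1 : b = Finset.univ := Finset.eq_univ_iff_forall.2 hall
    have h2 := hb.1
    rw [h1, Finset.card_univ, h24] at h2
    omega
  have hrs : r ∈ s := hs (by simp)
  have hps : p ∈ s := hs (by simp)
  have hqs : q ∈ s := hs (by simp)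
  have hos : o ∉ s := fun h => ho (hsb h)
  have hs' : (insert o (s.erase r)).card = 5 := by
    rw [Finset.card_insert_of_notMem (fun h => hos (Finset.mem_of_mem_erase h)),
      Finset.card_erase_of_mem hrs, hs5]
  obtain ⟨c, hc, hsc⟩ := g.exists_block p hs'
  have hrc : r ∉ c := fun h => by
    have hsub : s ⊆ c := fun x hx => by
      by_cases e : x = r
      · exact e ▸ h
      · exact hsc (Finset.mem_insert_of_mem (Finset.mem_erase.2 ⟨e, hx⟩))
    exact ho (g.blocks_unique p hs5 hc hb hsub hsb ▸ hsc (Finset.mem_insert_self _ _))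
  have hpc : p ∈ c := hsc (Finset.mem_insert_of_mem (Finset.mem_erase.2 ⟨hpr, hps⟩))
  have hqc : q ∈ c := hsc (Finset.mem_insert_of_mem (Finset.mem_erase.2 ⟨hqr, hqs⟩))
  have hd : ((c.erase p).erase q).card = 6 := by
    rw [Finset.card_erase_of_mem (Finset.mem_erase.2 ⟨hpq.symm, hqc⟩), Finset.card_erase_of_mem hpc, hc.1]
  let ε : Fin 6 ≃ ↥((c.erase p).erase q) := (Finset.equivFinOfCardEq hd).symm
  have hmem : ∀ i, (ε i : ↥(Stars T)) ∉ [p, q, r] := fun i h => by
    obtain ⟨h1, h2⟩ := Finset.mem_erase.1 (ε i).2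
    obtain ⟨h3, h4⟩ := Finset.mem_erase.1 h2
    simp only [List.mem_cons, List.not_mem_nil, or_false] at h
    rcases h with h | h | h
    exacts [h3 h, h1 h, hrc (h ▸ h4)]
  refine ⟨fun i => ε i, hmem, ?_⟩
  have h1 : g.setProd p c = 1 := hc.2
  rw [setProd, ← Finset.mul_prod_erase _ _ hpc, pairElt_self, one_mul,
    ← Finset.mul_prod_erase _ _ (Finset.mem_erase.2 ⟨hpq.symm, hqc⟩),
    ← Finset.prod_coe_sort, ← Equiv.prod_comp ε, Fin.prod_univ_six] at h1
  rw [← g.pairElt_triangle p (ε 0 : ↥(Stars T)) (ε 1 : ↥(Stars T)),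
    ← g.pairElt_triangle p (ε 2 : ↥(Stars T)) (ε 3 : ↥(Stars T)),
    ← g.pairElt_triangle p (ε 4 : ↥(Stars T)) (ε 5 : ↥(Stars T))]
  calc pairElt T p q = pairElt T p q * (pairElt T p q * _) := by rw [h1, mul_one]
    _ = _ := by rw [g.cancel_left]; simp only [mul_assoc]

end SumGraph

namespace EdgeData

variable {z : G} {A Q : Subgroup G} (e : EdgeData z A Q) [Finite G]

include e

theorem exists_lab : Nonempty (Lab z A) := by
  classical
  letI := e.toLocalData.commGroup
  haveI : Finite ↥A := inferInstance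
  set Ts : Set A := {a | (a : G) ∈ tcls z A}
  have himg : ∀ {S : Set G}, (∀ a ∈ S, a ∈ A) → {a : A | (a : G) ∈ S}.ncard = S.ncard := fun {S} hS => by
    rw [← Set.ncard_image_of_injective _ Subtype.val_injective]
    congr 1
    ext a
    exact ⟨fun ⟨b, hb, hba⟩ => hba ▸ hb, fun ha => ⟨⟨a, hS a ha⟩, ha, rfl⟩⟩
  have g : SumGraph Ts :=
    { sq := fun a => Subtype.ext (e.toLocalData.sq a.2)
      card_group := e.card_A
      card_T := by rw [himg fun a ha => ha.1]; exact e.toLocalData.tcls_card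
      gen := by
        refine Subgroup.map_injective A.subtype_injective ?_
        rw [MonoidHom.map_closure, ← MonoidHom.range_eq_map, Subgroup.range_subtype]
        refine Eq.trans ?_ e.toLocalData.closure_tcls
        congr 1
        ext a
        exact ⟨fun ⟨b, hb, hba⟩ => hba ▸ hb, fun ha => ⟨⟨a, ha.1⟩, ha, rfl⟩⟩
      one_notMem := fun h => h.2.1 rfl
      deg := fun x hx => by
        rw [show Nbr Ts x = {a : A | (a : G) ∈ nbrG z A x} from rfl, himg fun a ha => ha.1.1]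
        exact e.deg hx
      com_card := fun x hx y hy hxy => by
        rw [show Com Ts x y = {a : A | (a : G) ∈ comG z A x y} from Set.ext fun c =>
          ⟨fun h => ⟨h.1, h.2.1, h.2.2.1, fun h' => h.2.2.2 (Subtype.ext h')⟩,
            fun h => ⟨h.1, h.2.1, h.2.2.1, fun h' => h.2.2.2 (congrArg Subtype.val h')⟩⟩,
          himg fun a ha => ha.1.1]
        exact e.com_card hx hy hxy
      com_sum := fun x hx y hy hxy c hc => e.com_sum hx hy hxy
        ⟨hc.1, hc.2.1, hc.2.2.1, fun h => hc.2.2.2 (Subtype.ext h)⟩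
      com_adj := fun x hx y hy hxy c hc d hd hne => e.com_adj hx hy hxy
        ⟨hc.1, hc.2.1, hc.2.2.1, fun h => hc.2.2.2 (Subtype.ext h)⟩
        ⟨hd.1, hd.2.1, hd.2.2.1, fun h => hd.2.2.2 (Subtype.ext h)⟩ fun h => hne (Subtype.ext h) }
  haveI := Fintype.ofFinite A
  haveI : Fintype ↥(Stars Ts) := Fintype.ofFinite _
  obtain ⟨B⟩ : Nonempty ↥(Stars Ts) := by
    obtain ⟨x, hx⟩ := Set.nonempty_of_ncard_ne_zero (s := Ts) (by rw [g.card_T]; decide)
    obtain ⟨P, Q, -, -⟩ := g.exists_pairElt hx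
    exact ⟨P⟩
  obtain ⟨ε, hε⟩ := Golay.steiner24_iso (by rw [← Nat.card_eq_fintype_card, g.card_stars]) (g.steiner B)
  let pe : Cfsg.GolayPt → Cfsg.GolayPt → A := fun p q => pairElt Ts (ε.symm p) (ε.symm q)
  have hne : ∀ {p q : Cfsg.GolayPt}, p ≠ q → ε.symm p ≠ ε.symm q := fun h e' => h (ε.symm.injective e')
  set M := Subgroup.normalizer (A : Set G)
  let ρ : ↥M →* MulAut A := A.normalizerMonoidHom
  have hρ : ∀ (m : ↥M) (a : A), ((ρ m a : A) : G) = (m : G) * a * (m : G)⁻¹ := fun _ _ => rfl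
  have hpre : ∀ (m : ↥M) (a : A), ρ m a ∈ Ts ↔ a ∈ Ts := fun m a => ⟨fun h => by
    have h' : ((ρ m⁻¹ (ρ m a) : A) : G) ∈ tcls z A := by
      rw [hρ]; exact e.toLocalData.tcls_conj m⁻¹.2 h
    rwa [← MulAut.mul_apply, ← map_mul, inv_mul_cancel, map_one, MulAut.one_apply] at h',
    fun h => by
      show ((ρ m a : A) : G) ∈ tcls z A
      rw [hρ]; exact e.toLocalData.tcls_conj m.2 h⟩
  let τ : ↥M → Equiv.Perm Cfsg.GolayPt := fun m =>
    ε.symm.trans ((Equiv.ofBijective (g.starMap (ρ m) (hpre m))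
      (Finite.injective_iff_bijective.1 (g.starMap_injective _ _))).trans ε)
  have hτ : ∀ m p, ε.symm (τ m p) = g.starMap (ρ m) (hpre m) (ε.symm p) := fun m p => by simp [τ]
  have hequiv : ∀ (m : ↥M) p q, ρ m (pe p q) = pe (τ m p) (τ m q) := fun m p q => by
    show ρ m (pairElt Ts _ _) = pairElt Ts _ _
    rw [g.pairElt_starMap (ρ m) (hpre m), hτ, hτ]
  have hmem : ∀ m, τ m ∈ Cfsg.M24 := by
    intro m
    refine Golay.mem_M24_of_octads_through fun o ho _ => ?_
    have hw : o = (o.image ε.symm).image ε := by simp [Finset.image_image]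
    set w := o.image ε.symm
    have hwB : w ∈ g.blocks B := (hε w).1 (hw ▸ ho)
    have himg' : τ m • o = (w.image (g.starMap (ρ m) (hpre m))).image ε := by
      rw [Finset.smul_finset_def]
      conv_lhs => rw [hw]
      simp only [Finset.image_image]
      refine Finset.image_congr fun x _ => ?_
      simp [τ]
    rw [himg', hε]
    exact ⟨by rw [Finset.card_image_of_injective _ (g.starMap_injective _ _)]; exact hwB.1,
      by rw [g.setProd_image _ _ B w (by rw [hwB.1]), hwB.2, map_one]⟩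
  let ψ : ↥M →* ↥Cfsg.M24 := MonoidHom.mk' (fun m => ⟨τ m, hmem m⟩) fun a b => Subtype.ext <|
    Equiv.ext fun p => ε.symm.injective (by
      show ε.symm (τ (a * b) p) = ε.symm (τ a (τ b p))
      rw [hτ, hτ, hτ]
      apply Subtype.ext
      show (ρ (a * b)) '' _ = (ρ a) '' ((ρ b) '' _)
      rw [map_mul, Set.image_image]
      rfl)
  have hker : ψ.ker ≤ A.subgroupOf M := by
    intro m hm
    have h1 : ∀ p, τ m p = p := fun p =>
      congrArg (fun s : ↥Cfsg.M24 => (s : Equiv.Perm Cfsg.GolayPt) p) (MonoidHom.mem_ker.1 hm)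
    have hfix : Set.EqOn (ρ m).toMonoidHom (MonoidHom.id A) Ts := by
      intro x hx
      obtain ⟨P, Q, -, rfl⟩ := g.exists_pairElt hx
      have := hequiv m (ε P) (ε Q)
      rwa [h1, h1, show pe (ε P) (ε Q) = pairElt Ts P Q by simp [pe]] at this
    refine Subgroup.mem_subgroupOf.2 (e.cent_A (Subgroup.mem_centralizer_iff.2 fun a ha => ?_))
    have h2 : ρ m ⟨a, ha⟩ = ⟨a, ha⟩ := DFunLike.congr_fun (MonoidHom.eq_of_eqOn_dense g.gen hfix) _
    have h3 := congrArg Subtype.val h2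
    rw [hρ] at h3
    exact (mul_inv_eq_iff_eq_mul.1 h3).symm
  have hsurj : Function.Surjective ψ := by
    rw [← MonoidHom.range_eq_top]
    refine Subgroup.eq_top_of_card_eq _ (Nat.le_antisymm (Subgroup.card_le_card_group _) ?_)
    have h1 := Subgroup.card_eq_card_quotient_mul_card_subgroup ψ.ker
    rw [Nat.card_congr (QuotientGroup.quotientKerEquivRange ψ).toEquiv] at h1
    have h2 : Nat.card ↥ψ.ker ≤ 2 ^ 11 := (Subgroup.card_le_of_le hker).trans (le_of_eq (by
      rw [Nat.card_congr (Subgroup.subgroupOfEquivOfLe (Subgroup.le_normalizer : A ≤ M)).toEquiv, e.card_A]))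
    have h3 : 2 ^ 11 * 244823040 ≤ Nat.card ↥M := Nat.le_of_dvd Nat.card_pos e.toLocalData.card_dvd
    rw [Golay.card_M24]
    have h4 := Nat.mul_le_mul_left (Nat.card ↥ψ.range) h2
    rw [← h1] at h4
    omega
  refine ⟨{
    π := fun p q => (pe p q : G)
    mem := fun p q h => (g.pairElt_mem (hne h)).2.2
    self := fun p => congrArg Subtype.val (SumGraph.pairElt_self (T := Ts) (ε.symm p))
    symm := fun p q => congrArg Subtype.val (g.pairElt_comm (ε.symm p) (ε.symm q))
    tri := fun p q r => congrArg Subtype.val (g.pairElt_triangle (ε.symm p) (ε.symm q) (ε.symm r))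
    surj := fun x hx => ?_
    inj := fun p q p' q' h h' hh => (g.pairElt_inj (hne h) (hne h') (Subtype.ext hh)).imp
      (fun ⟨h1, h2⟩ => ⟨ε.symm.injective h1, ε.symm.injective h2⟩)
      (fun ⟨h1, h2⟩ => ⟨ε.symm.injective h1, ε.symm.injective h2⟩)
    disj := fun p q r s h1 h2 h3 h4 h5 h6 => ?_
    move := fun p q r j j' hpq hpr hqr hj hj' => ?_
    move3 := fun p q r p' q' r' hpq hpr hqr hpq' hpr' hqr' => ?_
    oct := fun p q r hpq hpr hqr => ?_ }⟩
  · obtain ⟨P, Q, h, hPQ⟩ := g.exists_pairElt (x := (⟨x, hx.1⟩ : A)) hx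
    exact ⟨ε P, ε Q, fun h' => h (ε.injective h'), by simp [pe, hPQ]⟩
  · obtain ⟨k1, k2⟩ := g.pairElt_disjoint (hne h1) (hne h2) (hne h3) (hne h4) (hne h5) (hne h6)
    refine ⟨mul_mem (pe p q).2 (pe r s).2, ?_⟩
    by_contra hc
    exact k2 ⟨(pe p q * pe r s).2, fun h => k1 (Subtype.ext h), hc⟩
  · simp only [List.mem_cons, List.not_mem_nil, or_false, not_or] at hj hj'
    obtain ⟨s, hs⟩ : ∃ s : Cfsg.GolayPt, s ∉ ({p, q, r, j, j'} : Finset Cfsg.GolayPt) := by
      by_contra! hall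
      have h24 : (Finset.univ : Finset Cfsg.GolayPt).card ≤ 5 :=
        (Finset.card_le_card (fun x _ => hall x)).trans Finset.card_le_five
      rw [Finset.card_univ, show Fintype.card Cfsg.GolayPt = 24 from rfl] at h24
      omega
    simp only [Finset.mem_insert, Finset.mem_singleton, not_or] at hs
    have hi : ∀ k, k ≠ p → k ≠ q → k ≠ r → k ≠ s → Function.Injective ![p, q, r, k, s] := by
      intro k k1 k2 k3 k4
      rw [← List.nodup_ofFn]
      simp [List.ofFn_succ, hpq, hpr, hqr, Ne.symm k1, Ne.symm k2, Ne.symm k3, k4, Ne.symm hs.1,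
        Ne.symm hs.2.1, Ne.symm hs.2.2.1]
    obtain ⟨γ, hγ⟩ := Golay.M24_five_trans ⟨_, hi j hj.1 hj.2.1 hj.2.2 (Ne.symm hs.2.2.2.1)⟩
      ⟨_, hi j' hj'.1 hj'.2.1 hj'.2.2 (Ne.symm hs.2.2.2.2)⟩
    obtain ⟨m, hm⟩ := hsurj γ
    have hv : ∀ i, τ m (![p, q, r, j, s] i) = ![p, q, r, j', s] i := fun i => by
      have := DFunLike.congr_fun hγ i
      rw [← hm] at this
      exact this
    have e0 : τ m p = p := hv 0
    have e1 : τ m q = q := hv 1
    have e2 : τ m r = r := hv 2
    have e3 : τ m j = j' := hv 3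
    have key : ∀ a b, (m : G) * (pe a b : G) * (m : G)⁻¹ = (pe (τ m a) (τ m b) : G) := fun a b => by
      rw [← hρ, hequiv]
    exact ⟨m, m.2, by rw [key, e0, e1], by rw [key, e0, e2], by rw [key, e0, e3]⟩
  · obtain ⟨u, v, hu, hv, huv⟩ : ∃ u v : Cfsg.GolayPt, u ∉ ({p, q, r, p', q', r'} : Finset Cfsg.GolayPt) ∧
        v ∉ ({p, q, r, p', q', r'} : Finset Cfsg.GolayPt) ∧ u ≠ v := by
      have hS : ({p, q, r, p', q', r'} : Finset Cfsg.GolayPt).card ≤ 6 :=
        (Finset.card_insert_le _ _).trans (Nat.succ_le_succ Finset.card_le_five)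
      have h2 : 1 < (({p, q, r, p', q', r'} : Finset Cfsg.GolayPt)ᶜ).card := by
        rw [Finset.card_compl, show Fintype.card Cfsg.GolayPt = 24 from rfl]
        omega
      obtain ⟨u, hu, v, hv, huv⟩ := Finset.one_lt_card.1 h2
      exact ⟨u, v, Finset.mem_compl.1 hu, Finset.mem_compl.1 hv, huv⟩
    simp only [Finset.mem_insert, Finset.mem_singleton, not_or] at hu hv
    have hi : ∀ a b c, a ≠ b → a ≠ c → b ≠ c → u ≠ a → u ≠ b → u ≠ c → v ≠ a → v ≠ b → v ≠ c →
        Function.Injective ![a, b, c, u, v] := by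
      intro a b c h1 h2 h3 u1 u2 u3 v1 v2 v3
      rw [← List.nodup_ofFn]
      simp [List.ofFn_succ, h1, h2, h3, Ne.symm u1, Ne.symm u2, Ne.symm u3, Ne.symm v1, Ne.symm v2, Ne.symm v3,
        huv]
    obtain ⟨γ, hγ⟩ := Golay.M24_five_trans
      ⟨_, hi p q r hpq hpr hqr hu.1 hu.2.1 hu.2.2.1 hv.1 hv.2.1 hv.2.2.1⟩
      ⟨_, hi p' q' r' hpq' hpr' hqr' hu.2.2.2.1 hu.2.2.2.2.1 hu.2.2.2.2.2 hv.2.2.2.1 hv.2.2.2.2.1 hv.2.2.2.2.2⟩
    obtain ⟨m, hm⟩ := hsurj γ
    have hw : ∀ i, τ m (![p, q, r, u, v] i) = ![p', q', r', u, v] i := fun i => by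
      have := DFunLike.congr_fun hγ i
      rw [← hm] at this
      exact this
    have e0 : τ m p = p' := hw 0
    have e1 : τ m q = q' := hw 1
    have e2 : τ m r = r' := hw 2
    exact ⟨m, m.2, by rw [← hρ, hequiv, e0, e1], by rw [← hρ, hequiv, e0, e2]⟩
  · obtain ⟨f, hf, he⟩ := g.exists_six (hne hpq) (hne hpr) (hne hqr)
    refine ⟨fun i => ε (f i), fun i h => hf i ?_, ?_⟩
    · simp only [List.mem_cons, List.not_mem_nil, or_false] at h ⊢
      rcases h with h | h | h <;> simp [← h]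
    · simp only [pe, ε.symm_apply_apply]
      rw [he]
      rfl

end EdgeData

end CfsgLib.Trans3.FischerType.PairCode
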