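import Cfsg.Agent.Lib.Trans3.FiLarge.U6.Setting
import Cfsg.Agent.Lib.Trans3.FiLarge.U6.ALabels
import Cfsg.Agent.Lib.Trans3.FischerType.PairModel
import Cfsg.Agent.Lib.Trans3.FiLarge.Herm

/-!
What the subgroup `A` gives about the four-group `E`: `E` is a triangle of labels, a coset of `E` in `A`
holds one, three or four conjugates of `z`, and `E` lies in the commutator subgroup of its centraliser.
-/

set_option autoImplicit false
set_option linter.unusedSectionVars false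

namespace CfsgLib.Trans3.FischerType.PairCode.Lab

variable {G : Type*} [Group G] {z : G} {A : Subgroup G} (L : Lab z A)

theorem mem_A (p q : Cfsg.GolayPt) : L.π p q ∈ A := by
  rcases eq_or_ne p q with rfl | h
  · rw [L.self]; exact one_mem A
  · exact (L.mem p q h).1

/-- A sum of two labels that is a label has them meeting in one point. -/
theorem share {i j k l : Cfsg.GolayPt} (hij : i ≠ j) (hkl : k ≠ l) (h : L.π i j * L.π k l ∈ tcls z A) :
    (i = k ∧ j ≠ l) ∨ (i = l ∧ j ≠ k) ∨ (j = k ∧ i ≠ l) ∨ (j = l ∧ i ≠ k) := by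
  have h1 : L.π i j * L.π i j = 1 := by rw [L.tri, L.self]
  by_cases e1 : i = k
  · exact Or.inl ⟨e1, fun e => h.2.1 (by rw [← e1, ← e, h1])⟩
  by_cases e2 : i = l
  · exact Or.inr (Or.inl ⟨e2, fun e => h.2.1 (by rw [← e2, ← e, L.symm j i, h1])⟩)
  by_cases e3 : j = k
  · exact Or.inr (Or.inr (Or.inl ⟨e3, e2⟩))
  by_cases e4 : j = l
  · exact Or.inr (Or.inr (Or.inr ⟨e4, e1⟩))
  exact absurd (L.disj i j k l hij hkl e1 e2 e3 e4).2 h.2.2

theorem exists_triangle {a b : G} (ha : a ∈ tcls z A) (hb : b ∈ tcls z A) (hab : a * b ∈ tcls z A) :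
    ∃ p q r, p ≠ q ∧ p ≠ r ∧ q ≠ r ∧ L.π p q = a ∧ L.π p r = b := by
  obtain ⟨i, j, hij, rfl⟩ := L.surj a ha
  obtain ⟨k, l, hkl, rfl⟩ := L.surj b hb
  rcases L.share hij hkl hab with ⟨rfl, h⟩ | ⟨rfl, h⟩ | ⟨rfl, h⟩ | ⟨rfl, h⟩
  · exact ⟨i, j, l, hij, hkl, h, rfl, rfl⟩
  · exact ⟨i, j, k, hij, hkl.symm, h, rfl, L.symm _ _⟩
  · exact ⟨j, i, l, hij.symm, hkl, h, L.symm _ _, rfl⟩
  · exact ⟨j, i, k, hij.symm, hkl.symm, h, L.symm _ _, L.symm _ _⟩

end CfsgLib.Trans3.FischerType.PairCode.Lab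

namespace CfsgLib.Trans3.FiLarge.U6

open Matrix CfsgLib.Chev.U43U6 CfsgLib.Trans3.FiLarge CfsgLib.Trans3.FischerType.PairCode

open scoped commutatorElement

variable {G : Type*} [Group G] [Finite G] {z : G} {Q : Subgroup (Subgroup.centralizer ({z} : Set G))}
  [Q.Normal]

theorem inSmall_om {b : Fin 3} {v : V6} (h : InSmall b v) : InSmall b (om • v) := by
  have h1 := h.mulVec (genEl_mem b 2)
  rwa [genEl_scal, Matrix.smul_mulVec, Matrix.one_mulVec] at h1

theorem exists_notMem_golay (s : List Cfsg.GolayPt) (hs : s.length < 24) : ∃ x, x ∉ s := by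
  by_contra! hall
  have h := (Finset.card_le_card (s := Finset.univ) (t := s.toFinset) fun x _ => List.mem_toFinset.2 (hall x)).trans
    s.toFinset_card_le
  rw [Finset.card_univ, show Fintype.card Cfsg.GolayPt = 24 from rfl] at h
  omega

namespace Ctx

variable (X : Ctx z Q)

/-- The triangle of `E` among the labels. -/
structure Triangle (L : Lab z X.A) where
  /-- The point shared by the generators. -/
  p : Cfsg.GolayPt
  /-- The other point of the first generator. -/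
  q : Cfsg.GolayPt
  /-- The other point of the second generator. -/
  r : Cfsg.GolayPt
  pq : p ≠ q
  pr : p ≠ r
  qr : q ≠ r
  eq_a : L.π p q = X.a
  eq_b : L.π p r = X.b

theorem tin_gens : X.a ∈ tin z X.A (qg Q) ∧ X.b ∈ tin z X.A (qg Q) ∧ X.a * X.b ∈ tin z X.A (qg Q) := by
  have hu : om • prG X.c X.a ∈ X.f.U := X.hf.smul _ X.a_U om
  have e : prG X.c (X.a * X.b) = om • (om • prG X.c X.a) := by
    rw [prG_mul X.c X.a_mem X.b_mem, X.b_eq, smul_smul, om_sq, add_smul, one_smul]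
  exact ⟨X.spine.small_pre (X.spine.mem_B X.a_mem X.a_U) X.a_small,
    X.spine.small_pre (X.spine.mem_B X.b_mem (X.b_eq ▸ hu)) (X.b_eq ▸ inSmall_om X.a_small),
    X.spine.small_pre (X.spine.mem_B (mul_mem X.a_mem X.b_mem) (e ▸ X.hf.smul _ hu om))
      (e ▸ inSmall_om (inSmall_om X.a_small))⟩

theorem E_le_A : X.E ≤ X.A := by
  refine (Subgroup.closure_le _).2 ?_
  rintro x (rfl | rfl)
  exacts [X.tin_gens.1.1.1, X.tin_gens.2.1.1.1]

theorem A_le_CE {x : G} (hx : x ∈ X.A) : x ∈ X.CE :=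
  Subgroup.mem_centralizer_iff.2 fun _ he => X.spine.comm (X.E_le_A he) hx

theorem exists_triangle (L : Lab z X.A) : Nonempty (X.Triangle L) := by
  obtain ⟨h1, h2, h3⟩ := X.tin_gens
  obtain ⟨p, q, r, pq, pr, qr, ea, eb⟩ := L.exists_triangle h1.1 h2.1 h3.1
  exact ⟨⟨p, q, r, pq, pr, qr, ea, eb⟩⟩

variable {X} {L : Lab z X.A} (W : X.Triangle L)

theorem sq_lab (i j : Cfsg.GolayPt) : L.π i j * L.π i j = 1 := by rw [L.tri, L.self]

theorem comm_lab (i j k l : Cfsg.GolayPt) : L.π i j * L.π k l = L.π k l * L.π i j :=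
  X.spine.comm (L.mem_A i j) (L.mem_A k l)

theorem mem_E_iff {x : G} :
    x ∈ X.E ↔ x = 1 ∨ x = L.π W.p W.q ∨ x = L.π W.p W.r ∨ x = L.π W.q W.r := by
  have ha : L.π W.p W.q ∈ X.E := Subgroup.subset_closure (Or.inl W.eq_a)
  have hb : L.π W.p W.r ∈ X.E := Subgroup.subset_closure (Or.inr W.eq_b)
  constructor
  · intro hx
    induction hx using Subgroup.closure_induction with
    | mem u hu =>
      rcases hu with rfl | rfl
      exacts [Or.inr (Or.inl W.eq_a.symm), Or.inr (Or.inr (Or.inl W.eq_b.symm))]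
    | one => exact Or.inl rfl
    | mul u v _ _ hu hv =>
      have t1 := L.tri W.p W.q W.r
      have t2 : L.π W.p W.q * L.π W.q W.r = L.π W.p W.r := by rw [L.symm W.p W.q, L.tri]
      have t3 : L.π W.p W.r * L.π W.q W.r = L.π W.p W.q := by
        rw [L.symm W.p W.r, L.symm W.q W.r, L.tri]
      have t1' : L.π W.p W.r * L.π W.p W.q = L.π W.q W.r := by rw [comm_lab, t1]
      have t2' : L.π W.q W.r * L.π W.p W.q = L.π W.p W.r := by rw [comm_lab, t2]
      have t3' : L.π W.q W.r * L.π W.p W.r = L.π W.p W.q := by rw [comm_lab, t3]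
      rcases hu with rfl | rfl | rfl | rfl <;> rcases hv with rfl | rfl | rfl | rfl <;>
        simp [t1, t2, t3, t1', t2', t3', sq_lab]
    | inv u _ hu =>
      have hinv : ∀ i j, (L.π i j)⁻¹ = L.π i j := fun i j => inv_eq_of_mul_eq_one_right (sq_lab i j)
      rcases hu with rfl | rfl | rfl | rfl <;> simp [hinv]
  · rintro (rfl | rfl | rfl | rfl)
    exacts [one_mem _, ha, hb, L.tri W.p W.q W.r ▸ mul_mem ha hb]

theorem not_conj_one (X : Ctx z Q) : ¬ IsConj z (1 : G) := fun h => by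
  obtain ⟨g, hg⟩ := isConj_iff.1 h
  exact X.spine.z_ne (conj_eq_one_iff.1 hg)

include W in
theorem E_tin {e : G} (he : e ∈ X.E) (h1 : e ≠ 1) : e ∈ tin z X.A (qg Q) := by
  obtain ⟨ha, hb, hab⟩ := X.tin_gens
  rcases (mem_E_iff W).1 he with rfl | rfl | rfl | rfl
  · exact absurd rfl h1
  · rwa [W.eq_a]
  · rwa [W.eq_b]
  · rwa [← L.tri W.p W.q W.r, W.eq_a, W.eq_b]

include W in
theorem E_not_conj {e : G} (he : e ∈ X.E) : ¬ IsConj z e := by
  by_cases h1 : e = 1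
  · exact h1 ▸ not_conj_one X
  · exact (E_tin W he h1).1.2.2

theorem zc_shift (g : G) {e : G} (he : e ∈ X.E) : X.zc (g * e) = X.zc g := by
  unfold Ctx.zc
  rw [show {e' : G | e' ∈ X.E ∧ IsConj z (g * e')} = (fun e' => e * e') '' {e' : G | e' ∈ X.E ∧
      IsConj z (g * e * e')} from Set.ext fun x => ⟨fun hx => ⟨e⁻¹ * x, ⟨mul_mem (inv_mem he) hx.1, by
        simpa [mul_assoc] using hx.2⟩, by simp⟩, by
    rintro ⟨y, hy, rfl⟩
    exact ⟨mul_mem he hy.1, by rw [← mul_assoc]; exact hy.2⟩⟩,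
    Set.ncard_image_of_injective _ (mul_right_injective e)]

include W in
theorem zc_of_E {g : G} (hg : g ∈ X.E) : X.zc g = 0 := by
  rw [Ctx.zc, Set.ncard_eq_zero (Set.toFinite _)]
  exact Set.eq_empty_of_forall_notMem fun e he => E_not_conj W (mul_mem hg he.1) he.2

theorem card_E_set : (X.E : Set G) = {1, L.π W.p W.q, L.π W.p W.r, L.π W.q W.r} ∧
    (X.E : Set G).ncard = 4 ∧ ({L.π W.p W.q, L.π W.p W.r, L.π W.q W.r} : Set G).ncard = 3 := by
  have hset : (X.E : Set G) = {1, L.π W.p W.q, L.π W.p W.r, L.π W.q W.r} :=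
    Set.ext fun x => by simpa using mem_E_iff W
  have n1 := (L.mem _ _ W.pq).2.1
  have n2 := (L.mem _ _ W.pr).2.1
  have n3 := (L.mem _ _ W.qr).2.1
  have hd : ∀ {i j k l}, i ≠ j → k ≠ l → ¬ (k = i ∧ l = j ∨ k = j ∧ l = i) → L.π i j ≠ L.π k l :=
    fun h h' hn he => hn (L.inj _ _ _ _ h h' he)
  have d1 := hd W.pq W.pr (by simp [W.qr.symm, W.pq])
  have d2 := hd W.pq W.qr (by simp [W.pq.symm, W.pr.symm])
  have d3 := hd W.pr W.qr (by simp [W.pq.symm, W.qr])
  refine ⟨hset, ?_, by simp [d1, d2, d3]⟩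
  rw [hset]
  simp [Ne.symm n1, Ne.symm n2, Ne.symm n3, d1, d2, d3]

/-- A point outside the triangle. -/
def Out (j : Cfsg.GolayPt) : Prop := j ∉ [W.p, W.q, W.r]

theorem out_ne {j : Cfsg.GolayPt} (h : Out W j) : j ≠ W.p ∧ j ≠ W.q ∧ j ≠ W.r := by
  simpa [Out] using h

theorem zc_point {j : Cfsg.GolayPt} (hj : Out W j) : X.zc (L.π W.p j) = 1 := by
  obtain ⟨jp, jq, jr⟩ := out_ne W hj
  rw [Ctx.zc, Set.ncard_eq_one]
  refine ⟨L.π W.q W.r, Set.ext fun e => ⟨fun he => ?_, ?_⟩⟩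
  · obtain ⟨hE, he⟩ := he
    rcases (mem_E_iff W).1 hE with rfl | rfl | rfl | rfl
    · rw [mul_one] at he; exact absurd he (L.mem _ _ jp.symm).2.2
    · rw [L.tri] at he; exact absurd he (L.mem _ _ jq).2.2
    · rw [L.tri] at he; exact absurd he (L.mem _ _ jr).2.2
    · rfl
  · rintro rfl
    exact ⟨(mem_E_iff W).2 (Or.inr (Or.inr (Or.inr rfl))),
      (L.disj W.p j W.q W.r jp.symm W.qr W.pq W.pr jq jr).2⟩

theorem zc_pair {u v : Cfsg.GolayPt} (hu : Out W u) (hv : Out W v) (huv : u ≠ v) :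
    X.zc (L.π u v) = 3 := by
  obtain ⟨up, uq, ur⟩ := out_ne W hu
  obtain ⟨vp, vq, vr⟩ := out_ne W hv
  rw [Ctx.zc, ← (card_E_set W).2.2]
  congr 1
  ext e
  simp only [Set.mem_ofPred_eq, Set.mem_insert_iff, Set.mem_singleton_iff]
  constructor
  · rintro ⟨he, hc⟩
    rcases (mem_E_iff W).1 he with rfl | h
    · rw [mul_one] at hc; exact absurd hc (L.mem _ _ huv).2.2
    · exact h
  · intro h
    refine ⟨(mem_E_iff W).2 (Or.inr h), ?_⟩
    rcases h with rfl | rfl | rfl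
    exacts [(L.disj u v W.p W.q huv W.pq up uq vp vq).2, (L.disj u v W.p W.r huv W.pr up ur vp vr).2,
      (L.disj u v W.q W.r huv W.qr uq ur vq vr).2]

/-- The three kinds of cosets. -/
theorem classify {x : G} (hx : x ∈ X.A) (hxE : x ∉ X.E) :
    (∃ e ∈ X.E, ∃ j, Out W j ∧ x * e = L.π W.p j) ∨
    (∃ e ∈ X.E, ∃ u v, Out W u ∧ Out W v ∧ u ≠ v ∧ x * e = L.π u v) ∨
    ∀ e ∈ X.E, IsConj z (x * e) := by
  by_cases hall : ∀ e ∈ X.E, IsConj z (x * e)
  · exact Or.inr (Or.inr hall)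
  push Not at hall
  obtain ⟨e, he, hne⟩ := hall
  have hxe : x * e ∉ X.E := fun h => hxE ((mul_mem_cancel_right he).1 h)
  obtain ⟨u, v, huv, hxuv⟩ := L.surj (x * e) ⟨mul_mem hx (X.E_le_A he), fun h => hxe (h ▸ one_mem _), hne⟩
  have hpq : L.π W.p W.q ∈ X.E := (mem_E_iff W).2 (Or.inr (Or.inl rfl))
  have hpr : L.π W.p W.r ∈ X.E := (mem_E_iff W).2 (Or.inr (Or.inr (Or.inl rfl)))
  -- a point of the triangle and one outside
  have one : ∀ t j, (t = W.p ∨ t = W.q ∨ t = W.r) → x * e = L.π t j → t ≠ j →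
      ∃ e' ∈ X.E, ∃ j', Out W j' ∧ x * e' = L.π W.p j' := by
    intro t j ht hj htj
    have hout : Out W j := by
      show j ∉ [W.p, W.q, W.r]
      simp only [List.mem_cons, List.not_mem_nil, or_false]
      rintro (rfl | rfl | rfl) <;> rcases ht with rfl | rfl | rfl <;>
        first
          | exact htj rfl
          | (refine hxe ?_; rw [hj]; exact (mem_E_iff W).2 (by simp [L.symm]))
    rcases ht with rfl | rfl | rfl
    · exact ⟨e, he, j, hout, hj⟩
    · exact ⟨e * L.π W.p W.q, mul_mem he hpq, j, hout, by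
        rw [← mul_assoc, hj, L.symm W.p W.q, L.tri, L.symm]⟩
    · exact ⟨e * L.π W.p W.r, mul_mem he hpr, j, hout, by
        rw [← mul_assoc, hj, L.symm W.p W.r, L.tri, L.symm]⟩
  by_cases hu : u = W.p ∨ u = W.q ∨ u = W.r
  · exact Or.inl (one u v hu hxuv.symm huv)
  by_cases hv : v = W.p ∨ v = W.q ∨ v = W.r
  · exact Or.inl (one v u hv (by rw [L.symm]; exact hxuv.symm) huv.symm)
  exact Or.inr (Or.inl ⟨e, he, u, v, by simpa [Out] using hu, by simpa [Out] using hv, huv, hxuv.symm⟩)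

theorem of_zc_one {x : G} (hx : x ∈ X.A) (h : X.zc x = 1) :
    ∃ e ∈ X.E, ∃ j, Out W j ∧ x * e = L.π W.p j := by
  have hxE : x ∉ X.E := fun h' => by rw [zc_of_E W h'] at h; omega
  rcases classify W hx hxE with h1 | ⟨e, he, u, v, hu, hv, huv, hxe⟩ | hall
  · exact h1
  · rw [← zc_shift x he, hxe, zc_pair W hu hv huv] at h; omega
  · rw [Ctx.zc, show {e : G | e ∈ X.E ∧ IsConj z (x * e)} = (X.E : Set G) from
      Set.ext fun e => ⟨fun he => he.1, fun he => ⟨he, hall e he⟩⟩, (card_E_set W).2.1] at h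
    omega

theorem img_point_inj {i j : Cfsg.GolayPt} (hi : Out W i) (hj : Out W j)
    (h : X.img ⟨L.π W.p i, X.A_le_CE (L.mem_A _ _)⟩ = X.img ⟨L.π W.p j, X.A_le_CE (L.mem_A _ _)⟩) : i = j := by
  by_contra hne
  have h1 : (L.π W.p i)⁻¹ * L.π W.p j ∈ X.E :=
    Subgroup.mem_subgroupOf.1 (QuotientGroup.eq.1 h)
  rw [inv_eq_of_mul_eq_one_right (sq_lab W.p i), L.tri] at h1
  obtain ⟨ip, iq, ir⟩ := out_ne W hi
  rcases (mem_E_iff W).1 h1 with e | e | e | e
  · exact (L.mem i j hne).2.1 e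
  all_goals
    rcases L.inj _ _ _ _ hne (by first | exact W.pq | exact W.pr | exact W.qr) e with ⟨e1, -⟩ | ⟨-, e2⟩
    · first | exact ip e1.symm | exact iq e1.symm
    · first | exact iq e2.symm | exact ir e2.symm

theorem lab_mem_comm {u v : Cfsg.GolayPt} (hu : Out W u) (hv : Out W v) :
    L.π u v ∈ (commutator X.CE).map X.CE.subtype := by
  obtain ⟨m, hm, h1, h2, h3⟩ := L.move W.p W.q W.r u v W.pq W.pr W.qr hu hv
  have hmC : m ∈ X.CE := by
    rw [Ctx.CE, Ctx.E, Subgroup.centralizer_closure, Subgroup.mem_centralizer_iff]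
    rintro g (rfl | rfl)
    · rw [← W.eq_a]; exact (mul_inv_eq_iff_eq_mul.1 h1).symm
    · rw [← W.eq_b]; exact (mul_inv_eq_iff_eq_mul.1 h2).symm
  refine ⟨(⟨m, hmC⟩ : X.CE) * ⟨L.π W.p u, X.A_le_CE (L.mem_A _ _)⟩ * (⟨m, hmC⟩ : X.CE)⁻¹ *
      (⟨L.π W.p u, X.A_le_CE (L.mem_A _ _)⟩ : X.CE)⁻¹,
    Subgroup.commutator_mem_commutator (Subgroup.mem_top _) (Subgroup.mem_top _), ?_⟩
  show m * L.π W.p u * m⁻¹ * (L.π W.p u)⁻¹ = L.π u v
  rw [h3, inv_eq_of_mul_eq_one_right (sq_lab W.p u), L.tri, L.symm]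

theorem tri_mem_comm {p q r : Cfsg.GolayPt} (hpq : p ≠ q) (hpr : p ≠ r) (hqr : q ≠ r)
    (hW : ∀ i, i ∉ [p, q, r] → Out W i) : L.π p q ∈ (commutator X.CE).map X.CE.subtype := by
  obtain ⟨f, hf, he⟩ := L.oct p q r hpq hpr hqr
  rw [he]
  exact mul_mem (mul_mem (lab_mem_comm W (hW _ (hf 0)) (hW _ (hf 1)))
    (lab_mem_comm W (hW _ (hf 2)) (hW _ (hf 3)))) (lab_mem_comm W (hW _ (hf 4)) (hW _ (hf 5)))

variable (X)

/-- What `A` gives. -/
theorem afacts : X.AFacts := by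
  have ed := X.spine.edgeData
  obtain ⟨L⟩ := ed.exists_lab
  obtain ⟨W⟩ := X.exists_triangle L
  obtain ⟨hset, h4, h3⟩ := card_E_set W
  constructor
  case E_le => exact X.E_le_A
  case E_elem =>
    exact ⟨⟨⟨fun u v => Subtype.ext (X.spine.comm (X.E_le_A u.2) (X.E_le_A v.2))⟩⟩,
      fun x hx => X.spine.elem.2 x (X.E_le_A hx)⟩
  case E_card => rw [← h4, ← Nat.card_coe_set_eq]; rfl
  case E_small =>
    intro e he h1
    obtain ⟨hT, hQ⟩ := E_tin W he h1
    exact ⟨hQ, hT.2.2, (X.spine.tin_iff.1 ⟨hT, hQ⟩).2⟩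
  case z_notMem => exact fun h => E_not_conj W h (IsConj.refl z)
  case cases =>
    intro x hx hxE
    rcases classify W hx hxE with ⟨e, he, j, hj, hxe⟩ | ⟨e, he, u, v, hu, hv, huv, hxe⟩ | hall
    · left; rw [← zc_shift x he, hxe, zc_point W hj]
    · right; left; rw [← zc_shift x he, hxe, zc_pair W hu hv huv]
    · right; right
      rw [Ctx.zc, show {e : G | e ∈ X.E ∧ IsConj z (x * e)} = (X.E : Set G) from
        Set.ext fun e => ⟨fun he => he.1, fun he => ⟨he, hall e he⟩⟩, h4]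
  case one_card =>
    have key : {y : X.Y | ∃ g : X.CE, (g : G) ∈ X.A ∧ X.zc g = 1 ∧ X.img g = y} =
        (fun j => X.img ⟨L.π W.p j, X.A_le_CE (L.mem_A _ _)⟩) '' ({W.p, W.q, W.r} : Set Cfsg.GolayPt)ᶜ := by
      ext y
      constructor
      · rintro ⟨g, hg, h1, rfl⟩
        obtain ⟨e, he, j, hj, hge⟩ := of_zc_one W hg h1
        refine ⟨j, by simpa [Out] using hj, (QuotientGroup.eq.2 ?_).symm⟩
        show (g : G)⁻¹ * L.π W.p j ∈ X.E
        rwa [← hge, inv_mul_cancel_left]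
      · rintro ⟨j, hj, rfl⟩
        exact ⟨_, L.mem_A _ _, zc_point W (by simpa [Out] using hj), rfl⟩
    rw [key, Set.ncard_image_of_injOn fun i hi j hj h => img_point_inj W (by simpa [Out] using hi)
        (by simpa [Out] using hj) h,
      Set.ncard_compl, Nat.card_eq_fintype_card, show Fintype.card Cfsg.GolayPt = 24 from rfl,
      Set.ncard_eq_three.2 ⟨W.p, W.q, W.r, W.pq, W.pr, W.qr, rfl⟩]
  case one_trans =>
    intro x hx hx1 y hy hy1
    obtain ⟨e, he, i, hi, hxe⟩ := of_zc_one W hx hx1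
    obtain ⟨e', he', j, hj, hye⟩ := of_zc_one W hy hy1
    obtain ⟨m, hm, h1, h2, h3⟩ := L.move W.p W.q W.r i j W.pq W.pr W.qr hi hj
    have hmC : m ∈ X.CE := by
      rw [Ctx.CE, Ctx.E, Subgroup.centralizer_closure, Subgroup.mem_centralizer_iff]
      rintro g (rfl | rfl)
      · rw [← W.eq_a]; exact (mul_inv_eq_iff_eq_mul.1 h1).symm
      · rw [← W.eq_b]; exact (mul_inv_eq_iff_eq_mul.1 h2).symm
    refine ⟨m, hmC, hm, ?_⟩
    have hme : m * e⁻¹ * m⁻¹ = e⁻¹ :=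
      mul_inv_eq_iff_eq_mul.2 ((Subgroup.mem_centralizer_iff.1 hmC) _ (inv_mem he)).symm
    rw [← mul_inv_cancel_right x e, hxe, show m * (L.π W.p i * e⁻¹) * m⁻¹ =
      m * L.π W.p i * m⁻¹ * (m * e⁻¹ * m⁻¹) by group, h3, hme, ← mul_inv_cancel_right y e', hye, _root_.mul_inv_rev,
      inv_inv, show e * (L.π W.p j)⁻¹ * (L.π W.p j * e'⁻¹) = e * e'⁻¹ by group]
    exact mul_mem he (inv_mem he')
  case other =>
    obtain ⟨u, hu⟩ := exists_notMem_golay [W.p, W.q, W.r] (by simp)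
    obtain ⟨v, hv⟩ := exists_notMem_golay [W.p, W.q, W.r, u] (by simp)
    exact ⟨L.π u v, L.mem_A u v, zc_pair W hu (fun h => hv (by
      simp only [List.mem_cons, List.not_mem_nil, or_false] at h ⊢; tauto)) fun h => hv (by simp [h])⟩
  case two_label =>
    intro x hx hx3
    have hxE : x ∉ X.E := fun h' => by rw [zc_of_E W h'] at hx3; omega
    rcases classify W hx hxE with ⟨e, he, j, hj, hxe⟩ | ⟨e, he, u, v, hu, hv, huv, hxe⟩ | hall
    · rw [← zc_shift x he, hxe, zc_point W hj] at hx3; omega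
    · obtain ⟨up, uq, ur⟩ := out_ne W hu
      obtain ⟨vp, vq, vr⟩ := out_ne W hv
      have hpq : L.π W.p W.q ∈ X.E := (mem_E_iff W).2 (Or.inr (Or.inl rfl))
      refine ⟨L.π W.q W.r, (mem_E_iff W).2 (Or.inr (Or.inr (Or.inr rfl))),
        L.π u v * L.π W.p W.q, L.disj u v W.p W.q huv W.pq up uq vp vq, L.π W.r u, L.mem _ _ ur.symm,
        ?_, (L.mem _ _ W.qr).2.1, ?_, ?_, ?_, ?_, ?_⟩
      · rw [← hxe, show (x * e * L.π W.p W.q)⁻¹ * x = (L.π W.p W.q)⁻¹ * e⁻¹ by group]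
        exact mul_mem (inv_mem hpq) (inv_mem he)
      · rw [← mul_assoc, comm_lab W.q W.r u v, mul_assoc, comm_lab W.q W.r W.p W.q, L.symm W.p W.q, L.tri]
        exact L.disj u v W.p W.r huv W.pr up ur vp vr
      · rw [← mul_assoc, L.symm W.r u, L.tri]
        exact L.disj W.r v W.p W.q vr.symm W.pq W.pr.symm W.qr.symm vp vq
      · rw [L.symm W.q W.r, L.tri]
        exact L.mem u W.q uq
      · rw [L.symm W.q W.r, L.tri, ← mul_assoc, L.tri, comm_lab W.q v W.p W.q, L.symm W.p W.q, L.tri]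
        exact L.mem W.p v vp.symm
      · rw [← zc_shift (L.π W.r u) (e := L.π W.p W.r) ((mem_E_iff W).2 (Or.inr (Or.inr (Or.inl rfl)))),
          L.symm W.p W.r, L.tri, L.symm u W.p]
        exact zc_point W hu
    · rw [Ctx.zc, show {e : G | e ∈ X.E ∧ IsConj z (x * e)} = (X.E : Set G) from
        Set.ext fun e => ⟨fun he => he.1, fun he => ⟨he, hall e he⟩⟩, h4] at hx3
      omega
  case E_comm =>
    have hle : X.E ≤ (commutator X.CE).map X.CE.subtype := by
      refine (Subgroup.closure_le _).2 ?_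
      rintro g (rfl | rfl)
      · rw [← W.eq_a]; exact tri_mem_comm W W.pq W.pr W.qr fun i hi => hi
      · rw [← W.eq_b]
        exact tri_mem_comm W W.pr W.pq W.qr.symm fun i hi => by
          simp only [List.mem_cons, List.not_mem_nil, or_false, not_or] at hi
          simp [Out, hi.1, hi.2.1, hi.2.2]
    intro g hg
    obtain ⟨c, hc, hcg⟩ := hle (Subgroup.mem_subgroupOf.1 hg)
    rwa [show g = c from Subtype.ext hcg.symm]

end Ctx

end CfsgLib.Trans3.FiLarge.U6
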