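import Cfsg.Agent.Lib.Trans3.FischerType.WFix

/-!
Vectors fixed by two distinct nontrivial members of the group of order 16 lie in the plane.
-/

set_option autoImplicit false
set_option maxRecDepth 100000

namespace CfsgLib.Trans3.FiLarge.U6

open Matrix CfsgLib.Chev.U43U6 CfsgLib.Trans3.FiLarge CfsgLib.Trans3.FischerType.PairCode
open CfsgLib.Trans3.FischerType (app Real mat_injective mdec_idM idM)

local notation "hω₀" => CfsgLib.Trans3.FiLarge.isOmega_om

/-- The check. -/
def fixPairOK : Bool :=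
  wMt.all fun m => (m == idM) ||
    ((List.range 4096).filter fun c => Nat.beq (mulV m c) c).all fun c =>
      uL.contains c || wMt.all fun m' => (m' == idM) || (m' == m) || !Nat.beq (mulV m' c) c

theorem fixPair_ok : fixPairOK = true := by decide +kernel

/-- Vectors fixed by two distinct nontrivial members of `W` lie in `U`. -/
theorem w0_fix_pair : ∀ g ∈ w0.W, ∀ g' ∈ w0.W, g ≠ 1 → g' ≠ 1 → g ≠ g' →
    ∀ v : V6, mat g *ᵥ v = v → mat g' *ᵥ v = v → v ∈ w0.U := by
  rintro g ⟨m, hm, hg⟩ g' ⟨m', hm', hg'⟩ h1 h1' hne v hv hv'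
  rw [← vdec_codeV v] at hv hv' ⊢
  have hbeq : ∀ {h : GS F4} {n : List ℕ}, Real om h n → mat h *ᵥ vdec om (codeV v) = vdec om (codeV v) →
      Nat.beq (mulV n (codeV v)) (codeV v) = true := fun hh e => by
    rw [show mat _ *ᵥ vdec om (codeV v) = vdec om (mulV _ (codeV v)) from hh.app_dec hω₀ _] at e
    rw [vdec_inj hω₀ (mulV_lt' _ _) (codeV_lt v) e, Nat.beq_refl]
  have hone : ∀ {h : GS F4}, Real om h idM → h = 1 := fun hh => mat_injective
    (hh.trans (mdec_idM hω₀))
  have h := fixPair_ok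
  simp only [fixPairOK, List.all_eq_true, Bool.or_eq_true, beq_iff_eq, List.mem_filter, List.mem_range,
    List.contains_iff_mem, Bool.not_eq_eq_eq_not, Bool.not_true] at h
  rcases h m hm with rfl | h
  · exact absurd (hone hg) h1
  rcases h _ ⟨codeV_lt v, hbeq hg hv⟩ with hc | h
  · exact ⟨_, hc, rfl⟩
  rcases h m' hm' with (rfl | rfl) | h
  · exact absurd (hone hg') h1'
  · exact absurd (mat_injective (hg.trans hg'.symm)) hne
  · rw [hbeq hg' hv'] at h
    exact absurd h Bool.noConfusion

end CfsgLib.Trans3.FiLarge.U6
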