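import Cfsg.Agent.Lib.Trans3.FiLarge.U6.Setting
import Cfsg.Agent.Lib.Trans3.FiLarge.U6.FixU
import Cfsg.Agent.Lib.Trans3.FiLarge.Model
import Cfsg.Agent.Lib.Trans3.FischerType.Reduce
import Cfsg.Agent.Lib.Trans3.FischerType.PairCent

/-!
The data for the four-group exist in a group of large Fischer type.
-/

set_option autoImplicit false
set_option linter.unusedSectionVars false

namespace CfsgLib.Trans3.FiLarge.U6

open Matrix CfsgLib.Chev.U43U6 CfsgLib.Trans3.FiLarge CfsgLib.Trans3.FischerType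
open CfsgLib.Trans3.FischerType.PairCode

variable {G : Type*} [Group G] {z : G} {Q : Subgroup (Subgroup.centralizer ({z} : Set G))}

/-- The largest elementary abelian subgroup of a Sylow subgroup, in the shapes `concl_of_coord` takes. -/
def MaxData (z : G) (Q : Subgroup (Subgroup.centralizer ({z} : Set G))) : Prop :=
  ∀ (c : Coord z Q), c.b = 0 → OuterSemi c → ∀ f : WFacts c.b, WExtra f →
    (∀ u : V6, u ∈ f.U ↔ u ∈ w0.U) → (∀ g : GS F4, g ∈ f.W ↔ g ∈ w0.W) →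
    ∃ (T₀ : Sylow 2 G) (A : Subgroup G), (T₀ : Subgroup G) ≤ Subgroup.centralizer ({z} : Set G) ∧
      IsUniqueMaxElem (T₀ : Subgroup G) A ∧ Nat.card A = 2 ^ 11 ∧
      (∀ a ∈ A, ∃ m : c.M, ((m : Subgroup.centralizer ({z} : Set G)) : G) = a) ∧
      (∀ g ∈ qg Q, (g ∈ A ↔ prG c g ∈ f.U)) ∧ (∀ a ∈ A, actG c a ∈ f.W) ∧
      ∀ w ∈ f.W, ∃ a ∈ A, actG c a = w

theorem exists_fact {b : Fin 3} (hb : b = 0) : ∃ f : WFacts b, WExtra f ∧
    (∀ u : V6, u ∈ f.U ↔ u ∈ w0.U) ∧ (∀ g : GS F4, g ∈ f.W ↔ g ∈ w0.W) ∧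
    ∀ g ∈ f.W, ∀ g' ∈ f.W, g ≠ 1 → g' ≠ 1 → g ≠ g' →
      ∀ v : V6, mat g *ᵥ v = v → mat g' *ᵥ v = v → v ∈ f.U := by
  subst hb
  exact ⟨w0, ⟨w0_perp, w0_fixer, w0_smul⟩, fun _ => Iff.rfl, fun _ => Iff.rfl, w0_fix_pair⟩

theorem exists_ctx [Finite G] [Q.Normal] (hF : Cfsg.IsOfLargeFischerTypeAt z Q) (hmax : MaxData z Q) :
    Nonempty (Ctx z Q) := by
  obtain ⟨c₀⟩ := exists_coord hF
  obtain ⟨c, hb⟩ : ∃ c : Coord z Q, c.b = 0 := ⟨toZero c₀, rfl⟩
  obtain ⟨hz, hcQ⟩ := hyp_basic hF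
  obtain ⟨f, hf, hU, hW, hfix⟩ := exists_fact hb
  have hbig : ∀ q ∈ Q, InBig c.b (c.pr q) → IsConj z (q : G) := fun q hq h =>
    (big_iff_conj hF c hq (ne_z_of_orbit c hq (Or.inr h))).1 h
  obtain ⟨s, hs, hse⟩ := c.pr_surj (vdec om bigRep)
  have hsb : InBig c.b (c.pr s) := ⟨1, one_mem _, by rw [hse]; exact Matrix.one_mulVec _⟩
  have hsemi : OuterSemi c := fun h hh q hq r hr a e => outer_semi hF c hb hs hsb (hbig s hs hsb) hh hq hr e
  obtain ⟨T₀, A, hT, hu, hcard, hM, hQA, hact, hsurj⟩ := hmax c hb hsemi f hf hU hW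
  have hzq := z_mem_qg c hcQ
  have spine : ASpine c f A :=
    { z_ne := hz, z_qg := hzq, card_Q := hcQ, perp := hf.perp, elem := hu.2.1, card_A := hcard
      cent_A := PairCode.cent_le c f A hzq hf.perp hf.fixer hf.smul hsemi
        (fun a ha b hb => congrArg Subtype.val (hu.2.1.1.1.1 ⟨a, ha⟩ ⟨b, hb⟩)) hQA hM hsurj
      mem_M := hM, mem_Q := hQA, act_W := hact, act_surj := hsurj, uniq := ⟨T₀, hT, hu⟩
      conj_big := fun g hg hb => by
        obtain ⟨q, hq, rfl⟩ := hg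
        rw [Subgroup.coe_subtype, prG_coe] at hb
        exact hbig q hq hb
      conj_small := fun g hg hb => by
        obtain ⟨q, hq, rfl⟩ := hg
        rw [Subgroup.coe_subtype, prG_coe] at hb
        exact fun hc => small_ne_big hb ((big_iff_conj hF c hq (ne_z_of_orbit c hq (Or.inl hb))).2 hc) }
  obtain ⟨u, hu1, hu2⟩ := Set.nonempty_of_ncard_ne_zero (s := {u : V6 | u ∈ f.U ∧ InSmall c.b u})
    (by rw [f.card_small]; decide)
  obtain ⟨a, ha, rfl⟩ := prG_surj c u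
  obtain ⟨b, hbm, hbe⟩ := prG_surj c (om • prG c a)
  exact ⟨{ c := c, hb := hb, f := f, hf := hf, A := A, spine := spine, semi := hsemi, fix_U := hfix
           a := a, b := b, a_mem := ha, b_mem := hbm, a_U := hu1, a_small := hu2, b_eq := hbe }⟩

end CfsgLib.Trans3.FiLarge.U6
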