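import Cfsg.Agent.Lib.Trans3.FiLarge.U6.Setting
import Cfsg.Agent.Lib.Trans3.FischerType.PairModel
import Cfsg.Agent.Lib.Trans3.FischerType.PairCent

/-!
An element of `C(E)` centralising a coset of `E` with three or four conjugates of `z` carries a member of the
distinguished cosets into `A`.
-/

set_option autoImplicit false
set_option linter.unusedSectionVars false

namespace CfsgLib.Trans3.FiLarge.U6

open Matrix CfsgLib.Chev.U43U6 CfsgLib.Trans3.FiLarge CfsgLib.Trans3.FischerType.PairCode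

variable {G : Type*} [Group G] {z : G} {Q : Subgroup (Subgroup.centralizer ({z} : Set G))}

namespace Ctx

variable (X : Ctx z Q) [Finite G] [Q.Normal]

theorem cent_B {g : G} (hg : ∀ b ∈ X.A ⊓ qg Q, b * g = g * b) : g ∈ X.A := by
  have hs := X.spine
  have hgH : g ∈ Subgroup.centralizer ({z} : Set G) :=
    Subgroup.mem_centralizer_singleton_iff.2 (hg z hs.z_B).symm
  set h : Subgroup.centralizer ({z} : Set G) := ⟨g, hgH⟩
  have hfixU : ∀ q ∈ Q, X.c.pr q ∈ X.f.U → h * q * h⁻¹ = q := fun q hq hu => by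
    apply Subtype.ext
    show g * (q : G) * g⁻¹ = q
    rw [← hg (q : G) (hs.mem_B (mem_qg.2 hq) (by rwa [prG_coe])), mul_inv_cancel_right]
  by_cases hh : h ∈ X.c.M
  · set m : X.c.M := ⟨h, hh⟩
    have hW : X.c.act m ∈ X.f.W := X.hf.fixer _ (X.c.range_act ▸ ⟨m, rfl⟩) fun u hu => by
      obtain ⟨q, hq, rfl⟩ := X.c.pr_surj u
      rw [← X.c.conj_pr m q hq]
      exact congrArg X.c.pr (hfixU q hq hu)
    obtain ⟨a, ha, hae⟩ := hs.act_surj _ hW
    obtain ⟨k, rfl⟩ := hs.mem_M a ha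
    rw [actG_coe] at hae
    have hq : ((k⁻¹ * m : X.c.M) : Subgroup.centralizer ({z} : Set G)) ∈ Q :=
      (X.c.ker_act _).1 (by rw [map_mul, map_inv, hae, inv_mul_cancel])
    set q := ((k : Subgroup.centralizer ({z} : Set G)) : G)⁻¹ * g with hqdef
    have hqg : q ∈ qg Q := mem_qg.2 hq
    have hU : prG X.c q ∈ X.f.U := hs.perp _ fun u hu => by
      obtain ⟨b, hb, rfl⟩ := prG_surj X.c u
      have hbA := hs.mem_B hb hu
      refine (comm_iff_bform X.c hqg hb).1 ?_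
      rw [hqdef, mul_assoc, ← hg b hbA, ← mul_assoc, hs.comm (inv_mem ha) (Subgroup.mem_inf.1 hbA).1,
        mul_assoc]
    have : g = ((k : Subgroup.centralizer ({z} : Set G)) : G) * q := by rw [hqdef, mul_inv_cancel_left]
    rw [this]
    exact mul_mem ha ((hs.mem_Q q hqg).2 hU)
  · exfalso
    obtain ⟨u, hu, hus⟩ := Set.nonempty_of_ncard_ne_zero (s := {u : V6 | u ∈ X.f.U ∧ InSmall X.c.b u})
      (by rw [X.f.card_small]; decide)
    obtain ⟨q, hq, rfl⟩ := X.c.pr_surj u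
    obtain ⟨r, hr, hre⟩ := X.c.pr_surj (om • X.c.pr q)
    have h2 := X.semi h hh q hq r hr om hre
    rw [hfixU r hr (hre ▸ X.hf.smul _ hu om), hfixU q hq hu, hre] at h2
    obtain ⟨i, hi⟩ := Function.ne_iff.1 (isotropic_of_orbit (Or.inl hus)).1
    exact om_ne_sq (mul_right_cancel₀ hi (congrFun h2.symm i))

theorem mem_A_of_comm {e e' q : G} (he : e ∈ X.A) (he' : e' ∈ X.A) (h1 : e ∉ qg Q) (h2 : e' ∉ qg Q)
    (h3 : e * e' ∉ qg Q) (hq : q ∈ qg Q) (hc : q * e = e * q) (hc' : q * e' = e' * q) :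
    q ∈ X.A ⊓ qg Q := by
  have hs := X.spine
  have hfix : ∀ a ∈ X.A, q * a = a * q → mat (actG X.c a) *ᵥ prG X.c q = prG X.c q := fun a ha h => by
    have h4 := (hs.conj_q ha hq).2.2.2
    rw [h, mul_inv_cancel_right, hs.sq ha, prG_one] at h4
    have h5 : mat (actG X.c a) *ᵥ prG X.c q + prG X.c q + prG X.c q = prG X.c q := by rw [← h4, zero_add]
    rwa [add_assoc, pf_self, add_zero] at h5
  have hne : actG X.c e ≠ actG X.c e' := fun h => h3 <| (hs.actG_eq_one (mul_mem he he')).1 <| by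
    rw [hs.actG_mul he he', h, ← hs.actG_mul he' he', hs.sq he', (hs.actG_eq_one (one_mem _)).2 (one_mem _)]
  exact hs.mem_B hq (X.fix_U _ (hs.act_W e he) _ (hs.act_W e' he') (hs.w_ne he h1) (hs.w_ne he' h2) hne _
    (hfix e he hc) (hfix e' he' hc'))

theorem tout_mul_z {a : G} (ha : a ∈ tout z X.A (qg Q)) : a * z ∉ tcls z X.A := fun h =>
  X.spine.one_of ha (x := 1) (one_mem _) ⟨by rw [mul_one]; exact ha.1, by rwa [one_mul]⟩

theorem notMem_of_zcls {a : G} (ha : a ∈ tcls z X.A) (h : a * z ∈ zcls z X.A) : a ∉ qg Q := fun hQ =>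
  (X.spine.tin_z ⟨ha, hQ⟩).1.1.2.2 h.2

theorem mem_of_tcls {a : G} (ha : a ∈ tcls z X.A) (h : a * z ∈ tcls z X.A) : a ∈ qg Q := by
  by_contra hQ
  exact X.tout_mul_z ⟨ha, hQ⟩ h

theorem exists_conj {w : G} (hw : w ∈ zcls z X.A) :
    ∃ n ∈ Subgroup.normalizer (X.A : Set G), n * z * n⁻¹ = w := by
  obtain ⟨g, hg⟩ := isConj_iff.1 hw.2
  obtain ⟨n, hn, e⟩ := X.spine.localData.fusion z X.spine.localData.z_A g (hg ▸ hw.1)
  exact ⟨n, hn, e.trans hg⟩

theorem pull {n w a : G} (hn : n ∈ Subgroup.normalizer (X.A : Set G)) (hw : n * z * n⁻¹ = w) :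
    (a ∈ tcls z X.A → n⁻¹ * a * n ∈ tcls z X.A) ∧ (a ∈ zcls z X.A → n⁻¹ * a * n ∈ zcls z X.A) ∧
      n⁻¹ * a * n * z = n⁻¹ * (a * w) * n := by
  refine ⟨fun h => ?_, fun h => ?_, by subst hw; group⟩
  · simpa using X.spine.localData.tcls_conj (inv_mem hn) h
  · simpa using X.spine.localData.zcls_conj (inv_mem hn) h

theorem E_tcls (hA : X.AFacts) {e : G} (he : e ∈ X.E) (h1 : e ≠ 1) : e ∈ tcls z X.A :=
  ⟨hA.E_le he, h1, (hA.E_small e he h1).2.1⟩

theorem zc_z_one (hA : X.AFacts) : X.zc z = 1 := by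
  rw [Ctx.zc, Set.ncard_eq_one]
  refine ⟨1, Set.ext fun e => ⟨fun ⟨he, hc⟩ => ?_, fun h => ?_⟩⟩
  · by_contra h1
    obtain ⟨hQ, -, -⟩ := hA.E_small e he h1
    have h := (X.spine.tin_z ⟨X.E_tcls hA he h1, hQ⟩).1.1.2.2
    rw [show z * e = e * z from X.spine.comm X.spine.localData.z_A (hA.E_le he)] at hc
    exact h hc
  · rw [Set.mem_singleton_iff] at h
    subst h
    exact ⟨one_mem _, by rw [mul_one]⟩

theorem E_ncard (hA : X.AFacts) : (X.E : Set G).ncard = 4 := by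
  rw [← Nat.card_coe_set_eq]
  exact hA.E_card

theorem comm_E {g e : G} (hg : g ∈ X.CE) (he : e ∈ X.E) : g * e = e * g :=
  ((Subgroup.mem_centralizer_iff.1 hg) e he).symm

theorem two_fix (hA : X.AFacts) {x : G} (hx : x ∈ X.A) (h3 : X.zc x = 3) {g : G} (hg : g ∈ X.CE)
    (hgx : (g * x * g⁻¹)⁻¹ * x ∈ X.E) : ∃ p ∈ X.A, X.zc p = 1 ∧ g * p * g⁻¹ ∈ X.A := by
  obtain ⟨e, he, w, hw, s, hs, hwx, he1, hew, hsw, hse, hsew, hs1⟩ := hA.two_label x hx h3
  -- the coset has one element not conjugate to `z`, so all its elements are fixed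
  have hone : {d : G | d ∈ X.E ∧ ¬ IsConj z (x * d)}.ncard = 1 := by
    have h := Set.ncard_inter_add_ncard_sdiff_eq_ncard (X.E : Set G) {d : G | IsConj z (x * d)} (Set.toFinite _)
    rw [show ((X.E : Set G) ∩ {d : G | IsConj z (x * d)}).ncard = 3 from h3, X.E_ncard hA] at h
    have : ((X.E : Set G) \ {d : G | IsConj z (x * d)}).ncard = 1 := by omega
    exact this
  obtain ⟨d, hd⟩ := Set.ncard_eq_one.1 hone
  have hdm : d ∈ {d : G | d ∈ X.E ∧ ¬ IsConj z (x * d)} := hd ▸ rfl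
  have hgd : g * (x * d) * g⁻¹ = g * x * g⁻¹ * d := by
    rw [show g * (x * d) * g⁻¹ = g * x * (d * g⁻¹) by group,
      show d * g⁻¹ = g⁻¹ * d from (X.comm_E (inv_mem hg) hdm.1).symm, ← mul_assoc]
  have hfix : g * x * g⁻¹ = x := by
    have hy : x⁻¹ * (g * x * g⁻¹) * d ∈ {d : G | d ∈ X.E ∧ ¬ IsConj z (x * d)} := by
      refine ⟨mul_mem ?_ hdm.1, fun h => hdm.2 ?_⟩
      · have := inv_mem hgx
        rwa [_root_.mul_inv_rev, inv_inv] at this
      · rw [show x * (x⁻¹ * (g * x * g⁻¹) * d) = g * x * g⁻¹ * d by group, ← hgd] at h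
        exact h.trans (isConj_iff.2 ⟨g⁻¹, by group⟩)
    rw [hd, Set.mem_singleton_iff] at hy
    have := mul_right_cancel (hy.trans (one_mul d).symm)
    rwa [inv_mul_eq_one, eq_comm] at this
  have hgw : g * w = w * g := by
    have h1 : g * (w⁻¹ * x) = w⁻¹ * x * g := X.comm_E hg hwx
    have h2 : g * x = x * g := mul_inv_eq_iff_eq_mul.1 hfix
    have h3 : Commute g (x * (w⁻¹ * x)⁻¹) := (show Commute g x from h2).mul_right (show Commute g _ from h1).inv_right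
    simpa using h3.eq
  obtain ⟨n, hn, hnz⟩ := X.exists_conj hw
  obtain ⟨-, -, pe⟩ := X.pull (a := e) hn hnz
  obtain ⟨-, -, ps⟩ := X.pull (a := s) hn hnz
  obtain ⟨-, -, pse⟩ := X.pull (a := s * e) hn hnz
  have he' := (X.pull (a := e) hn hnz).1 (X.E_tcls hA he he1)
  have hs' := (X.pull (a := s) hn hnz).1 hs
  have hse' := (X.pull (a := s * e) hn hnz).1 hse
  have heQ := X.notMem_of_zcls he' (by rw [pe]; exact (X.pull hn hnz).2.1 hew)
  have hseQ : n⁻¹ * (s * e) * n ∈ qg Q := X.mem_of_tcls hse' (by rw [pse]; exact (X.pull hn hnz).1 hsew)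
  set e' := n⁻¹ * e * n with he'def
  set t' := n⁻¹ * (s * e) * n
  set g' := n⁻¹ * g * n with hg'def
  have hs'e : n⁻¹ * s * n = e' * t' := by
    have h1 : e' * t' = n⁻¹ * (e * (s * e)) * n := by simp only [e', t']; group
    rw [h1, X.spine.comm hs.1 (hA.E_le he), ← mul_assoc e e, X.spine.sq (hA.E_le he), one_mul]
  have hcorb : e' * t' ∈ corb (qg Q) e' :=
    (X.spine.adj_iff ⟨he', heQ⟩ (Subgroup.mem_inf.2 ⟨hse'.1, hseQ⟩)).1 (hs'e ▸ hs')
  obtain ⟨q, hq, hqe⟩ := hcorb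
  have hg'z : g' ∈ Subgroup.centralizer ({z} : Set G) := by
    refine Subgroup.mem_centralizer_singleton_iff.2 ?_
    have : z = n⁻¹ * w * n := by rw [← hnz]; group
    rw [hg'def, this, show n⁻¹ * g * n * (n⁻¹ * w * n) = n⁻¹ * (g * w) * n by group, hgw]
    group
  have hg'e : g' * e' * g'⁻¹ = e' := by
    rw [hg'def, he'def, show n⁻¹ * g * n * (n⁻¹ * e * n) * (n⁻¹ * g * n)⁻¹ = n⁻¹ * (g * e * g⁻¹) * n by group,
      X.comm_E hg he, mul_inv_cancel_right]
  have hmem : g' * (e' * t') * g'⁻¹ ∈ X.A := by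
    have hqe' : q * e' * q⁻¹ = e' * t' := hqe
    rw [← hqe', show g' * (q * e' * q⁻¹) * g'⁻¹ =
      (g' * q * g'⁻¹) * (g' * e' * g'⁻¹) * (g' * q * g'⁻¹)⁻¹ by group, hg'e]
    exact (X.spine.conj_q he'.1 (conj_mem_qg hg'z hq)).1
  refine ⟨s, hs.1, hs1, ?_⟩
  have h := X.spine.localData.conj_mem hn hmem
  rwa [← hs'e, hg'def, show n * (n⁻¹ * g * n * (n⁻¹ * s * n) * (n⁻¹ * g * n)⁻¹) * n⁻¹ = g * s * g⁻¹ by group] at h

theorem three_fix (hA : X.AFacts) {x : G} (hx : x ∈ X.A) (h4 : X.zc x = 4) {g : G} (hg : g ∈ X.CE)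
    (hgx : (g * x * g⁻¹)⁻¹ * x ∈ X.E) : g ∈ Subgroup.normalizer (X.A : Set G) := by
  have hall : ∀ e ∈ X.E, IsConj z (x * e) := by
    have hsub : {e : G | e ∈ X.E ∧ IsConj z (x * e)} ⊆ (X.E : Set G) := fun e he => he.1
    have h := Set.eq_of_subset_of_ncard_le hsub (by
      rw [show {e : G | e ∈ X.E ∧ IsConj z (x * e)}.ncard = 4 from h4, X.E_ncard hA]) (Set.toFinite _)
    exact fun e he => (h.symm ▸ he : e ∈ {e : G | e ∈ X.E ∧ IsConj z (x * e)}).2
  have hcoset : ∀ e ∈ X.E, x * e ∈ zcls z X.A := fun e he => ⟨mul_mem hx (hA.E_le he), hall e he⟩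
  obtain ⟨x', hx', hx'e⟩ : ∃ x', x' ∈ zcls z X.A ∧ g * x * g⁻¹ = x' := by
    refine ⟨_, ?_, rfl⟩
    have h := hcoset _ (inv_mem hgx)
    rwa [_root_.mul_inv_rev, inv_inv, mul_inv_cancel_left] at h
  have hall' : ∀ e ∈ X.E, x' * e ∈ zcls z X.A := fun e he => by
    have hd : x⁻¹ * x' ∈ X.E := by
      have := inv_mem hgx
      rwa [_root_.mul_inv_rev, inv_inv, hx'e] at this
    simpa [mul_assoc] using hcoset _ (mul_mem hd he)
  obtain ⟨n, hn, hnz⟩ := X.exists_conj ⟨hx, by simpa using hall 1 (one_mem _)⟩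
  obtain ⟨m, hm, hmz⟩ := X.exists_conj hx'
  set h := m⁻¹ * g * n with hdef
  have hhz : h ∈ Subgroup.centralizer ({z} : Set G) := by
    refine Subgroup.mem_centralizer_singleton_iff.2 ?_
    have e1 : n * z = x * n := mul_inv_eq_iff_eq_mul.1 hnz
    have e2 : m⁻¹ * x' = z * m⁻¹ := by rw [← hmz]; group
    calc m⁻¹ * g * n * z = m⁻¹ * g * (n * z) := by group
      _ = m⁻¹ * (g * x * g⁻¹) * g * n := by rw [e1]; group
      _ = z * (m⁻¹ * g * n) := by rw [hx'e, e2]; group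
  -- two members of the conjugate of `E`, both and their product outside `Q`
  obtain ⟨e, he, he1⟩ : ∃ e ∈ X.E, e ≠ 1 := by
    by_contra hc
    push_neg at hc
    have : (X.E : Set G) ⊆ {1} := fun e he => hc e he
    have h4' := Set.ncard_le_ncard this (Set.toFinite _)
    rw [X.E_ncard hA, Set.ncard_singleton] at h4'
    omega
  obtain ⟨d, hd, hd1, hde⟩ : ∃ d ∈ X.E, d ≠ 1 ∧ d ≠ e := by
    by_contra hc
    push_neg at hc
    have : (X.E : Set G) ⊆ {1, e} := fun d hd => (em (d = 1)).imp id (hc d hd)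
    have h4' := (Set.ncard_le_ncard this (Set.toFinite _)).trans (Set.ncard_insert_le _ _)
    rw [X.E_ncard hA, Set.ncard_singleton] at h4'
    omega
  have hed1 : e * d ≠ 1 := fun h0 => hde (by
    rw [← one_mul d, ← X.spine.sq (hA.E_le he), mul_assoc, h0, mul_one])
  have hout : ∀ u ∈ X.E, u ≠ 1 → m⁻¹ * u * m ∉ qg Q := fun u hu hu1 =>
    X.notMem_of_zcls ((X.pull hm hmz).1 (X.E_tcls hA hu hu1)) (by
      rw [(X.pull (a := u) hm hmz).2.2]
      refine (X.pull hm hmz).2.1 ?_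
      rw [X.spine.comm (hA.E_le hu) hx'.1]
      exact hall' u hu)
  have hA' : ∀ u ∈ X.A, m⁻¹ * u * m ∈ X.A := fun u hu => by
    simpa using X.spine.localData.conj_mem (inv_mem hm) hu
  have hmap : ∀ b ∈ X.A ⊓ qg Q, h * b * h⁻¹ ∈ X.A ⊓ qg Q := by
    intro b hb
    obtain ⟨hb1, hb2⟩ := Subgroup.mem_inf.1 hb
    have hq := conj_mem_qg hhz hb2
    have hcomm : ∀ u ∈ X.E, h * b * h⁻¹ * (m⁻¹ * u * m) = m⁻¹ * u * m * (h * b * h⁻¹) := fun u hu => by
      have c1 : Commute u (n * b * n⁻¹) := X.spine.comm (hA.E_le hu) (X.spine.localData.conj_mem hn hb1)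
      have c2 : Commute g u := X.comm_E hg hu
      have c3 : Commute u (g * (n * b * n⁻¹) * g⁻¹) := (c2.symm.mul_right c1).mul_right c2.symm.inv_right
      rw [hdef, show m⁻¹ * g * n * b * (m⁻¹ * g * n)⁻¹ * (m⁻¹ * u * m) =
        m⁻¹ * (g * (n * b * n⁻¹) * g⁻¹ * u) * m by group, ← c3.eq]
      group
    exact X.mem_A_of_comm (hA' e (hA.E_le he)) (hA' d (hA.E_le hd)) (hout e he he1) (hout d hd hd1)
      (by rw [show m⁻¹ * e * m * (m⁻¹ * d * m) = m⁻¹ * (e * d) * m by group]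
          exact hout _ (mul_mem he hd) hed1) hq (hcomm e he) (hcomm d hd)
  have hN : h ∈ Subgroup.normalizer ((X.A ⊓ qg Q : Subgroup G) : Set G) := mem_normalizer_of_maps' hmap
  have hNA : h ∈ Subgroup.normalizer (X.A : Set G) := mem_normalizer_of_maps' fun a ha => X.cent_B fun b hb => by
    have hb' : h⁻¹ * b * h ∈ X.A ⊓ qg Q := by
      have := (Subgroup.mem_normalizer_iff.1 (inv_mem hN) b).1 hb
      simpa using this
    have e1 := X.spine.comm (Subgroup.mem_inf.1 hb').1 ha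
    calc b * (h * a * h⁻¹) = h * ((h⁻¹ * b * h) * a) * h⁻¹ := by group
      _ = h * (a * (h⁻¹ * b * h)) * h⁻¹ := by rw [e1]
      _ = h * a * h⁻¹ * b := by group
  have : g = m * h * n⁻¹ := by rw [hdef]; group
  rw [this]
  exact mul_mem (mul_mem hm hNA) (inv_mem hn)

theorem fixFacts (hA : X.AFacts) : X.FixFacts := fun x hx h34 g hg hgx => by
  rcases h34 with h | h
  · exact X.two_fix hA hx h hg hgx
  · exact ⟨z, X.spine.localData.z_A, X.zc_z_one hA,
      X.spine.localData.conj_mem (X.three_fix hA hx h hg hgx) X.spine.localData.z_A⟩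

end Ctx

end CfsgLib.Trans3.FiLarge.U6
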