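import Cfsg.Agent.Lib.Trans3.FiLarge.U6.Top
import Cfsg.Agent.Lib.Trans3.FiLarge.U6.AFacts
import Cfsg.Agent.Lib.Trans3.FiLarge.U6.Fix
import Cfsg.Agent.Lib.Trans3.FiLarge.U6.Exists

/-!
`C(E)` for the four-group of a small involution, from the centraliser facts and the largest elementary
abelian subgroup.
-/

set_option autoImplicit false

namespace CfsgLib.Trans3.FiLarge.U6

theorem four_group_centralizer {G : Type*} [Group G] [Finite G] {z : G}
    {Q : Subgroup (Subgroup.centralizer ({z} : Set G))} [Q.Normal] (hF : Cfsg.IsOfLargeFischerTypeAt z Q)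
    (hmax : MaxData z Q) (hC : ∀ X : Ctx z Q, X.AFacts → X.CentFacts) :
    ∃ E : Subgroup G, E ≤ (Q.map (Subgroup.centralizer ({z} : Set G)).subtype) ∧ Cfsg.IsElementaryAbelian 2 E ∧
      Nat.card E = 4 ∧ z ∉ E ∧ (∃ t ∈ E, orderOf t = 2 ∧ ¬ IsConj z t) ∧
      Cfsg.IsQuasisimple ↥(Subgroup.centralizer (E : Set G)) ∧
      ∃ (_ : (E.subgroupOf (Subgroup.centralizer (E : Set G))).Normal) (K : Type) (_ : Field K) (_ : Fintype K),
        Fintype.card K = 4 ∧ Nonempty (↥(Subgroup.centralizer (E : Set G)) ⧸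
          E.subgroupOf (Subgroup.centralizer (E : Set G)) ≃* Cfsg.PSU 6 K 2) := by
  obtain ⟨X⟩ := exists_ctx hF hmax
  exact X.conclusion X.afacts (hC X X.afacts) (X.fixFacts X.afacts)

end CfsgLib.Trans3.FiLarge.U6
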