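import Cfsg.Agent.Lib.Trans3.FiLarge.U6.CentGroup

/-!
The local conditions at every member of the class.
-/

set_option autoImplicit false
set_option linter.unusedSectionVars false

namespace CfsgLib.Trans3.FiLarge.U6

open Matrix CfsgLib.Trans3.FiLarge CfsgLib.Trans3.FischerType.PairCode
open CfsgLib.Chev.U43U6 hiding orth
open CfsgLib.Trans3.FiLarge.SmallStab (orth)

/-- Collinearity of points. -/
def qcol (i j : Fin 45) : Prop := i ≠ j ∧ orth i j = true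

instance (i j : Fin 45) : Decidable (qcol i j) := inferInstanceAs (Decidable (_ ∧ _))

theorem qcol_counts : (∀ p : Fin 45, (Finset.univ.filter fun q => (p != q && orth p q) = true).card = 12) ∧
    (∀ p q : Fin 45, p ≠ q →
      (Finset.univ.filter fun r => ((p != r && orth p r) && (q != r && orth q r)) = true).card = 3) := by
  refine ⟨by decide +kernel, by decide +kernel⟩

theorem qcol_bool {i j : Fin 45} : qcol i j ↔ (i != j && orth i j) = true := by simp [qcol]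

theorem qcol_degree (p : Fin 45) : {q | qcol p q}.ncard = 12 := by
  rw [← qcol_counts.1 p, Set.ncard_eq_toFinset_card']
  congr 1; ext q; rw [Set.mem_toFinset]; simp [qcol]

theorem qcol_perp (p q : Fin 45) (h : p ≠ q) : {r | qcol p r ∧ qcol q r}.ncard = 3 := by
  rw [← qcol_counts.2 p q h, Set.ncard_eq_toFinset_card']
  congr 1; ext r; rw [Set.mem_toFinset]; simp [qcol]

theorem qcol_conn (S : Set (Fin 45)) (hS : S.Nonempty) (hcl : ∀ p ∈ S, ∀ q, qcol p q → q ∈ S) :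
    S = Set.univ := by
  obtain ⟨p, hp⟩ := hS
  refine Set.eq_univ_of_forall fun q => ?_
  by_cases h : p = q
  · exact h ▸ hp
  obtain ⟨r, hr1, hr2⟩ := Set.nonempty_of_ncard_ne_zero
    (show {r | qcol p r ∧ qcol q r}.ncard ≠ 0 by rw [qcol_perp p q h]; norm_num)
  exact hcl r (hcl p hp r hr1) q ⟨hr2.1.symm, quad_facts.2.2 r q ▸ hr2.2⟩

variable {G : Type*} [Group G] [Finite G] {z : G} {Q : Subgroup (Subgroup.centralizer ({z} : Set G))}
  [Q.Normal]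

namespace Ctx

variable (X : Ctx z Q)

theorem mem_D_iff {y : X.Y} : y ∈ X.D ↔ ∃ g : X.CE, (g : G) ∈ X.DG ∧ X.img g = y := by
  constructor
  · rintro ⟨g, hg, hc⟩
    obtain ⟨c, rfl⟩ := isConj_iff.1 hc
    obtain ⟨n, rfl⟩ := QuotientGroup.mk'_surjective X.EC c
    refine ⟨n * g * n⁻¹, ⟨n, n.2, by simp only [Subgroup.coe_mul, Subgroup.coe_inv, hg]⟩, ?_⟩
    simp only [img, map_mul, map_inv]
  · rintro ⟨g, ⟨n, hn, e⟩, rfl⟩
    refine ⟨⟨z, X.z_CE⟩, rfl, isConj_iff.2 ⟨X.img ⟨n, hn⟩, ?_⟩⟩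
    have h : g = ⟨n, hn⟩ * ⟨z, X.z_CE⟩ * ⟨n, hn⟩⁻¹ := Subtype.ext e.symm
    rw [h]
    simp only [img, map_mul, map_inv]

theorem DG_comm (hA : X.AFacts) {g g' : X.CE} (hg' : (g' : G) ∈ X.DG) :
    Commute (X.img g) (X.img g') ↔ (g : G) * g' = g' * g := by
  constructor
  · intro h
    have e : X.img g' = X.img (g * g' * g⁻¹) := by
      simp only [img, map_mul, map_inv]
      exact eq_mul_inv_of_mul_eq h.eq.symm
    have := X.DG_eq hA hg' (X.DG_conj hg' g.2) (X.img_eq.1 e)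
    exact (mul_inv_eq_iff_eq_mul.1 this.symm)
  · intro h
    show X.img g * X.img g' = X.img g' * X.img g
    rw [← X.img_mul, ← X.img_mul]
    exact congrArg X.img (Subtype.ext h)

theorem mem_nbr (hA : X.AFacts) {y : X.Y} :
    y ∈ nbr X.D X.zY ↔ ∃ g : X.CE, (g : G) ∈ X.NG ∧ X.img g = y := by
  constructor
  · rintro ⟨hD, hne, hc⟩
    obtain ⟨g, hg, rfl⟩ := X.mem_D_iff.1 hD
    have h := (X.DG_comm hA (g := ⟨z, X.z_CE⟩) hg).1 hc
    exact ⟨g, ⟨hg, fun e => hne (congrArg X.img (Subtype.ext e)), h.symm⟩, rfl⟩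
  · rintro ⟨g, ⟨hg, hne, hc⟩, rfl⟩
    refine ⟨X.mem_D_iff.2 ⟨g, hg, rfl⟩, fun e => hne ?_, ?_⟩
    · exact X.DG_eq hA hg X.z_DG (X.img_eq.1 e)
    · exact (X.DG_comm hA (g := ⟨z, X.z_CE⟩) hg).2 hc.symm

open _root_.Classical in
/-- The point of a neighbour of the image of `z`. -/
noncomputable def ptY (y : X.Y) : Fin 45 :=
  if h : ∃ p, ∃ g : X.CE, (g : G) ∈ X.NG ∧ X.img g = y ∧ X.mdl.HasPt (X.act g) p then h.choose else 0

theorem ptY_eq (hA : X.AFacts) {g : X.CE} (hg : (g : G) ∈ X.NG) {p : Fin 45} (hp : X.mdl.HasPt (X.act g) p) :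
    X.ptY (X.img g) = p := by
  have h : ∃ p, ∃ g' : X.CE, (g' : G) ∈ X.NG ∧ X.img g' = X.img g ∧ X.mdl.HasPt (X.act g') p :=
    ⟨p, g, hg, rfl, hp⟩
  rw [ptY, dif_pos h]
  obtain ⟨g', hg', he, hp'⟩ := h.choose_spec
  rw [X.DG_eq hA hg'.1 hg.1 (X.img_eq.1 he)] at hp'
  exact hp'.unique hp

theorem nbr_lift (hA : X.AFacts) {y : X.Y} (hy : y ∈ nbr X.D X.zY) :
    ∃ g : X.CE, (g : G) ∈ X.fib (X.ptY y) ∧ X.img g = y := by
  obtain ⟨g, hg, rfl⟩ := (X.mem_nbr hA).1 hy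
  obtain ⟨p, hp⟩ := X.exists_hasPt hA hg
  exact ⟨g, ⟨hg, (X.ptY_eq hA hg hp).symm ▸ hp⟩, rfl⟩

theorem fibre_zY (hA : X.AFacts) (p : Fin 45) : {b | b ∈ nbr X.D X.zY ∧ X.ptY b = p}.ncard = 4 := by
  rw [← X.fib_ncard hA p]
  refine (Set.ncard_congr (fun h hh => X.img ⟨h, (X.NG_HE hh.1).1⟩) (fun h hh => ?_) (fun a b ha hb e => ?_) ?_).symm
  · exact ⟨(X.mem_nbr hA).2 ⟨_, hh.1, rfl⟩, X.ptY_eq hA (g := ⟨h, (X.NG_HE hh.1).1⟩) hh.1 hh.2⟩
  · exact X.DG_eq hA ha.1.1 hb.1.1 (X.img_eq.1 e)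
  · rintro y ⟨hy, rfl⟩
    obtain ⟨g, hg, rfl⟩ := X.nbr_lift hA hy
    exact ⟨g, hg, rfl⟩

theorem comm_zY (hA : X.AFacts) {b c : X.Y} (hb : b ∈ nbr X.D X.zY) (hc : c ∈ nbr X.D X.zY) :
    Commute b c ↔ X.ptY b = X.ptY c ∨ qcol (X.ptY b) (X.ptY c) := by
  obtain ⟨g, hg, rfl⟩ := X.nbr_lift hA hb
  obtain ⟨g', hg', rfl⟩ := X.nbr_lift hA hc
  rw [X.DG_comm hA hg'.1.1]
  constructor
  · intro h
    by_cases e : X.ptY (X.img g) = X.ptY (X.img g')
    · exact Or.inl e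
    refine Or.inr ⟨e, ?_⟩
    by_contra ho
    exact X.NG_not_commute hA hg.1 hg'.1 hg.2 hg'.2 ho h
  · intro h
    refine X.NG_commute hA hg.1 hg'.1 hg.2 hg'.2 ?_
    rcases h with e | e
    · rw [e]; exact quad_facts.1 _
    · exact e.2

theorem braid_zY (hA : X.AFacts) {b c : X.Y} (hb : b ∈ nbr X.D X.zY) (hc : c ∈ nbr X.D X.zY)
    (hbc : ¬ Commute b c) : (b * c) ^ 3 = 1 := by
  have ho := fun h => hbc ((X.comm_zY hA hb hc).2 h)
  obtain ⟨g, hg, rfl⟩ := X.nbr_lift hA hb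
  obtain ⟨g', hg', rfl⟩ := X.nbr_lift hA hc
  have h3 := X.NG_braid hA hg.1 hg'.1 hg.2 hg'.2 (fun e => ho (by
    by_cases e' : X.ptY (X.img g) = X.ptY (X.img g')
    exacts [Or.inl e', Or.inr ⟨e', e⟩]))
  rw [← X.img_mul, ← show X.img ((g * g') ^ 3) = X.img (g * g') ^ 3 from map_pow _ _ _, X.img_eq_one]
  rw [Subgroup.coe_pow, Subgroup.coe_mul, h3]
  exact one_mem _

theorem prod_zY (hA : X.AFacts) {b c d e : X.Y} (hb : b ∈ nbr X.D X.zY) (hc : c ∈ nbr X.D X.zY)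
    (hd : d ∈ nbr X.D X.zY) (he : e ∈ nbr X.D X.zY) (h1 : X.ptY c = X.ptY b) (h2 : X.ptY d = X.ptY b)
    (h3 : X.ptY e = X.ptY b) (bc : b ≠ c) (bd : b ≠ d) (be : b ≠ e) (cd : c ≠ d) (ce : c ≠ e) (de : d ≠ e) :
    X.zY * b * c * d * e = 1 := by
  obtain ⟨gb, hgb, rfl⟩ := X.nbr_lift hA hb
  obtain ⟨gc, hgc, rfl⟩ := X.nbr_lift hA hc
  obtain ⟨gd, hgd, rfl⟩ := X.nbr_lift hA hd
  obtain ⟨ge, hge, rfl⟩ := X.nbr_lift hA he
  have ne : ∀ {x y : X.CE}, X.img x ≠ X.img y → (x : G) ≠ y := fun h e => h (congrArg X.img (Subtype.ext e))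
  have hp := X.fib_prod hA hgb (h1 ▸ hgc) (h2 ▸ hgd) (h3 ▸ hge) (ne bc) (ne bd) (ne be) (ne cd) (ne ce) (ne de)
  rw [zY, ← X.img_mul, ← X.img_mul, ← X.img_mul, ← X.img_mul, X.img_eq_one]
  rw [show ((⟨z, X.z_CE⟩ * gb * gc * gd * ge : X.CE) : G) = z * ((gb : G) * gc * gd * ge) by
    simp only [Subgroup.coe_mul]; group, hp, X.spine.zz]
  exact one_mem _

theorem gen_zY (hA : X.AFacts) :
    Subgroup.closure (nbr X.D X.zY) = Subgroup.centralizer ({X.zY} : Set X.Y) := by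
  refine le_antisymm ((Subgroup.closure_le _).2 fun y hy => Subgroup.mem_centralizer_singleton_iff.2 hy.2.2.eq.symm) ?_
  intro y hy
  rw [← X.imgH_range hA] at hy
  obtain ⟨h, rfl⟩ := hy
  have key : ∀ x ∈ X.KG, ∀ hx : x ∈ X.CE, X.img ⟨x, hx⟩ ∈ Subgroup.closure (nbr X.D X.zY) := by
    intro x hxK
    induction hxK using Subgroup.closure_induction with
    | mem x hx =>
      intro hxC
      rcases hx with hx | hx
      · exact Subgroup.subset_closure ((X.mem_nbr hA).2 ⟨⟨x, hxC⟩, hx, rfl⟩)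
      · rw [X.img_eq_one.2 (show ((⟨x, hxC⟩ : X.CE) : G) ∈ X.E from hx)]; exact one_mem _
    | one =>
      intro h1
      rw [X.img_eq_one.2 (show ((⟨1, h1⟩ : X.CE) : G) ∈ X.E from one_mem _)]; exact one_mem _
    | mul a b ha hb iha ihb =>
      intro hab
      have haC := (X.KG_le hA ha).1
      have hbC := (X.KG_le hA hb).1
      rw [show (⟨a * b, hab⟩ : X.CE) = ⟨a, haC⟩ * ⟨b, hbC⟩ from rfl, X.img_mul]
      exact mul_mem (iha haC) (ihb hbC)
    | inv a ha iha =>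
      intro haI
      have haC := (X.KG_le hA ha).1
      rw [show (⟨a⁻¹, haI⟩ : X.CE) = ⟨a, haC⟩⁻¹ from rfl,
        show X.img (⟨a, haC⟩ : X.CE)⁻¹ = (X.img ⟨a, haC⟩)⁻¹ from map_inv _ _]
      exact inv_mem (iha haC)
  exact key h (by rw [X.KG_eq hA]; exact h.2) h.2.1

theorem exists_tr {a : X.Y} (ha : a ∈ X.D) : ∃ t : X.Y, t * X.zY * t⁻¹ = a := by
  obtain ⟨g, hg, hc⟩ := ha
  have e : X.img g = X.zY := congrArg X.img (Subtype.ext hg)
  rw [e] at hc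
  exact isConj_iff.1 hc

open _root_.Classical in
/-- A conjugating element from the image of `z`. -/
noncomputable def trY (a : X.Y) : X.Y := if h : ∃ t : X.Y, t * X.zY * t⁻¹ = a then h.choose else 1

/-- The point map. -/
noncomputable def fY (a b : X.Y) : Fin 45 := X.ptY ((X.trY a)⁻¹ * b * X.trY a)

theorem D_conj {y : X.Y} (hy : y ∈ X.D) (t : X.Y) : t * y * t⁻¹ ∈ X.D := by
  obtain ⟨g, hg, hc⟩ := hy
  exact ⟨g, hg, hc.trans (isConj_iff.2 ⟨t, rfl⟩)⟩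

theorem zY_D : X.zY ∈ X.D := ⟨⟨z, X.z_CE⟩, rfl, IsConj.refl _⟩

theorem D_order (hA : X.AFacts) {a : X.Y} (ha : a ∈ X.D) : orderOf a = 2 := by
  obtain ⟨t, rfl⟩ := X.exists_tr ha
  rw [← MulAut.conj_apply, ← MulEquiv.coe_toMonoidHom, orderOf_injective _ (MulEquiv.injective _)]
  refine orderOf_eq_prime ?_ fun e => hA.z_notMem (X.img_eq_one.1 e)
  rw [pow_two, zY, ← X.img_mul, X.img_eq_one, Subgroup.coe_mul, X.spine.zz]
  exact one_mem _

/-- Transport to the image of `z`. -/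
theorem sigma_facts {a : X.Y} (ha : a ∈ X.D) :
    let σ := MulAut.conj (X.trY a)⁻¹
    σ a = X.zY ∧ (∀ b, b ∈ nbr X.D a → σ b ∈ nbr X.D X.zY) ∧ (∀ b, σ b ∈ nbr X.D X.zY → b ∈ nbr X.D a) ∧
      (∀ b, X.fY a b = X.ptY (σ b)) ∧
      (∀ g, g ∈ Subgroup.centralizer ({a} : Set X.Y) ↔ σ g ∈ Subgroup.centralizer ({X.zY} : Set X.Y)) := by
  intro σ
  have h := X.exists_tr ha
  have e : X.trY a * X.zY * (X.trY a)⁻¹ = a := by rw [trY, dif_pos h]; exact h.choose_spec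
  have ea : σ a = X.zY := by
    show (X.trY a)⁻¹ * a * (X.trY a)⁻¹⁻¹ = _
    conv_lhs => arg 1; arg 2; rw [← e]
    group
  have hD : ∀ b, b ∈ X.D ↔ σ b ∈ X.D := fun b => ⟨fun hb => X.D_conj hb _, fun hb => by
    have := X.D_conj hb (X.trY a)
    rwa [show X.trY a * σ b * (X.trY a)⁻¹ = b by
      show X.trY a * ((X.trY a)⁻¹ * b * (X.trY a)⁻¹⁻¹) * (X.trY a)⁻¹ = b; group] at this⟩
  have hne : ∀ b, b ≠ a ↔ σ b ≠ X.zY := fun b => by rw [← ea]; exact σ.injective.ne_iff.symm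
  have hcm : ∀ b c, Commute b c ↔ Commute (σ b) (σ c) := fun b c =>
    ⟨fun h => h.map σ, fun h => σ.injective (by rw [map_mul, map_mul]; exact h.eq)⟩
  refine ⟨ea, fun b hb => ?_, fun b hb => ?_, fun b => ?_, fun g => ?_⟩
  · exact ⟨(hD b).1 hb.1, (hne b).1 hb.2.1, ea ▸ (hcm a b).1 hb.2.2⟩
  · exact ⟨(hD b).2 hb.1, (hne b).2 hb.2.1, (hcm a b).2 (ea.symm ▸ hb.2.2)⟩
  · show _ = X.ptY ((X.trY a)⁻¹ * b * (X.trY a)⁻¹⁻¹)
    rw [inv_inv]; rfl
  · rw [Subgroup.mem_centralizer_singleton_iff, Subgroup.mem_centralizer_singleton_iff, ← ea, ← map_mul,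
      ← map_mul, σ.injective.eq_iff]

theorem map_cent {a : X.Y} (ha : a ∈ X.D) :
    (Subgroup.centralizer ({a} : Set X.Y)).map (MulAut.conj (X.trY a)⁻¹).toMonoidHom =
      Subgroup.centralizer ({X.zY} : Set X.Y) := by
  obtain ⟨-, -, -, -, h⟩ := X.sigma_facts ha
  ext g
  rw [Subgroup.mem_map_equiv, h, MulEquiv.apply_symm_apply]

theorem map_props {a : X.Y} (ha : a ∈ X.D) {N : Subgroup X.Y} (hle : N ≤ Subgroup.centralizer ({a} : Set X.Y))
    (hn : ∀ g ∈ Subgroup.centralizer ({a} : Set X.Y), ∀ n ∈ N, g * n * g⁻¹ ∈ N) :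
    N.map (MulAut.conj (X.trY a)⁻¹).toMonoidHom ≤ Subgroup.centralizer ({X.zY} : Set X.Y) ∧
      ∀ g ∈ Subgroup.centralizer ({X.zY} : Set X.Y), ∀ n ∈ N.map (MulAut.conj (X.trY a)⁻¹).toMonoidHom,
        g * n * g⁻¹ ∈ N.map (MulAut.conj (X.trY a)⁻¹).toMonoidHom := by
  rw [← X.map_cent ha]
  refine ⟨Subgroup.map_mono hle, ?_⟩
  rintro _ ⟨g, hg, rfl⟩ _ ⟨n, hn', rfl⟩
  exact ⟨_, hn g hg n hn', by simp only [map_mul, map_inv]⟩

theorem localY (hA : X.AFacts) : Local X.D (Fin 45) qcol X.fY where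
  nonempty := ⟨_, X.zY_D⟩
  invol := fun a ha => X.D_order hA ha
  isClass := fun a ha => Set.ext fun y => by
    obtain ⟨g, hg, hc⟩ := ha
    constructor
    · rintro ⟨g', hg', hc'⟩
      rw [show g' = g from Subtype.ext (hg'.trans hg.symm)] at hc'
      exact hc.symm.trans hc'
    · exact fun h => ⟨g, hg, hc.trans h⟩
  col_irrefl := fun p h => h.1 rfl
  col_symm := fun p q h => ⟨h.1.symm, quad_facts.2.2 p q ▸ h.2⟩
  card_points := by rw [Nat.card_eq_fintype_card, Fintype.card_fin]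
  degree := qcol_degree
  perp := fun p q h _ => qcol_perp p q h
  perp_col := fun p q h => qcol_perp p q h.1
  conn := qcol_conn
  fibre_card := fun a ha p => by
    obtain ⟨-, h1, h2, h3, -⟩ := X.sigma_facts ha
    rw [← X.fibre_zY hA p]
    refine Set.ncard_congr (fun b _ => MulAut.conj (X.trY a)⁻¹ b) (fun b hb => ⟨h1 b hb.1, (h3 b).symm.trans hb.2⟩)
      (fun b c _ _ e => (MulAut.conj (X.trY a)⁻¹).injective e) fun c hc =>
        ⟨(MulAut.conj (X.trY a)⁻¹).symm c, ⟨h2 _ ?_, ?_⟩, MulEquiv.apply_symm_apply _ _⟩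
    · rw [MulEquiv.apply_symm_apply]; exact hc.1
    · rw [h3, MulEquiv.apply_symm_apply]; exact hc.2
  comm := fun a ha b hb c hc => by
    obtain ⟨-, h1, -, h3, -⟩ := X.sigma_facts ha
    rw [h3, h3, ← X.comm_zY hA (h1 b hb) (h1 c hc)]
    exact ⟨fun h => h.map _, fun h => (MulAut.conj (X.trY a)⁻¹).injective (by rw [map_mul, map_mul]; exact h.eq)⟩
  braid := fun a ha b hb c hc hbc => by
    obtain ⟨-, h1, -, -, -⟩ := X.sigma_facts ha
    apply (MulAut.conj (X.trY a)⁻¹).injective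
    rw [map_pow, map_mul, map_one]
    exact X.braid_zY hA (h1 b hb) (h1 c hc) fun h =>
      hbc ((MulAut.conj (X.trY a)⁻¹).injective (by rw [map_mul, map_mul]; exact h.eq))
  line_prod := fun a ha b hb c hc d hd e he f1 f2 f3 bc bd be cd ce de => by
    obtain ⟨h0, h1, -, h3, -⟩ := X.sigma_facts ha
    simp only [h3] at f1 f2 f3
    have hi := (MulAut.conj (X.trY a)⁻¹).injective
    apply hi
    rw [map_mul, map_mul, map_mul, map_mul, map_one, h0]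
    exact X.prod_zY hA (h1 b hb) (h1 c hc) (h1 d hd) (h1 e he) f1 f2 f3 (hi.ne bc) (hi.ne bd) (hi.ne be)
      (hi.ne cd) (hi.ne ce) (hi.ne de)
  cent_gen := fun a ha => by
    obtain ⟨-, h1, h2, -, -⟩ := X.sigma_facts ha
    apply Subgroup.map_injective (f := (MulAut.conj (X.trY a)⁻¹).toMonoidHom) (MulEquiv.injective _)
    rw [X.map_cent ha, MonoidHom.map_closure, ← X.gen_zY hA]
    congr 1
    ext y
    constructor
    · rintro ⟨b, hb, rfl⟩; exact h1 b hb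
    · exact fun hy => ⟨(MulAut.conj (X.trY a)⁻¹).symm y, h2 _ (by rwa [MulEquiv.apply_symm_apply]),
        MulEquiv.apply_symm_apply _ _⟩
  cent_card := fun a ha => by
    rw [← X.card_cent_zY hA, ← X.map_cent ha, Subgroup.card_map_of_injective (MulEquiv.injective _)]
  cent_two := fun a ha N hle h2 hne hn => by
    obtain ⟨h0, -, -, -, -⟩ := X.sigma_facts ha
    obtain ⟨m1, m2⟩ := X.map_props ha hle hn
    have := X.no_normal_two hA (h2.map _) m1
      (fun e => hne ((Subgroup.map_eq_bot_iff_of_injective N (MulEquiv.injective _)).1 e)) m2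
    rw [← h0] at this
    obtain ⟨x, hx, e⟩ := this
    exact (MulAut.conj (X.trY a)⁻¹).injective e ▸ hx
  cent_two_exists := fun a ha => by
    obtain ⟨-, -, h2, -, h4⟩ := X.sigma_facts ha
    obtain ⟨q1, q2, q3⟩ := X.QY_spec hA
    obtain ⟨n, hn, g, hg, hng⟩ := X.QY_moves hA
    set σ := MulAut.conj (X.trY a)⁻¹
    refine ⟨X.QY.map σ.symm.toMonoidHom, ?_, q2.map _, ?_, σ.symm n, ⟨n, hn, rfl⟩, σ.symm (X.img g), h2 _ ?_,
      fun hc => hng ?_⟩
    · rintro _ ⟨x, hx, rfl⟩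
      exact (h4 _).2 (by rw [show σ (σ.symm.toMonoidHom x) = x from σ.apply_symm_apply x]; exact q1 hx)
    · rintro k hk _ ⟨x, hx, rfl⟩
      exact ⟨_, q3 _ ((h4 k).1 hk) x hx, σ.injective (by
        show σ (σ.symm _) = σ (k * σ.symm x * k⁻¹)
        rw [σ.apply_symm_apply, map_mul, map_mul, map_inv, σ.apply_symm_apply])⟩
    · rw [σ.apply_symm_apply]; exact (X.mem_nbr hA).2 ⟨g, hg, rfl⟩
    · have := hc.map σ
      rwa [σ.apply_symm_apply, σ.apply_symm_apply] at this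
  cent_odd := fun a ha N hle hodd hn => by
    obtain ⟨m1, m2⟩ := X.map_props ha hle hn
    refine (Subgroup.map_eq_bot_iff_of_injective N (f := (MulAut.conj (X.trY a)⁻¹).toMonoidHom)
      (MulEquiv.injective _)).1 (X.no_normal_odd hA ?_ m1 m2)
    rwa [Subgroup.card_map_of_injective (MulEquiv.injective _)]

/-- What the centraliser of the image of `z` gives. -/
theorem centFacts (hA : X.AFacts) : X.CentFacts where
  local_data := ⟨Fin 45, qcol, X.fY, X.localY hA⟩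
  cover := fun g hg i hi hc => by
    have e : X.img g = X.zY := congrArg X.img (Subtype.ext hg)
    rw [e] at hc ⊢
    exact X.cover_zY hA hi hc

end Ctx

end CfsgLib.Trans3.FiLarge.U6
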