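import Cfsg.Agent.Lib.Trans3.FiLarge.U6.OutLocal

/-!
The neighbourhood group of the image of the second generator in the quotient of `C(t)`.
-/

set_option autoImplicit false
set_option linter.unusedSectionVars false

namespace CfsgLib.Trans3.FiLarge.U6

open Matrix CfsgLib.Chev.U43U6 CfsgLib.Trans3.FiLarge CfsgLib.Trans3.FischerType.PairCode
open CfsgLib.Trans3.Fi CfsgLib.InvChar.Fi22W
open CfsgLib.Invol (invol_of_mul_self invol_mul_self)
open scoped commutatorElement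

variable {G : Type*} [Group G] {z : G} {Q : Subgroup (Subgroup.centralizer ({z} : Set G))}

namespace Ctx

variable (X : Ctx z Q) [Finite G] [Q.Normal] (hA : X.AFacts) (hC : X.CentFacts) (hF : X.FixFacts)
include hA hC hF

theorem nbrs_eq {d : X.CT} (hd : (d : G) = X.b) :
    nbrs (conjugatesOf (X.imgT d)) (X.imgT d) = X.inT '' {g | X.Mem g} := by
  ext w
  constructor
  · rintro ⟨hw, hne, hc⟩
    obtain ⟨g, rfl, k, hk, hg⟩ := X.lift_CE hA hC hF hd hw hc.symm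
    refine ⟨g, ⟨g.2, fun hgE => hne ?_, k, hk, hg⟩, rfl⟩
    rw [inT_apply, imgT_eq_iff]
    show (d : G) = g ∨ (d : G) = (g : G) * X.a
    rcases X.E_cases hgE with e | e | e | e
    · rw [hg, conj_eq_one_iff] at e
      exact absurd e X.tin_gens.2.1.1.2.1
    · rw [hg, mul_inv_eq_iff_eq_mul, ← X.comm_a hk] at e
      exact absurd (mul_left_cancel e) X.b_ne
    · exact Or.inl (by rw [hd, e])
    · exact Or.inr (by rw [hd, e, mul_assoc, X.a_sq, mul_one])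
  · rintro ⟨g, ⟨hgC, hgE, k, hk, hg⟩, rfl⟩
    refine ⟨isConj_iff.2 ⟨X.imgT ⟨k, hk⟩, ?_⟩, fun e => hgE ?_, ?_⟩
    · rw [← imgT_conj, inT_apply]
      congr 1
      exact Subtype.ext (by simp [hd, hg])
    · rw [inT_apply, imgT_eq_iff, hd] at e
      rcases e with e | e
      · exact (show (g : G) = X.b from e.symm) ▸ X.b_E
      · have : (g : G) = X.b * X.a := by
          rw [show X.b = (g : G) * X.a from e, mul_assoc, X.a_sq, mul_one]
        exact this ▸ X.ba_E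
    · rw [inT_apply, commute_imgT]
      exact Or.inl (by rw [hd, mul_inv_eq_iff_eq_mul]; exact ((X.mem_CE_iff.1 hgC).2).symm)

theorem img_center {g : X.CE} (h : ∀ u : X.CE, Commute (X.img g) (X.img u)) : (g : G) ∈ X.E := by
  obtain ⟨hperf, -⟩ := X.quasisimple hA hC hF
  obtain ⟨F, i1, i2, hF4, ⟨e⟩⟩ := X.iso hA hC hF
  haveI : IsSimpleGroup (Cfsg.PSU 6 F 2) :=
    CfsgLib.Classical.isSimpleGroup_psu (q := 2) hF4 (by norm_num) (by norm_num)
  haveI : Nontrivial X.Y := e.toEquiv.nontrivial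
  haveI : IsSimpleGroup X.Y := IsSimpleGroup.isSimpleGroup_of_surjective e.symm.toMonoidHom e.symm.surjective
  have hc : X.img g ∈ Subgroup.center X.Y := Subgroup.mem_center_iff.2 fun u => by
    obtain ⟨u, rfl⟩ := QuotientGroup.mk'_surjective X.EC u
    exact (h u).eq.symm
  rcases (inferInstance : (Subgroup.center X.Y).Normal).eq_bot_or_eq_top with h' | h'
  · rw [h', Subgroup.mem_bot] at hc
    exact (QuotientGroup.eq_one_iff g).1 hc
  · exfalso
    have hab : ∀ u v : X.Y, u * v = v * u := fun u v =>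
      (Subgroup.mem_center_iff.1 (h' ▸ Subgroup.mem_top v) u)
    have htop : commutator X.CE ≤ X.EC := by
      rw [_root_.commutator_def, Subgroup.commutator_le]
      intro u _ v _
      refine (QuotientGroup.eq_one_iff (N := X.EC) _).1 ?_
      show QuotientGroup.mk' X.EC ⁅u, v⁆ = 1
      rw [map_commutatorElement, commutatorElement_eq_one_iff_mul_comm]
      exact hab _ _
    obtain ⟨y, hy⟩ := exists_ne (1 : X.Y)
    obtain ⟨u, rfl⟩ := QuotientGroup.mk'_surjective X.EC y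
    exact hy ((QuotientGroup.eq_one_iff u).2 (htop (hperf.commutator_eq_top ▸ Subgroup.mem_top u)))

theorem Hd_eq {d : X.CT} (hd : (d : G) = X.b) :
    Hd (conjugatesOf (X.imgT d)) (X.imgT d) = X.inT.range := by
  have hle : Hd (conjugatesOf (X.imgT d)) (X.imgT d) ≤ X.inT.range := by
    rw [Hd, X.nbrs_eq hA hC hF hd, Subgroup.closure_le]
    rintro _ ⟨g, -, rfl⟩
    exact ⟨g, rfl⟩
  refine le_antisymm hle ?_
  set S := (Hd (conjugatesOf (X.imgT d)) (X.imgT d)).comap X.inT with hS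
  obtain ⟨P, col, p, L⟩ := hC.local_data
  have hz : X.img ⟨z, X.A_le hA (X.z_A hA)⟩ ∈ X.D := ⟨_, rfl, IsConj.refl _⟩
  have hmap : S.map (QuotientGroup.mk' X.EC) = ⊤ := by
    rw [eq_top_iff, ← X.closure_comp hA hC hF, Subgroup.closure_le, X.comp_eq_D hA hC hF]
    intro y hy
    obtain ⟨g, hg, rfl⟩ := X.exists_mem hA hC hF hy
    exact ⟨g, Subgroup.subset_closure ((X.nbrs_eq hA hC hF hd).symm ▸ ⟨g, hg, rfl⟩), rfl⟩
  have hcomm : commutator X.CE ≤ S := by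
    rw [_root_.commutator_def, Subgroup.commutator_le]
    intro u _ v _
    have hu : QuotientGroup.mk' X.EC u ∈ S.map (QuotientGroup.mk' X.EC) := hmap ▸ Subgroup.mem_top _
    have hv : QuotientGroup.mk' X.EC v ∈ S.map (QuotientGroup.mk' X.EC) := hmap ▸ Subgroup.mem_top _
    obtain ⟨s, hs, hsu⟩ := hu
    obtain ⟨t, ht, htv⟩ := hv
    have hc : ∀ {s u : X.CE}, QuotientGroup.mk' X.EC s = QuotientGroup.mk' X.EC u →
        ∀ w : X.CE, w * (s⁻¹ * u) = (s⁻¹ * u) * w := fun {s u} h w => Subtype.ext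
      ((Subgroup.mem_centralizer_iff.1 w.2) _ (Subgroup.mem_subgroupOf.1 (QuotientGroup.eq.1 h))).symm
    have e1 := hc hsu
    have e2 := hc htv
    obtain ⟨c, eu⟩ : ∃ c, u = s * c := ⟨s⁻¹ * u, (mul_inv_cancel_left _ _).symm⟩
    obtain ⟨e, ev⟩ : ∃ e, v = t * e := ⟨t⁻¹ * v, (mul_inv_cancel_left _ _).symm⟩
    rw [eu, inv_mul_cancel_left] at e1
    rw [ev, inv_mul_cancel_left] at e2
    have : ⁅u, v⁆ = ⁅s, t⁆ := by
      rw [eu, ev, commutatorElement_def, commutatorElement_def, _root_.mul_inv_rev, _root_.mul_inv_rev]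
      calc s * c * (t * e) * (c⁻¹ * s⁻¹) * (e⁻¹ * t⁻¹)
          = s * (c * (t * e) * c⁻¹) * s⁻¹ * (e⁻¹ * t⁻¹) := by group
        _ = s * (t * e) * s⁻¹ * (e⁻¹ * t⁻¹) := by rw [← e1 (t * e), mul_inv_cancel_right]
        _ = s * t * (e * s⁻¹ * e⁻¹) * t⁻¹ := by group
        _ = s * t * s⁻¹ * t⁻¹ := by rw [← e2 s⁻¹, mul_inv_cancel_right]
    rw [this]
    exact mul_mem (mul_mem (mul_mem hs ht) (inv_mem hs)) (inv_mem ht)
  rw [(X.quasisimple hA hC hF).1.commutator_eq_top] at hcomm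
  rintro _ ⟨g, rfl⟩
  exact hcomm (Subgroup.mem_top g)

theorem cenW (d : X.CT) (hd : (d : G) = X.b) : CenW (X.imgT d) := by
  obtain ⟨P, col, p, L⟩ := hC.local_data
  have hz : X.img ⟨z, X.A_le hA (X.z_A hA)⟩ ∈ X.D := ⟨_, rfl, IsConj.refl _⟩
  have hH := X.Hd_eq hA hC hF hd
  have hbd : X.inT ⟨X.b, X.A_le_CE X.b_A⟩ = X.imgT d := by
    rw [inT_apply]; exact congrArg X.imgT (Subtype.ext hd.symm)
  have hord : orderOf (X.imgT d) = 2 := by
    refine invol_of_mul_self ?_ ?_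
    · rw [← imgT_mul, imgT_eq_one_iff, Subgroup.coe_mul, hd, X.spine.sq X.b_A]; exact Or.inl rfl
    · rw [Ne, imgT_eq_one_iff, hd]; exact not_or.2 ⟨X.tin_gens.2.1.1.2.1, X.b_ne⟩
  -- the neighbourhood group modulo its centre
  let ρ : X.CE →* Qd (conjugatesOf (X.imgT d)) (X.imgT d) :=
    (QuotientGroup.mk' _).comp (X.inT.codRestrict (Hd (conjugatesOf (X.imgT d)) (X.imgT d))
      fun g => hH.symm ▸ ⟨g, rfl⟩)
  have hker1 : ∀ g : X.CE, ρ g = 1 ↔ ∀ u, Commute (X.inT g) (X.inT u) := by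
    intro g
    show (QuotientGroup.mk (⟨X.inT g, hH.symm ▸ ⟨g, rfl⟩⟩ : ↥(Hd (conjugatesOf (X.imgT d)) (X.imgT d))) :
      Qd (conjugatesOf (X.imgT d)) (X.imgT d)) = 1 ↔ _
    rw [QuotientGroup.eq_one_iff, Subgroup.mem_center_iff]
    refine ⟨fun h u => (congrArg Subtype.val (h ⟨X.inT u, hH.symm ▸ ⟨u, rfl⟩⟩)).symm, fun h w => ?_⟩
    obtain ⟨w, hw⟩ := w
    obtain ⟨u, rfl⟩ := (hH ▸ hw : w ∈ X.inT.range)
    exact Subtype.ext (h u).eq.symm
  have hker : ρ.ker = X.EC := by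
    ext g
    rw [MonoidHom.mem_ker, hker1, Subgroup.mem_subgroupOf]
    refine ⟨fun h => X.img_center hA hC hF fun u => ?_, fun h u => ?_⟩
    · have h1 := (X.commute_imgT).1 (h u)
      show QuotientGroup.mk' X.EC g * QuotientGroup.mk' X.EC u = QuotientGroup.mk' X.EC u * QuotientGroup.mk' X.EC g
      rw [← map_mul, ← map_mul]
      refine QuotientGroup.eq.2 (Subgroup.mem_subgroupOf.2 ?_)
      have h1' : (g : G) * u * (g : G)⁻¹ = u ∨ (g : G) * u * (g : G)⁻¹ = (u : G) * X.a := h1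
      have ca : (g : G) * X.a = X.a * g := X.comm_a (X.CE_le g.2)
      simp only [Subgroup.coe_mul, Subgroup.coe_inv]
      rcases h1' with e | e <;> rw [mul_inv_eq_iff_eq_mul] at e <;> rw [e]
      · rw [inv_mul_cancel]; exact one_mem _
      · rw [mul_assoc, ← ca]
        simpa [mul_assoc] using X.a_E
    · refine (Commute.map (show Commute g u from Subtype.ext ?_) X.inT)
      exact ((Subgroup.mem_centralizer_iff.1 u.2) _ h)
  have hsurj : Function.Surjective ρ := by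
    intro q
    obtain ⟨⟨w, hw⟩, rfl⟩ := QuotientGroup.mk_surjective q
    obtain ⟨g, rfl⟩ := (hH ▸ hw : w ∈ X.inT.range)
    exact ⟨g, rfl⟩
  let e : X.Y ≃* Qd (conjugatesOf (X.imgT d)) (X.imgT d) :=
    (QuotientGroup.quotientMulEquivOfEq hker.symm).trans (QuotientGroup.quotientKerEquivOfSurjective ρ hsurj)
  have he : ∀ g, e (X.img g) = ρ g := fun g => rfl
  have hDb : Db (conjugatesOf (X.imgT d)) (X.imgT d) = e '' X.D := by
    ext q
    constructor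
    · rintro ⟨⟨w, hw'⟩, hw, rfl⟩
      obtain ⟨g, hg, rfl⟩ := (X.nbrs_eq hA hC hF hd ▸ hw : w ∈ X.inT '' {g | X.Mem g})
      exact ⟨X.img g, (X.mem_D hA hC hF hg).1, rfl⟩
    · rintro ⟨y, hy, rfl⟩
      obtain ⟨g, hg, rfl⟩ := X.exists_mem hA hC hF hy
      exact ⟨⟨X.inT g, hH.symm ▸ ⟨g, rfl⟩⟩, (X.nbrs_eq hA hC hF hd).symm ▸ ⟨g, hg, rfl⟩, rfl⟩
  have hmem : X.imgT d ∈ Hd (conjugatesOf (X.imgT d)) (X.imgT d) := hH.symm ▸ ⟨_, hbd⟩
  refine ⟨hord, hmem, ?_, ?_, fun x hx => ?_, fun u v hu hv huv => ?_, fun w hw hall => ?_⟩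
  · obtain ⟨F, i1, i2, hF4, ⟨f⟩⟩ := X.iso hA hC hF
    exact ⟨F, i1, i2, hF4, ⟨e.symm.trans f⟩⟩
  · have hD : ∀ y ∈ X.D, y ∈ comp X.D (X.img ⟨z, X.A_le hA (X.z_A hA)⟩) := fun y hy => by
      rwa [X.comp_eq_D hA hC hF]
    rw [hDb]
    refine ⟨⟨?_, ?_⟩, ?_, ?_⟩
    · rintro _ ⟨y, hy, rfl⟩
      rw [MulEquiv.orderOf_eq]; exact L.invol y hy
    · rintro _ ⟨y, hy, rfl⟩ _ ⟨y', hy', rfl⟩
      rcases L.comp_prod hz (hD y hy) (hD y' hy') with h | h
      · exact Or.inl (by rw [← map_mul, ← map_pow, h, map_one])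
      · exact Or.inr (by rw [← map_mul, ← map_pow, h, map_one])
    · rintro q _ ⟨y, hy, rfl⟩
      exact ⟨e.symm q * y * (e.symm q)⁻¹, L.conj_mem _ hy, by simp⟩
    · rw [show (e '' X.D : Set _) = e.toMonoidHom '' X.D from rfl, ← MonoidHom.map_closure,
        ← X.comp_eq_D hA hC hF, X.closure_comp hA hC hF, Subgroup.map_top_of_surjective _ e.surjective]
  · obtain ⟨x, hx'⟩ := x
    obtain ⟨g, rfl⟩ := (hH ▸ hx' : x ∈ X.inT.range)
    have hg : g ∈ X.EC := hker ▸ MonoidHom.mem_ker.2 ((QuotientGroup.eq_one_iff _).2 hx)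
    show X.inT g = 1 ∨ X.inT g = X.imgT d
    rw [X.inT_eq_one_iff, inT_apply, imgT_eq_iff, hd]
    show ((g : G) = 1 ∨ (g : G) = X.a) ∨ (X.b = g ∨ X.b = (g : G) * X.a)
    rcases X.E_cases (Subgroup.mem_subgroupOf.1 hg) with e' | e' | e' | e'
    · exact Or.inl (Or.inl e')
    · exact Or.inl (Or.inr e')
    · exact Or.inr (Or.inl e'.symm)
    · exact Or.inr (Or.inr (by rw [e', mul_assoc, X.a_sq, mul_one]))
  · have hu' := (X.nbrs_eq hA hC hF hd ▸ hu : u ∈ X.inT '' {g | X.Mem g})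
    have hv' := (X.nbrs_eq hA hC hF hd ▸ hv : v ∈ X.inT '' {g | X.Mem g})
    obtain ⟨g, hg, rfl⟩ := hu'
    obtain ⟨g', hg', rfl⟩ := hv'
    exact X.mem_inj hA hC hF hg hg' (e.injective huv)
  · obtain ⟨γ, rfl⟩ := X.imgT_surj w
    have hH' : Hd (conjugatesOf (X.imgT d)) (X.imgT d) ≤ Subgroup.centralizer ({X.imgT γ} : Set X.W) :=
      (Subgroup.closure_le _).2 fun u hu => Subgroup.mem_centralizer_singleton_iff.2 (hall u hu).eq.symm
    have hcom : ∀ u : X.CE, Commute (X.imgT γ) (X.inT u) := fun u =>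
      (Subgroup.mem_centralizer_singleton_iff.1 (hH' (hH.symm ▸ ⟨u, rfl⟩))).symm
    have hfix : ∀ u v : X.CE, (γ : G) * ((⁅u, v⁆ : X.CE) : G) * (γ : G)⁻¹ = ((⁅u, v⁆ : X.CE) : G) := by
      intro u v
      have key : ∀ u : X.CE, ∃ c ∈ Subgroup.zpowers X.a, (γ : G) * u * (γ : G)⁻¹ = u * c := fun u => by
        rcases (X.commute_imgT).1 (hcom u) with e' | e'
        · exact ⟨1, one_mem _, e'.trans (mul_one _).symm⟩
        · exact ⟨X.a, Subgroup.mem_zpowers _, e'⟩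
      obtain ⟨c, hc, e1⟩ := key u
      obtain ⟨c', hc', e2⟩ := key v
      have hcE : ∀ {c : G}, c ∈ Subgroup.zpowers X.a → ∀ x ∈ X.CE, c * x = x * c := fun {c} hc x hx => by
        obtain ⟨n, rfl⟩ := hc
        exact ((show Commute x X.a from X.comm_a (X.CE_le hx)).zpow_right n).eq.symm
      have hcu : c ∈ X.CE := by
        rcases X.mem_T.1 hc with rfl | rfl
        exacts [one_mem _, X.A_le_CE X.a_A]
      have hcv : c' ∈ X.CE := by
        rcases X.mem_T.1 hc' with rfl | rfl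
        exacts [one_mem _, X.A_le_CE X.a_A]
      rw [commutatorElement_def, Subgroup.coe_mul, Subgroup.coe_mul, Subgroup.coe_mul, Subgroup.coe_inv,
        Subgroup.coe_inv,
        show (γ : G) * ((u : G) * v * (u : G)⁻¹ * (v : G)⁻¹) * (γ : G)⁻¹ = (γ : G) * u * (γ : G)⁻¹ *
          ((γ : G) * v * (γ : G)⁻¹) * ((γ : G) * u * (γ : G)⁻¹)⁻¹ * ((γ : G) * v * (γ : G)⁻¹)⁻¹ by group,
        e1, e2, _root_.mul_inv_rev, _root_.mul_inv_rev]
      calc (u : G) * c * (v * c') * (c⁻¹ * (u : G)⁻¹) * (c'⁻¹ * (v : G)⁻¹)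
          = u * (c * (v * c') * c⁻¹) * (u : G)⁻¹ * (c'⁻¹ * (v : G)⁻¹) := by group
        _ = u * (v * c') * (u : G)⁻¹ * (c'⁻¹ * (v : G)⁻¹) := by
            rw [hcE hc _ (mul_mem v.2 hcv), mul_inv_cancel_right]
        _ = u * v * (c' * (u : G)⁻¹ * c'⁻¹) * (v : G)⁻¹ := by group
        _ = u * v * (u : G)⁻¹ * (v : G)⁻¹ := by rw [hcE hc' _ (inv_mem u.2), mul_inv_cancel_right]
    have hall' : ∀ u : X.CE, (γ : G) * u * (γ : G)⁻¹ = u := by
      let T : Subgroup X.CE :=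
        { carrier := {u | (γ : G) * u * (γ : G)⁻¹ = u}
          one_mem' := by simp
          mul_mem' := fun {u v} hu hv => by
            show (γ : G) * ((u : G) * v) * (γ : G)⁻¹ = (u : G) * v
            conv_rhs => rw [← hu, ← hv]
            group
          inv_mem' := fun {u} hu => by
            show (γ : G) * (u : G)⁻¹ * (γ : G)⁻¹ = (u : G)⁻¹
            conv_rhs => rw [← hu]
            group }
      have : commutator X.CE ≤ T := by
        rw [_root_.commutator_def, Subgroup.commutator_le]; exact fun u _ v _ => hfix u v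
      rw [(X.quasisimple hA hC hF).1.commutator_eq_top] at this
      exact fun u => this (Subgroup.mem_top u)
    have hγ : (γ : G) ∈ X.CE := X.mem_CE_iff.2
      ⟨γ.2, mul_inv_eq_iff_eq_mul.1 (hall' ⟨X.b, X.A_le_CE X.b_A⟩)⟩
    have hγE : (γ : G) ∈ X.E := X.img_center hA hC hF (g := ⟨γ, hγ⟩) fun u => Commute.map
      (show Commute (⟨γ, hγ⟩ : X.CE) u from Subtype.ext (mul_inv_eq_iff_eq_mul.1 (hall' u))) (QuotientGroup.mk' X.EC)
    rw [X.imgT_eq_one_iff, X.imgT_eq_iff, hd]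
    rcases X.E_cases hγE with e' | e' | e' | e'
    · exact Or.inl (Or.inl e')
    · exact Or.inl (Or.inr e')
    · exact Or.inr (Or.inl e'.symm)
    · exact Or.inr (Or.inr (by rw [e', mul_assoc, X.a_sq, mul_one]))

theorem no_outer (d : X.CT) (hd : (d : G) = X.b) (w : X.W) (hw : w ∈ conjugatesOf (X.imgT d))
    (hc : Commute w (X.imgT d)) : w ∈ Hd (conjugatesOf (X.imgT d)) (X.imgT d) := by
  obtain ⟨g, rfl, -⟩ := X.lift_CE hA hC hF hd hw hc
  rw [X.Hd_eq hA hC hF hd]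
  exact ⟨g, rfl⟩

theorem outer_lift {d : X.CT} (hd : (d : G) = X.b) {g : X.CT} (hc : Commute (X.imgT g) (X.imgT d))
    (hn : X.imgT g ∉ Hd (conjugatesOf (X.imgT d)) (X.imgT d)) :
    (g : G) * X.b * (g : G)⁻¹ = X.b * X.a := by
  rw [X.Hd_eq hA hC hF hd, mem_range_inT] at hn
  rcases (X.commute_imgT).1 hc with e | e <;> rw [hd] at e
  · exact absurd (X.mem_CE_iff.2 ⟨g.2, mul_inv_eq_iff_eq_mul.1 e⟩) hn
  · exact e

theorem swap (d : X.CT) (hd : (d : G) = X.b) :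
    ∃ w : X.W, Commute w (X.imgT d) ∧ w ∉ Hd (conjugatesOf (X.imgT d)) (X.imgT d) := by
  obtain ⟨L⟩ := X.spine.edgeData.exists_lab
  obtain ⟨W⟩ := X.exists_triangle L
  obtain ⟨m, -, e1, e2⟩ := L.move3 W.p W.q W.r W.q W.p W.r W.pq W.pr W.qr W.pq.symm W.qr W.pr
  rw [L.symm W.q W.p, W.eq_a] at e1
  rw [← L.tri W.p W.q W.r, W.eq_a, W.eq_b, X.ab_comm] at e2
  have hm : m ∈ X.CT := Subgroup.mem_centralizer_singleton_iff.2 (mul_inv_eq_iff_eq_mul.1 e1)
  refine ⟨X.imgT ⟨m, hm⟩, (X.commute_imgT).2 (Or.inr (by rw [hd]; exact e2)), fun h => ?_⟩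
  rw [X.Hd_eq hA hC hF hd, mem_range_inT, mem_CE_iff] at h
  have h1 : m * X.b * m⁻¹ = X.b := mul_inv_eq_iff_eq_mul.2 h.2
  exact X.tin_gens.1.1.2.1 (mul_eq_left.1 (h1.symm.trans e2).symm)

theorem index_le (d : X.CT) (hd : (d : G) = X.b) (w w' : X.W) (hw : Commute w (X.imgT d))
    (hw' : Commute w' (X.imgT d)) (hn : w ∉ Hd (conjugatesOf (X.imgT d)) (X.imgT d))
    (hn' : w' ∉ Hd (conjugatesOf (X.imgT d)) (X.imgT d)) :
    w * w' ∈ Hd (conjugatesOf (X.imgT d)) (X.imgT d) := by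
  obtain ⟨g, rfl⟩ := X.imgT_surj w
  obtain ⟨g', rfl⟩ := X.imgT_surj w'
  have e := X.outer_lift hA hC hF hd hw hn
  have e' := X.outer_lift hA hC hF hd hw' hn'
  rw [← imgT_mul, X.Hd_eq hA hC hF hd, mem_range_inT, mem_CE_iff]
  refine ⟨(g * g').2, mul_inv_eq_iff_eq_mul.1 ?_⟩
  calc (g : G) * g' * X.b * ((g : G) * g')⁻¹ = g * ((g' : G) * X.b * (g' : G)⁻¹) * (g : G)⁻¹ := by group
    _ = g * X.b * (X.a * (g : G)⁻¹) := by rw [e']; group
    _ = g * X.b * ((g : G)⁻¹ * X.a) := by rw [X.comm_a (inv_mem g.2)]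
    _ = (g * X.b * (g : G)⁻¹) * X.a := by group
    _ = X.b := by rw [e, mul_assoc, X.a_sq, mul_one]

theorem cover (d : X.CT) (hd : (d : G) = X.b) (i : X.W)
    (hi : i ∈ Hd (conjugatesOf (X.imgT d)) (X.imgT d)) (hi2 : orderOf i = 2) :
    ∃ k ∈ Hd (conjugatesOf (X.imgT d)) (X.imgT d), ∃ x : X.CT, (x : G) ∈ X.A ∧ X.imgT x = k * i * k⁻¹ := by
  rw [X.Hd_eq hA hC hF hd] at hi ⊢
  obtain ⟨g, rfl⟩ := hi
  have hsq : (g : G) * g ∈ X.E := by
    have h1 : X.inT (g * g) = 1 := by rw [map_mul]; exact invol_mul_self hi2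
    rcases (X.inT_eq_one_iff).1 h1 with e | e <;> rw [Subgroup.coe_mul] at e <;> rw [e]
    exacts [one_mem _, X.a_E]
  by_cases hgE : (g : G) ∈ X.E
  · exact ⟨1, one_mem _, ⟨g, X.CE_le g.2⟩, hA.E_le hgE, by simp [inT_apply]⟩
  · obtain ⟨l, hl, hlA⟩ := X.exists_conj_A hA hC hF g.2 hsq hgE
    refine ⟨X.inT ⟨l, hl⟩, ⟨_, rfl⟩, ⟨l * g * l⁻¹, X.A_le_CT hlA⟩, hlA, ?_⟩
    rw [← map_inv, ← map_mul, ← map_mul]
    rfl

end Ctx

end CfsgLib.Trans3.FiLarge.U6
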