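import Cfsg.Agent.Lib.Trans3.FiLarge.U6.OutBase

/-!
An element centralising an involution of `A` modulo a small involution moves some member of `A` into `A`; the
members in `A` are one step from the second generator.
-/

set_option autoImplicit false
set_option linter.unusedSectionVars false

namespace CfsgLib.Trans3.FiLarge.U6

open Matrix CfsgLib.Chev.U43U6 CfsgLib.Trans3.FiLarge CfsgLib.Trans3.FischerType.PairCode
open CfsgLib.Trans3.Fi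

variable {G : Type*} [Group G] {z : G} {Q : Subgroup (Subgroup.centralizer ({z} : Set G))}

namespace Ctx

variable (X : Ctx z Q) [Finite G] [Q.Normal]

theorem conj_U {g v w : G} (hg : g ∈ Subgroup.centralizer ({z} : Set G)) (hv : v ∈ qg Q) (hw : w ∈ qg Q)
    (hvw : prG X.c w = om • prG X.c v) (hgv : g * v * g⁻¹ = v) (hU : prG X.c v ∈ X.f.U) :
    prG X.c (g * w * g⁻¹) ∈ X.f.U := by
  obtain ⟨q, hq, rfl⟩ := hv
  obtain ⟨r, hr, rfl⟩ := hw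
  simp only [Subgroup.coe_subtype] at hvw hgv hU ⊢
  obtain ⟨e, -, h1, -⟩ := X.c.semi ⟨g, hg⟩
  rw [prG_coe, prG_coe] at hvw
  rw [prG_coe] at hU
  have h2 := h1 q hq r hr om hvw
  have hfix : (⟨g, hg⟩ : Subgroup.centralizer ({z} : Set G)) * q * ⟨g, hg⟩⁻¹ = q := Subtype.ext hgv
  rw [hfix] at h2
  rw [show g * (r : G) * g⁻¹ =
    (((⟨g, hg⟩ : Subgroup.centralizer ({z} : Set G)) * r * ⟨g, hg⟩⁻¹ : Subgroup.centralizer ({z} : Set G)) : G)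
    from rfl, prG_coe, h2]
  exact X.hf.smul _ hU _

/-- A pair of the second class gives a member. -/
theorem member_img {s : G} (hs : s ∈ tcls z X.A) (hsa : s * X.a ∈ tcls z X.A) :
    ∃ p : X.CT, (p : G) = s ∧ ∃ d : X.CT, (d : G) = X.b ∧ X.imgT p ∈ conjugatesOf (X.imgT d) := by
  obtain ⟨L⟩ := X.spine.edgeData.exists_lab
  obtain ⟨W⟩ := X.exists_triangle L
  obtain ⟨j, -, -, hj, m, hm, hmb⟩ := X.member_conj W hs hsa
  refine ⟨⟨s, X.A_le_CT hs.1⟩, rfl, ⟨X.b, X.A_le_CT X.b_A⟩, rfl,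
    (isConj_iff.2 ⟨X.imgT ⟨m, hm⟩, ?_⟩ : IsConj _ _)⟩
  rw [← imgT_conj, imgT_eq_iff]
  simpa [hmb] using hj

/-- A fixed involution of the first class over one of the second. -/
theorem fix_mixed {g w : G} (hg : g ∈ X.CT) (hw : w ∈ zcls z X.A) (hwa : w * X.a ∈ tcls z X.A)
    (hgw : g * w * g⁻¹ = w) :
    ∃ p ∈ tcls z X.A, p * X.a ∈ tcls z X.A ∧ g * p * g⁻¹ ∈ X.A := by
  have hs := X.spine
  obtain ⟨n, hn, hnz⟩ := X.exists_conj hw
  obtain ⟨p1, -, p3⟩ := X.pull (a := X.a) hn hnz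
  obtain ⟨a', ha'⟩ : ∃ a', a' = n⁻¹ * X.a * n := ⟨_, rfl⟩
  obtain ⟨g', hg'⟩ : ∃ g', g' = n⁻¹ * g * n := ⟨_, rfl⟩
  have ha'T : a' ∈ tcls z X.A := ha' ▸ p1 X.tin_gens.1.1
  have ha'Q : a' ∈ qg Q := X.mem_of_tcls ha'T (by
    rw [ha', p3, hs.comm X.a_A hw.1]
    exact (X.pull hn hnz).1 hwa)
  obtain ⟨ha'B, ha'S⟩ := hs.tin_iff.1 (show a' ∈ tin z X.A (qg Q) from ⟨ha'T, ha'Q⟩)
  obtain ⟨e', he'Q, he'⟩ := prG_surj X.c (om • prG X.c a')
  have he'B := hs.mem_B he'Q (by rw [he']; exact X.hf.smul _ (hs.mem_U ha'B) om)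
  have he'T : e' ∈ tcls z X.A := (hs.small_pre he'B (by rw [he']; exact inSmall_om ha'S)).1
  have hsum : e' * a' ∈ tcls z X.A := (hs.small_pre (mul_mem he'B ha'B) (by
    rw [prG_mul X.c he'Q ha'Q, he', show om • prG X.c a' + prG X.c a' = om • om • prG X.c a' by
      rw [← mul_smul, show om * om = om + 1 by decide, add_smul, one_smul]]
    exact inSmall_om (inSmall_om ha'S))).1
  have hg'z : g' ∈ Subgroup.centralizer ({z} : Set G) := by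
    refine Subgroup.mem_centralizer_singleton_iff.2 (mul_inv_eq_iff_eq_mul.1 ?_)
    calc g' * z * g'⁻¹ = n⁻¹ * (g * (n * z * n⁻¹) * g⁻¹) * n := by rw [hg']; group
      _ = z := by rw [hnz, hgw, ← hnz]; group
  have hg'a : g' * a' * g'⁻¹ = a' := by
    calc g' * a' * g'⁻¹ = n⁻¹ * (g * X.a * g⁻¹) * n := by rw [hg', ha']; group
      _ = a' := by rw [mul_inv_eq_iff_eq_mul.2 (X.comm_a hg), ha']
  refine ⟨n * e' * n⁻¹, hs.localData.tcls_conj hn he'T, ?_, ?_⟩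
  · have e1 : n * e' * n⁻¹ * X.a = n * (e' * a') * n⁻¹ := by rw [ha']; group
    rw [e1]
    exact hs.localData.tcls_conj hn hsum
  · have e1 : g * (n * e' * n⁻¹) * g⁻¹ = n * (g' * e' * g'⁻¹) * n⁻¹ := by rw [hg']; group
    rw [e1]
    exact hs.localData.conj_mem hn (Subgroup.mem_inf.1 (hs.mem_B (conj_mem_qg hg'z he'Q)
      (X.conj_U hg'z ha'Q he'Q he' hg'a (hs.mem_U ha'B)))).1

/-- An involution of the first class over another one of the first class. -/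
theorem fix_pair {g w : G} (hg : g ∈ X.CT) (hw : w ∈ zcls z X.A) (hwa : w * X.a ∈ zcls z X.A)
    (hw' : g * w * g⁻¹ ∈ zcls z X.A) (hwa' : g * w * g⁻¹ * X.a ∈ zcls z X.A) :
    ∃ p ∈ tcls z X.A, p * X.a ∈ tcls z X.A ∧ g * p * g⁻¹ ∈ X.A := by
  have hs := X.spine
  obtain ⟨n, hn, hnz⟩ := X.exists_conj hw
  obtain ⟨m, hm, hmz⟩ := X.exists_conj hw'
  have hout : ∀ {k v : G}, k ∈ Subgroup.normalizer (X.A : Set G) → k * z * k⁻¹ = v → v ∈ zcls z X.A →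
      v * X.a ∈ zcls z X.A → k⁻¹ * X.a * k ∈ tout z X.A (qg Q) := by
    intro k v hk hkz hv hva
    obtain ⟨p1, -, p3⟩ := X.pull (a := X.a) hk hkz
    refine ⟨p1 X.tin_gens.1.1, X.notMem_of_zcls (p1 X.tin_gens.1.1) ?_⟩
    rw [p3, hs.comm X.a_A hv.1]
    exact (X.pull hk hkz).2.1 hva
  have h1 := hout hn hnz hw hwa
  have h2 := hout hm hmz hw' hwa'
  obtain ⟨a', ha'⟩ : ∃ a', a' = n⁻¹ * X.a * n := ⟨_, rfl⟩
  obtain ⟨a'', ha''⟩ : ∃ a'', a'' = m⁻¹ * X.a * m := ⟨_, rfl⟩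
  obtain ⟨h, hh⟩ : ∃ h, h = m⁻¹ * g * n := ⟨_, rfl⟩
  rw [← ha'] at h1
  rw [← ha''] at h2
  have hhz : h ∈ Subgroup.centralizer ({z} : Set G) := by
    refine Subgroup.mem_centralizer_singleton_iff.2 (mul_inv_eq_iff_eq_mul.1 ?_)
    calc h * z * h⁻¹ = m⁻¹ * (g * (n * z * n⁻¹) * g⁻¹) * m := by rw [hh]; group
      _ = z := by rw [hnz, ← hmz]; group
  have hha : h * a' * h⁻¹ = a'' := by
    calc h * a' * h⁻¹ = m⁻¹ * (g * X.a * g⁻¹) * m := by rw [hh, ha']; group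
      _ = a'' := by rw [mul_inv_eq_iff_eq_mul.2 (X.comm_a hg), ha'']
  obtain ⟨e', he', hae⟩ : {x ∈ tin z X.A (qg Q) | a' * x ∈ tcls z X.A}.Nonempty :=
    Set.nonempty_of_ncard_ne_zero (by rw [hs.six h1]; decide)
  obtain ⟨q, hq, hqe⟩ := (hs.adj_iff h1 (Subgroup.mem_inf.2 ⟨he'.1.1, he'.2⟩)).1 hae
  refine ⟨n * e' * n⁻¹, hs.localData.tcls_conj hn he'.1, ?_, ?_⟩
  · have e1 : n * e' * n⁻¹ * X.a = n * (e' * a') * n⁻¹ := by rw [ha']; group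
    rw [e1, hs.comm he'.1.1 h1.1.1]
    exact hs.localData.tcls_conj hn hae
  · have e1 : e' = a' * (q * a' * q⁻¹) := by rw [hqe, ← mul_assoc, hs.sq h1.1.1, one_mul]
    have e2 : g * (n * e' * n⁻¹) * g⁻¹ =
        g * X.a * g⁻¹ * (m * (h * q * h⁻¹ * (h * a' * h⁻¹) * (h * q * h⁻¹)⁻¹) * m⁻¹) := by
      rw [e1, hh, ha']; group
    rw [e2, hha, mul_inv_eq_iff_eq_mul.2 (X.comm_a hg)]
    exact mul_mem X.a_A (hs.localData.conj_mem hm (hs.conj_q h2.1.1 (conj_mem_qg hhz hq)).1)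

theorem outFixA : ∀ x : X.CT, (x : G) ∈ X.A → X.imgT x ≠ 1 → ∀ g : X.W, Commute g (X.imgT x) →
    ∃ p : X.CT, (p : G) ∈ X.A ∧ (∃ d : X.CT, (d : G) = X.b ∧ X.imgT p ∈ conjugatesOf (X.imgT d)) ∧
      ∃ q : X.CT, (q : G) ∈ X.A ∧ g * X.imgT p * g⁻¹ = X.imgT q := by
  intro x hx hx1 g hg
  obtain ⟨g, rfl⟩ := X.imgT_surj g
  have hgx := X.commute_imgT.1 hg
  rw [ne_eq, X.imgT_eq_one_iff, not_or] at hx1
  obtain ⟨hne, hnea⟩ := hx1
  have hxa : (x : G) * X.a ∈ X.A := mul_mem hx X.a_A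
  have hxa1 : (x : G) * X.a ≠ 1 := fun h => hnea (by
    rw [eq_inv_of_mul_eq_one_left h, inv_eq_of_mul_eq_one_right X.a_sq])
  have hga : ∀ v : G, (g : G) * (v * X.a) * (g : G)⁻¹ = g * v * (g : G)⁻¹ * X.a := fun v => by
    rw [show (g : G) * (v * X.a) * (g : G)⁻¹ = g * v * (X.a * (g : G)⁻¹) by group,
      ← X.comm_a (inv_mem g.2)]
    group
  suffices h : ∃ p ∈ tcls z X.A, p * X.a ∈ tcls z X.A ∧ (g : G) * p * (g : G)⁻¹ ∈ X.A by
    obtain ⟨p, hp, hpa, hgp⟩ := h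
    obtain ⟨P, rfl, hd⟩ := X.member_img hp hpa
    exact ⟨P, hp.1, hd, g * P * g⁻¹, by simpa using hgp, (X.imgT_conj g P).symm⟩
  have hcls : ∀ v : G, IsConj z ((g : G) * v * (g : G)⁻¹) ↔ IsConj z v := fun v =>
    ⟨fun h => h.trans (isConj_iff.2 ⟨(g : G), rfl⟩ : IsConj v _).symm,
      fun h => h.trans (isConj_iff.2 ⟨_, rfl⟩)⟩
  have haa : (x : G) * X.a * X.a = x := by rw [mul_assoc, X.a_sq, mul_one]
  by_cases c1 : IsConj z (x : G) <;> by_cases c2 : IsConj z ((x : G) * X.a)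
  · refine X.fix_pair g.2 (w := x) ⟨hx, c1⟩ ⟨hxa, c2⟩ ?_ ?_ <;> rcases hgx with e | e <;> rw [e]
    · exact ⟨hx, c1⟩
    · exact ⟨hxa, c2⟩
    · exact ⟨hxa, c2⟩
    · rw [haa]; exact ⟨hx, c1⟩
  · refine X.fix_mixed g.2 (w := x) ⟨hx, c1⟩ ⟨hxa, hxa1, c2⟩ (hgx.resolve_right fun e => c2 ?_)
    rw [← e, hcls]; exact c1
  · refine X.fix_mixed g.2 (w := (x : G) * X.a) ⟨hxa, c2⟩ (by rw [haa]; exact ⟨hx, hne, c1⟩) ?_
    rw [hga, hgx.resolve_right fun e => c1 ((hcls _).1 (e ▸ c2))]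
  · refine ⟨x, ⟨hx, hne, c1⟩, ⟨hxa, hxa1, c2⟩, ?_⟩
    rcases hgx with e | e <;> rw [e]
    exacts [hx, hxa]

theorem outMemA : ∀ d : X.CT, (d : G) = X.b → ∀ p : X.CT, (p : G) ∈ X.A →
    X.imgT p ∈ conjugatesOf (X.imgT d) →
    Relation.ReflTransGen (fun x y => y ∈ nbrs (conjugatesOf (X.imgT d)) x) (X.imgT d) (X.imgT p) := by
  intro d hd p hp hc
  by_cases h : X.imgT p = X.imgT d
  · rw [h]
  · refine Relation.ReflTransGen.single ⟨hc, h, ?_⟩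
    rw [Ctx.commute_imgT, hd]
    exact Or.inl (mul_inv_eq_iff_eq_mul.2 (X.spine.comm X.b_A hp))

end Ctx

end CfsgLib.Trans3.FiLarge.U6
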