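import Cfsg.Agent.Lib.Trans3.FiLarge.U6.Out
import Cfsg.Agent.Lib.Trans3.FiLarge.U6.OutCen
import Cfsg.Agent.Lib.Trans3.FiLarge.U6.OutFix
import Cfsg.Agent.Lib.Trans3.FiLarge.U6.CentFacts
import Cfsg.Agent.Lib.Trans3.FiLarge.U6.Exists
import Cfsg.Agent.Lib.Trans3.FiLarge.Fusion
import Cfsg.Agent.Lib.Trans3.FischerType.PairMain
import Cfsg.Agent.Lib.Comp.PComponentEquiv

/-!
The centraliser of any involution of `Q` not conjugate to `z`.
-/

set_option autoImplicit false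
set_option linter.unusedSectionVars false

namespace CfsgLib.Trans3.FiLarge.U6

open Matrix CfsgLib.Chev.U43U6 CfsgLib.Trans3.FiLarge CfsgLib.Trans3.FischerType.PairCode

variable {G : Type*} [Group G] [Finite G] {z : G} {Q : Subgroup (Subgroup.centralizer ({z} : Set G))} [Q.Normal]

theorem max_at (hF : Cfsg.IsOfLargeFischerTypeAt z Q) (c : Coord z Q) (hb : c.b = 0) {b : Fin 3} (hb0 : b = 0)
    (f : WFacts b) : ∃ (T₀ : Sylow 2 G) (A : Subgroup G), (T₀ : Subgroup G) ≤ Subgroup.centralizer ({z} : Set G) ∧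
      IsUniqueMaxElem (T₀ : Subgroup G) A ∧ Nat.card A = 2 ^ 11 ∧
      (∀ a ∈ A, ∃ m : c.M, ((m : Subgroup.centralizer ({z} : Set G)) : G) = a) ∧
      (∀ g ∈ qg Q, (g ∈ A ↔ prG c g ∈ f.U)) ∧ (∀ a ∈ A, actG c a ∈ f.W) ∧
      ∀ w ∈ f.W, ∃ a ∈ A, actG c a = w := by
  subst hb0
  exact (maxHyp_of_coord hF c hb).exists_max f

theorem maxData (hF : Cfsg.IsOfLargeFischerTypeAt z Q) : MaxData z Q :=
  fun c hb _ f _ _ _ => max_at hF c hb hb f

namespace Ctx

variable (X : Ctx z Q)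

theorem outFacts (hA : X.AFacts) (hC : X.CentFacts) (hF : X.FixFacts) : X.OutFacts where
  cenW := fun d hd => X.cenW hA hC hF d hd
  no_outer := fun d hd w hw hc => X.no_outer hA hC hF d hd w hw hc
  swap := fun d hd => X.swap hA hC hF d hd
  index_le := fun d hd w w' hw hw' hn hn' => X.index_le hA hC hF d hd w w' hw hw' hn hn'
  cover := fun d hd i hi hi2 => X.cover hA hC hF d hd i hi hi2
  fixA := X.outFixA
  memA := X.outMemA

/-- An involution of `Q` outside the class of `z` is conjugate to the first generator. -/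
theorem conj_a {t : G} (htc : t ∈ Subgroup.centralizer ({z} : Set G))
    (htQ : (⟨t, htc⟩ : Subgroup.centralizer ({z} : Set G)) ∈ Q) (ht2 : orderOf t = 2) (ht : ¬ IsConj z t) :
    ∃ g : G, g * X.a * g⁻¹ = t := by
  have h2 : orderOf (⟨t, htc⟩ : Subgroup.centralizer ({z} : Set G)) = 2 := by rw [← ht2, Subgroup.orderOf_mk]
  obtain ⟨r, hr, hre⟩ := X.a_mem
  rw [Subgroup.coe_subtype] at hre
  have hrs : InSmall X.c.b (X.c.pr r) := by
    have h := X.a_small
    rwa [← hre, prG_coe] at h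
  have hts : InSmall X.c.b (X.c.pr ⟨t, htc⟩) :=
    (class_cases X.c htQ h2 fun e => ht (e ▸ IsConj.refl t)).resolve_right fun hb =>
      ht (X.spine.conj_big t (mem_qg.2 htQ : t ∈ qg Q) (by rwa [← prG_coe] at hb))
  obtain ⟨g₁, hg₁, e₁⟩ := hrs
  obtain ⟨g₂, hg₂, e₂⟩ := hts
  obtain ⟨m, -, e⟩ := conj_of_class X.c hr htQ (isotropic_of_orbit (Or.inl ⟨g₂, hg₂, e₂⟩)).1
    ⟨g₂ * g₁⁻¹, mul_mem hg₂ (inv_mem hg₁), by
      rw [← e₁, Matrix.mulVec_mulVec, ← e₂, show mat (g₂ * g₁⁻¹) * mat g₁ = mat (g₂ * g₁⁻¹ * g₁) from rfl,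
        inv_mul_cancel_right]⟩
  exact ⟨m, by rw [← hre]; exact congrArg Subtype.val e⟩

end Ctx

/-- The centraliser of an involution of `Q` not conjugate to `z`. -/
theorem small_centralizer (hF : Cfsg.IsOfLargeFischerTypeAt z Q) {t : G}
    (htc : t ∈ Subgroup.centralizer ({z} : Set G)) (htQ : (⟨t, htc⟩ : Subgroup.centralizer ({z} : Set G)) ∈ Q)
    (ht2 : orderOf t = 2) (ht : ¬ IsConj z t)
    [((Subgroup.zpowers t).subgroupOf (Subgroup.centralizer ({t} : Set G))).Normal] :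
    Cfsg.IsQuasisimple ↥(Cfsg.generalizedFittingSubgroup ↥(Subgroup.centralizer ({t} : Set G))) ∧
      (Cfsg.generalizedFittingSubgroup ↥(Subgroup.centralizer ({t} : Set G))).index = 2 ∧
      (∃ h : t ∈ Subgroup.centralizer ({t} : Set G), (⟨t, h⟩ : Subgroup.centralizer ({t} : Set G)) ∈
        Cfsg.generalizedFittingSubgroup ↥(Subgroup.centralizer ({t} : Set G))) ∧
      Nonempty (↥(Subgroup.centralizer ({t} : Set G)) ⧸
        (Subgroup.zpowers t).subgroupOf (Subgroup.centralizer ({t} : Set G)) ≃* MulAut Cfsg.Spor.Fi22) := by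
  obtain ⟨X⟩ := exists_ctx hF (maxData hF)
  have hA := X.afacts
  have hC := X.centFacts hA
  have hX := X.fixFacts hA
  obtain ⟨K, hq, hi, ha, hK, ⟨eW⟩⟩ := X.out_conclusion hA hC hX (X.outFacts hA hC hX)
  obtain ⟨g, hg⟩ := X.conj_a htc htQ ht2 ht
  subst hg
  have hmap : (Subgroup.centralizer ({X.a} : Set G)).map (MulAut.conj g).toMonoidHom =
      Subgroup.centralizer ({g * X.a * g⁻¹} : Set G) := by
    ext y
    rw [Subgroup.mem_map_equiv, Subgroup.mem_centralizer_singleton_iff, Subgroup.mem_centralizer_singleton_iff,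
      MulAut.conj_symm_apply]
    constructor
    · intro h
      calc y * (g * X.a * g⁻¹) = g * (g⁻¹ * y * g * X.a) * g⁻¹ := by group
        _ = g * X.a * g⁻¹ * y := by rw [h]; group
    · intro h
      calc g⁻¹ * y * g * X.a = g⁻¹ * (y * (g * X.a * g⁻¹)) * g := by group
        _ = X.a * (g⁻¹ * y * g) := by rw [h]; group
  let e : X.CT ≃* ↥(Subgroup.centralizer ({g * X.a * g⁻¹} : Set G)) :=
    ((MulAut.conj g).subgroupMap (Subgroup.centralizer ({X.a} : Set G))).trans (MulEquiv.subgroupCongr hmap)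
  have hval : ∀ x, (e x : G) = g * x * g⁻¹ := fun x => rfl
  have hKe : K.map e.toMonoidHom = Cfsg.generalizedFittingSubgroup ↥(Subgroup.centralizer ({g * X.a * g⁻¹} : Set G)) := by
    rw [hK]; exact CfsgLib.Comp.generalizedFitting_map_equiv e
  refine ⟨?_, ?_, ?_, ?_⟩
  · exact (CfsgLib.Comp.isQuasisimple_iff_congr
      ((e.subgroupMap K).trans (MulEquiv.subgroupCongr hKe))).1 hq
  · rw [← hKe, ← hi]
    exact Subgroup.index_map_equiv K e
  · refine ⟨(e ⟨X.a, X.A_le_CT X.a_A⟩).2, ?_⟩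
    rw [← hKe]
    exact ⟨_, ha ⟨X.a, X.A_le_CT X.a_A⟩ rfl, rfl⟩
  · have hT : X.TC.map e.toMonoidHom =
        (Subgroup.zpowers (g * X.a * g⁻¹)).subgroupOf (Subgroup.centralizer ({g * X.a * g⁻¹} : Set G)) := by
      ext y
      obtain ⟨x, rfl⟩ := e.surjective y
      rw [Subgroup.mem_map_equiv, e.symm_apply_apply, Subgroup.mem_subgroupOf, Subgroup.mem_subgroupOf, hval,
        show Subgroup.zpowers (g * X.a * g⁻¹) = (Subgroup.zpowers X.a).map (MulAut.conj g).toMonoidHom from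
          (MonoidHom.map_zpowers (MulAut.conj g).toMonoidHom X.a).symm, Subgroup.mem_map_equiv, MulAut.conj_symm_apply,
        show g⁻¹ * (g * (x : G) * g⁻¹) * g = x by group]
    exact ⟨(QuotientGroup.congr _ _ e hT).symm.trans eW⟩

end CfsgLib.Trans3.FiLarge.U6
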