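import Mathlib
import Cfsg.Prelude.Def_Involutions
import Cfsg.Prelude.Def_Classical

/-!
The local conditions that make a class of involutions the transvection class of `PSU₆(2)`: around each member
the commuting members lie four over each point of a generalised quadrangle of order (4,2).
-/

set_option autoImplicit false

namespace CfsgLib.Trans3.FiLarge.U6

variable {Y : Type*} [Group Y]

/-- The members of `D` other than `a` commuting with `a`. -/
def nbr (D : Set Y) (a : Y) : Set Y := {b | b ∈ D ∧ b ≠ a ∧ Commute a b}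

/-- The members lying over the same point as `b`, seen from `a`. -/
def fibre (D : Set Y) {P : Type*} (f : Y → Y → P) (a b : Y) : Set Y := {c | c ∈ nbr D a ∧ f a c = f a b}

/-- The conditions on a class `D` with point maps `f` into a point set `P` with collinearity `col`. -/
structure Local (D : Set Y) (P : Type*) (col : P → P → Prop) (f : Y → Y → P) : Prop where
  /-- The class is nonempty, consists of involutions and is one conjugacy class. -/
  nonempty : D.Nonempty
  invol : ∀ a ∈ D, orderOf a = 2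
  isClass : ∀ a ∈ D, D = {y | IsConj a y}
  /-- The generalised quadrangle. -/
  col_irrefl : ∀ p, ¬ col p p
  col_symm : ∀ p q, col p q → col q p
  card_points : Nat.card P = 45
  degree : ∀ p, {q | col p q}.ncard = 12
  perp : ∀ p q, p ≠ q → ¬ col p q → {r | col p r ∧ col q r}.ncard = 3
  perp_col : ∀ p q, col p q → {r | col p r ∧ col q r}.ncard = 3
  conn : ∀ S : Set P, S.Nonempty → (∀ p ∈ S, ∀ q, col p q → q ∈ S) → S = Set.univ
  /-- Four over each point. -/
  fibre_card : ∀ a ∈ D, ∀ p, {b | b ∈ nbr D a ∧ f a b = p}.ncard = 4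
  /-- Commuting is collinearity. -/
  comm : ∀ a ∈ D, ∀ b ∈ nbr D a, ∀ c ∈ nbr D a, (Commute b c ↔ f a b = f a c ∨ col (f a b) (f a c))
  braid : ∀ a ∈ D, ∀ b ∈ nbr D a, ∀ c ∈ nbr D a, ¬ Commute b c → (b * c) ^ 3 = 1
  /-- The five members of a line multiply to one. -/
  line_prod : ∀ a ∈ D, ∀ b ∈ nbr D a, ∀ c ∈ nbr D a, ∀ d ∈ nbr D a, ∀ e ∈ nbr D a,
    f a c = f a b → f a d = f a b → f a e = f a b → b ≠ c → b ≠ d → b ≠ e → c ≠ d → c ≠ e → d ≠ e →
    a * b * c * d * e = 1
  /-- The centralisers. -/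
  cent_gen : ∀ a ∈ D, Subgroup.closure (nbr D a) = Subgroup.centralizer ({a} : Set Y)
  cent_card : ∀ a ∈ D, Nat.card (Subgroup.centralizer ({a} : Set Y)) = 13271040
  cent_two : ∀ a ∈ D, ∀ N : Subgroup Y, N ≤ Subgroup.centralizer ({a} : Set Y) → IsPGroup 2 N → N ≠ ⊥ →
    (∀ g ∈ Subgroup.centralizer ({a} : Set Y), ∀ n ∈ N, g * n * g⁻¹ ∈ N) → a ∈ N
  cent_two_exists : ∀ a ∈ D, ∃ N : Subgroup Y, N ≤ Subgroup.centralizer ({a} : Set Y) ∧ IsPGroup 2 N ∧
    (∀ g ∈ Subgroup.centralizer ({a} : Set Y), ∀ n ∈ N, g * n * g⁻¹ ∈ N) ∧ ∃ n ∈ N, ∃ b ∈ nbr D a, ¬ Commute n b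
  cent_odd : ∀ a ∈ D, ∀ N : Subgroup Y, N ≤ Subgroup.centralizer ({a} : Set Y) → Odd (Nat.card N) →
    (∀ g ∈ Subgroup.centralizer ({a} : Set Y), ∀ n ∈ N, g * n * g⁻¹ ∈ N) → N = ⊥

/-- The members joined to `a` by a chain of commuting members. -/
def comp (D : Set Y) (a : Y) : Set Y :=
  {b | Relation.ReflTransGen (fun x y => y ∈ nbr D x) a b}

/-- What the local conditions give about the component of a member. -/
def CompFacts (D : Set Y) (a : Y) : Prop :=
  (comp D a).ncard = 693 ∧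
    Subgroup.centralizer ({a} : Set Y) ≤ Subgroup.closure (comp D a) ∧
    (∀ g, ∀ b ∈ comp D a, g * b * g⁻¹ ∈ comp D a → g ∈ Subgroup.closure (comp D a)) ∧
    Nat.card (Subgroup.closure (comp D a)) = 9196830720 ∧
    ∃ (F : Type) (_ : Field F) (_ : Fintype F), Fintype.card F = 4 ∧
      Nonempty (Subgroup.closure (comp D a) ≃* Cfsg.PSU 6 F 2)

end CfsgLib.Trans3.FiLarge.U6
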