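import Cfsg.Agent.Lib.Trans3.FiLarge.U6.Transv

/-!
The five transvections in `W` and the existence of a transvection at each point.
-/

set_option autoImplicit false
set_option linter.unusedSectionVars false

namespace CfsgLib.Trans3.FiLarge.U6

open Matrix CfsgLib.Trans3.FiLarge CfsgLib.Trans3.FischerType.PairCode
open CfsgLib.Chev.U43U6 hiding orth
open CfsgLib.Trans3.FiLarge.SmallStab (orth onLn lineOf)

namespace Mdl

variable {b : Fin 3} (M : Mdl b)

/-- The transvections in `W`. -/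
def five : Set (GS F4) := {w | w ∈ M.f.W ∧ M.IsT w}

theorem five_trans {w w' : GS F4} (hw : w ∈ M.five) (hw' : w' ∈ M.five) :
    ∃ g, g ∈ M.f.N ∧ g ∈ M.S ∧ g * w * g⁻¹ = w' := by
  have hs : InSmall b (M.u + om • M.u) := by
    rw [show M.u + om • M.u = (1 + om) • M.u by rw [add_smul, one_smul]]
    exact inSmall_smul M.u_small (by decide)
  obtain ⟨g, hg, h1, -, h3⟩ := M.f.stab_trans _ M.u_mem M.u_small _ (M.hf.smul _ M.u_mem om)
    (inSmall_smul M.u_small (by decide)) hs w hw.1 hw.2.u_line w' hw'.1 hw'.2.u_line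
  exact ⟨g, hg, ⟨M.f.N_le hg, h1⟩, h3⟩

theorem five_ncard : M.five.ncard = 5 := by
  classical
  set Ws : Finset (GS F4) := ((M.f.W : Set (GS F4)) \ {1}).toFinite.toFinset with hWsdef
  set Ts : Finset V6 := {t : V6 | t ∈ M.f.U ∧ InSmall b t}.toFinite.toFinset with hTsdef
  have hWs : ∀ w, w ∈ Ws ↔ w ∈ M.f.W ∧ w ≠ 1 := fun w => by simp [Ws]
  have hTs : ∀ t, t ∈ Ts ↔ t ∈ M.f.U ∧ InSmall b t := fun t => by simp [Ts]
  have hWc : Ws.card = 15 := by
    rw [hWsdef, ← Set.ncard_eq_toFinset_card, Set.ncard_sdiff_singleton_of_mem (one_mem M.f.W),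
      ← Nat.card_coe_set_eq, SetLike.coe_sort_coe, M.f.card_W]
  have hTc : Ts.card = 18 := by
    rw [hTsdef, ← Set.ncard_eq_toFinset_card]; exact M.f.card_small
  set C : V6 → ℕ := fun t => (Ws.filter fun w => t ∈ line w).card with hC
  have hle : ∀ s ∈ Ts, ∀ t ∈ Ts, C s ≤ C t := by
    intro s hs t ht
    rw [hTs] at hs ht
    obtain ⟨g, hg, e⟩ := M.f.trans_small s hs.1 hs.2 t ht.1 ht.2
    refine Finset.card_le_card_of_injOn (fun w => g * w * g⁻¹) (fun w hw => ?_)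
      (fun x _ y _ h => by simpa using h)
    simp only [Finset.mem_coe, Finset.mem_filter, hWs] at hw ⊢
    refine ⟨⟨M.f.N_norm g hg w hw.1.1, fun e1 => hw.1.2 ?_⟩, ?_⟩
    · calc w = g⁻¹ * (g * w * g⁻¹) * g := by group
        _ = 1 := by rw [e1]; group
    · rw [line_conj]; exact ⟨s, hw.2, e⟩
  have hu : M.u ∈ Ts := (hTs _).2 ⟨M.u_mem, M.u_small⟩
  have hsum := Finset.sum_card_bipartiteAbove_eq_sum_card_bipartiteBelow
    (s := Ws) (t := Ts) (fun (w : GS F4) (t : V6) => t ∈ line w)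
  have h1 : ∀ w ∈ Ws, (Finset.bipartiteAbove (fun (w : GS F4) (t : V6) => t ∈ line w) Ts w).card = 6 := by
    intro w hw
    rw [hWs] at hw
    rw [Finset.bipartiteAbove, ← M.f.line_small w hw.1 hw.2, Set.ncard_eq_toFinset_card']
    congr 1
    ext t
    simp only [Finset.mem_filter, hTs, Set.mem_toFinset, Set.mem_setOf_eq]
    exact ⟨fun h => ⟨h.2, h.1.2⟩, fun h => ⟨⟨M.f.line_sub w hw.1 h.1, h.2⟩, h.1⟩⟩
  have h2 : ∀ t ∈ Ts, (Finset.bipartiteBelow (fun (w : GS F4) (t : V6) => t ∈ line w) Ws t).card = C M.u :=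
    fun t ht => le_antisymm (hle t ht _ hu) (hle _ hu t ht)
  rw [Finset.sum_const_nat h1, Finset.sum_const_nat h2, hWc, hTc] at hsum
  have h5 : C M.u = 5 := by omega
  rw [← h5, hC]
  show M.five.ncard = (Ws.filter fun w => M.u ∈ line w).card
  rw [Set.ncard_eq_toFinset_card' M.five]
  refine congrArg Finset.card (Finset.ext fun w => ?_)
  simp only [Set.mem_toFinset, Finset.mem_filter, hWs]
  exact ⟨fun h => ⟨⟨h.1, h.2.ne_one⟩, h.2.u_line⟩,
    fun h => ⟨h.1.1, M.W_S h.1.1, M.sq w h.1.1, h.2⟩⟩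

theorem five_pt {w : GS F4} (hw : w ∈ M.five) : ∃ p, onLn p M.LU = true ∧ M.HasPt w p := by
  obtain ⟨p, hp⟩ := hw.2.exists_pt
  obtain ⟨x, -, hx⟩ := hp.point
  refine ⟨p, ?_, hp⟩
  rcases M.U_cases (M.f.line_sub w hw.1 ⟨x, rfl⟩) with ⟨c, e⟩ | ⟨k, hk, hkL⟩
  · exfalso
    obtain ⟨a, d, ha, e'⟩ := hx
    refine pt_ne M.g0 p (a⁻¹ * (c + d)) ?_
    have e'' : a • pt M.g0 p = (c + d) • uv M.g0 := by
      rw [add_smul, show c • uv M.g0 = a • pt M.g0 p + d • uv M.g0 from e.symm.trans e', add_assoc,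
        SmallStab.v6_self, add_zero]
    rw [← smul_smul, ← e'', smul_smul, inv_mul_cancel₀ ha, one_smul]
  · rwa [← prel_unique M.g0 hk hx]

theorem five_surj {p : Fin 45} (hp : onLn p M.LU = true) : ∃ w ∈ M.five, M.HasPt w p := by
  classical
  choose F hF1 hF2 using fun w : M.five => M.five_pt w.2
  have hinj : Function.Injective fun w : M.five => (⟨F w, hF1 w⟩ : {k : Fin 45 // onLn k M.LU = true}) := by
    intro v w e
    exact Subtype.ext ((hF2 v).eq (by rw [show F v = F w from congrArg Subtype.val e]; exact hF2 w))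
  have hb : Function.Bijective fun w : M.five => (⟨F w, hF1 w⟩ : {k : Fin 45 // onLn k M.LU = true}) := by
    rw [Nat.bijective_iff_injective_and_card]
    refine ⟨hinj, ?_⟩
    rw [show Nat.card M.five = 5 by rw [Nat.card_coe_set_eq, M.five_ncard], Nat.card_eq_fintype_card,
      Fintype.card_subtype, SmallStab.line_card]
  obtain ⟨w, hw⟩ := hb.2 ⟨p, hp⟩
  have e : F w = p := congrArg Subtype.val hw
  exact ⟨w, w.2, e ▸ hF2 w⟩

/-- Every point carries a transvection. -/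
theorem pt_surj (p : Fin 45) : ∃ k, M.HasPt k p := by
  obtain ⟨L, hL⟩ := quad_facts.2.1 p
  obtain ⟨g, hg, hmap⟩ := line_move M.hg0 M.LU L
  obtain ⟨p', hp', hrel⟩ := hmap p hL
  obtain ⟨w, -, hw⟩ := M.five_surj hp'
  exact ⟨_, hw.conj hg hrel⟩

end Mdl

end CfsgLib.Trans3.FiLarge.U6
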