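import Cfsg.Agent.Lib.Trans3.FiLarge.U6.Setting
import Cfsg.Agent.Lib.Trans3.FiLarge.U6.Five

/-!
The centraliser of the four-group inside the centraliser of `z`, in coordinates.
-/

set_option autoImplicit false
set_option linter.unusedSectionVars false

namespace CfsgLib.Trans3.FiLarge.U6

open Matrix CfsgLib.Trans3.FiLarge CfsgLib.Trans3.FischerType.PairCode
open CfsgLib.Chev.U43U6 hiding orth
open CfsgLib.Trans3.FiLarge.SmallStab (v0 herm6_smul_left herm6_smul_right mat_mul mat_one)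

theorem f4_om_facts : (om : F4) ≠ 0 ∧ (om : F4) ≠ 1 ∧ om ^ 2 ≠ om ∧ 1 + om ≠ 0 := by decide

theorem f4_tr_one : ∃ a : F4, a ^ 2 + a = 1 := ⟨om, by decide⟩

variable {G : Type*} [Group G] [Finite G] {z : G} {Q : Subgroup (Subgroup.centralizer ({z} : Set G))}
  [Q.Normal]

namespace Ctx

variable (X : Ctx z Q)

/-- The module data of the context. -/
noncomputable def mdl : Mdl X.c.b where
  g0 := X.a_small.choose
  hg0 := X.a_small.choose_spec.1
  f := X.f
  hf := X.hf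
  u_mem := by
    have h : uv X.a_small.choose = prG X.c X.a := X.a_small.choose_spec.2
    rw [h]; exact X.a_U
  sq := fun w hw => by
    obtain ⟨a, ha, rfl⟩ := X.spine.act_surj w hw
    rw [← X.spine.actG_mul ha ha, X.spine.sq ha, (X.spine.actG_eq_one (one_mem _)).2 (one_mem _)]

theorem mdl_u : X.mdl.u = prG X.c X.a := X.a_small.choose_spec.2

theorem mdl_f : X.mdl.f = X.f := rfl

theorem pr_b : prG X.c X.b = om • X.mdl.u := by rw [X.b_eq, X.mdl_u]

theorem mem_CE {g : G} : g ∈ X.CE ↔ X.a * g = g * X.a ∧ X.b * g = g * X.b := by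
  rw [Subgroup.mem_centralizer_iff]
  constructor
  · exact fun h => ⟨h _ (Subgroup.subset_closure (Or.inl rfl)), h _ (Subgroup.subset_closure (Or.inr rfl))⟩
  · rintro ⟨h1, h2⟩ e he
    induction he using Subgroup.closure_induction with
    | mem x hx => rcases hx with rfl | rfl; exacts [h1, h2]
    | one => rw [one_mul, mul_one]
    | mul x y _ _ hx hy => rw [mul_assoc, hy, ← mul_assoc, hx, mul_assoc]
    | inv x _ hx => rw [inv_mul_eq_iff_eq_mul, ← mul_assoc, hx, mul_inv_cancel_right]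

theorem E_qg {e : G} (he : e ∈ X.E) : e ∈ qg Q :=
  (Subgroup.closure_le _).2 (Set.insert_subset X.a_mem (Set.singleton_subset_iff.2 X.b_mem)) he

theorem E_pr {e : G} (he : e ∈ X.E) : ∃ c : F4, prG X.c e = c • X.mdl.u := by
  induction he using Subgroup.closure_induction with
  | mem x hx =>
    rcases hx with rfl | rfl
    · exact ⟨1, by rw [one_smul, X.mdl_u]⟩
    · exact ⟨om, X.pr_b⟩
  | one => exact ⟨0, by rw [prG_one, zero_smul]⟩
  | mul x y hx hy ihx ihy =>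
    obtain ⟨c, hc⟩ := ihx
    obtain ⟨d, hd⟩ := ihy
    exact ⟨c + d, by rw [prG_mul X.c (X.E_qg hx) (X.E_qg hy), hc, hd, add_smul]⟩
  | inv x hx ih => rw [prG_inv X.c (X.E_qg hx)]; exact ih

theorem E_CE {e g : G} (he : e ∈ X.E) (hg : g ∈ X.CE) : e * g = g * e := Subgroup.mem_centralizer_iff.1 hg e he

theorem z_cent : z ∈ Subgroup.centralizer ({z} : Set G) := Subgroup.mem_centralizer_singleton_iff.2 rfl

/-- The elements of `Q` centralising `E`. -/
theorem qg_CE {q : G} (hq : q ∈ qg Q) : q ∈ X.CE ↔ herm6 (prG X.c q) X.mdl.u = 0 := by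
  rw [X.mem_CE, comm_iff_bform X.c X.a_mem hq, comm_iff_bform X.c X.b_mem hq, X.pr_b, ← X.mdl_u]
  constructor
  · rintro ⟨h1, h2⟩
    rw [bform] at h1 h2
    rw [herm6_smul_left] at h2
    refine herm6_comm.1 ?_
    exact (show ∀ x : F4, x + x ^ 2 = 0 → om * x + (om * x) ^ 2 = 0 → x = 0 by decide) _ h1 h2
  · intro h
    have h' := herm6_comm.1 h
    constructor
    · rw [bform, h']; decide
    · rw [bform, herm6_smul_left, h']; decide

theorem z_CE : z ∈ X.CE := by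
  rw [X.qg_CE X.spine.z_qg, X.spine.prG_z]
  simp [herm6, Cfsg.hermForm]

/-- The elements centralising both `E` and `z`. -/
abbrev HE : Subgroup G := X.CE ⊓ Subgroup.centralizer ({z} : Set G)

theorem qg_HE {q : G} (hq : q ∈ qg Q) : q ∈ X.HE ↔ herm6 (prG X.c q) X.mdl.u = 0 :=
  ⟨fun h => (X.qg_CE hq).1 h.1, fun h => ⟨(X.qg_CE hq).2 h, qg_le hq⟩⟩

theorem mem_M {h : G} (hh : h ∈ X.HE) : ∃ m : X.c.M, ((m : Subgroup.centralizer ({z} : Set G)) : G) = h := by
  set k : Subgroup.centralizer ({z} : Set G) := ⟨h, hh.2⟩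
  by_cases hk : k ∈ X.c.M
  · exact ⟨⟨k, hk⟩, rfl⟩
  exfalso
  obtain ⟨q, hq, eq⟩ := X.a_mem
  obtain ⟨r, hr, er⟩ := X.b_mem
  simp only [Subgroup.coe_subtype] at eq er
  have hpa : X.c.pr q = X.mdl.u := by rw [← prG_coe, eq, X.mdl_u]
  have hpb : X.c.pr r = om • X.mdl.u := by rw [← prG_coe, er, X.pr_b]
  have hcomm := X.mem_CE.1 hh.1
  have e1 : k * q * k⁻¹ = q := Subtype.ext (by
    show h * (q : G) * h⁻¹ = q
    rw [eq, ← hcomm.1, mul_inv_cancel_right])
  have e2 : k * r * k⁻¹ = r := Subtype.ext (by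
    show h * (r : G) * h⁻¹ = r
    rw [er, ← hcomm.2, mul_inv_cancel_right])
  have := X.semi k hk q hq r hr om (by rw [hpb, hpa])
  rw [e1, e2, hpb, hpa] at this
  exact f4_om_facts.2.2.1 (smul_left_injective F4 X.mdl.u_ne this).symm

/-- The action on `Q`. -/
noncomputable abbrev act (h : G) : GS F4 := actG X.c h

theorem act_mul {g h : G} (hg : g ∈ X.HE) (hh : h ∈ X.HE) : X.act (g * h) = X.act g * X.act h := by
  obtain ⟨m, rfl⟩ := X.mem_M hg
  obtain ⟨n, rfl⟩ := X.mem_M hh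
  rw [← Subgroup.coe_mul, ← Subgroup.coe_mul, act, act, act, actG_coe, actG_coe, actG_coe, map_mul]

/-- The action as a homomorphism. -/
noncomputable def rho : X.HE →* GS F4 := MonoidHom.mk' (fun h => X.act h) fun g h => X.act_mul g.2 h.2

theorem act_one : X.act 1 = 1 := map_one X.rho

theorem act_inv {g : G} (hg : g ∈ X.HE) : X.act g⁻¹ = (X.act g)⁻¹ := map_inv X.rho ⟨g, hg⟩

theorem act_eq_one {h : G} (hh : h ∈ X.HE) : X.act h = 1 ↔ h ∈ qg Q := by
  obtain ⟨m, rfl⟩ := X.mem_M hh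
  rw [act, actG_coe, X.c.ker_act, mem_qg]

/-- Conjugating an element of `Q`. -/
theorem act_conj {h q : G} (hh : h ∈ X.HE) (hq : q ∈ qg Q) :
    h * q * h⁻¹ ∈ qg Q ∧ prG X.c (h * q * h⁻¹) = mat (X.act h) *ᵥ prG X.c q := by
  obtain ⟨m, rfl⟩ := X.mem_M hh
  rw [act, actG_coe]
  exact conj_prG X.c hq

/-- The commutator with an element of `Q`. -/
theorem act_comm {h q : G} (hh : h ∈ X.HE) (hq : q ∈ qg Q) :
    h * q * h⁻¹ * q⁻¹ ∈ qg Q ∧ prG X.c (h * q * h⁻¹ * q⁻¹) = nf (X.act h) (prG X.c q) := by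
  obtain ⟨h1, h2⟩ := X.act_conj hh hq
  exact ⟨mul_mem h1 (inv_mem hq), by rw [prG_mul X.c h1 (inv_mem hq), h2, prG_inv X.c hq]; rfl⟩

theorem act_mem {h : G} (hh : h ∈ X.HE) : X.act h ∈ X.mdl.S := by
  refine ⟨?_, ?_⟩
  · obtain ⟨m, rfl⟩ := X.mem_M hh
    rw [act, actG_coe, ← X.c.range_act]; exact ⟨m, rfl⟩
  · show mat _ *ᵥ X.mdl.u = X.mdl.u
    rw [X.mdl_u, ← (X.act_conj hh X.a_mem).2, ← (X.mem_CE.1 hh.1).1, mul_inv_cancel_right]

theorem act_surj {g : GS F4} (hg : g ∈ X.mdl.S) : ∃ h ∈ X.HE, X.act h = g := by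
  obtain ⟨m, rfl⟩ : g ∈ X.c.act.range := by rw [X.c.range_act]; exact hg.1
  set n := ((m : Subgroup.centralizer ({z} : Set G)) : G) with hn
  have hfix : mat (X.c.act m) *ᵥ X.mdl.u = X.mdl.u := hg.2
  obtain ⟨a1, a2⟩ := conj_prG X.c (m := m) X.a_mem
  obtain ⟨b1, b2⟩ := conj_prG X.c (m := m) X.b_mem
  rw [← X.mdl_u, hfix] at a2
  rw [X.pr_b, mulVec_smul, hfix] at b2
  have ha := (prG_eq_iff X.c X.a_mem a1).1 (by rw [a2, X.mdl_u])
  have hb := (prG_eq_iff X.c X.b_mem b1).1 (by rw [b2, X.pr_b])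
  classical
  obtain ⟨v, hv1, hv2⟩ := bform_pair X.mdl.u_ne (u' := om • X.mdl.u)
    (by rw [Ne, smul_eq_zero]; exact fun e => e.elim f4_om_facts.1 X.mdl.u_ne)
    (fun e => f4_om_facts.2.1 (smul_left_injective F4 X.mdl.u_ne (e.trans (one_smul F4 _).symm)))
    (if n * X.a * n⁻¹ = X.a then 0 else 1) (if n * X.b * n⁻¹ = X.b then 0 else 1)
    (by split_ifs <;> simp) (by split_ifs <;> simp)
  obtain ⟨q, hq, rfl⟩ := prG_surj X.c v
  have key : ∀ x : G, x ∈ qg Q → (n * x * n⁻¹ = x ∨ n * x * n⁻¹ = x * z) →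
      bform (prG X.c x) (prG X.c q) = (if n * x * n⁻¹ = x then 0 else 1) →
      x * (q * n) = q * n * x := by
    intro x hx hcases hb
    have hzc : n * z * n⁻¹ = z := by
      rw [mul_inv_eq_iff_eq_mul]; exact Subgroup.mem_centralizer_singleton_iff.1 m.1.2
    have hqz : q * z = z * q := Subgroup.mem_centralizer_singleton_iff.1 (qg_le hq)
    have e : q * (n * x * n⁻¹) * q⁻¹ = x := by
      split_ifs at hb with h
      · rw [h, conj_fixed X.c hq hx hb]
      · rw [hcases.resolve_left h]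
        calc q * (x * z) * q⁻¹ = q * x * q⁻¹ * (q * z * q⁻¹) := by group
          _ = x * z * z := by rw [conj_moved X.c hq hx hb, hqz, mul_inv_cancel_right]
          _ = x := by rw [mul_assoc, X.spine.zz, mul_one]
    calc x * (q * n) = q * (n * x * n⁻¹) * q⁻¹ * (q * n) := by rw [e]
      _ = q * n * x := by group
  refine ⟨q * n, ⟨X.mem_CE.2 ⟨key _ X.a_mem ha (by rw [← X.mdl_u]; exact hv1),
    key _ X.b_mem hb (by rw [X.pr_b]; exact hv2)⟩, mul_mem (qg_le hq) m.1.2⟩, ?_⟩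
  obtain ⟨r, hr, rfl⟩ := hq
  show actG X.c ((r : G) * _) = _
  rw [← Subgroup.coe_mul,
    show r * (m : Subgroup.centralizer ({z} : Set G)) = ((⟨r, X.c.le_M hr⟩ * m : X.c.M) :
      Subgroup.centralizer ({z} : Set G)) from rfl, actG_coe, map_mul, (X.c.ker_act ⟨r, X.c.le_M hr⟩).2 hr,
    one_mul]

theorem rho_range : X.rho.range = X.mdl.S := by
  ext g
  exact ⟨fun ⟨h, e⟩ => e ▸ X.act_mem h.2, fun hg => by
    obtain ⟨h, hh, e⟩ := X.act_surj hg; exact ⟨⟨h, hh⟩, e⟩⟩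

/-- The hermitian product with `u` on `Q`. -/
noncomputable def phi : qg Q →* Multiplicative F4 :=
  MonoidHom.mk' (fun q => Multiplicative.ofAdd (herm6 (prG X.c q) X.mdl.u)) fun p q => by
    rw [Subgroup.coe_mul, prG_mul X.c p.2 q.2, SmallStab.herm6_add_left]; rfl

theorem phi_surj : Function.Surjective X.phi := by
  intro y
  obtain ⟨w, hw⟩ : ∃ w, herm6 X.mdl.u w ≠ 0 := by
    by_contra! h
    exact X.mdl.u_ne (herm6_eq_zero h)
  have hw' : herm6 w X.mdl.u ≠ 0 := fun e => hw (herm6_comm.1 e)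
  obtain ⟨q, hq, e⟩ := prG_surj X.c ((Multiplicative.toAdd y * (herm6 w X.mdl.u)⁻¹) • w)
  refine ⟨⟨q, hq⟩, ?_⟩
  show Multiplicative.ofAdd (herm6 (prG X.c q) X.mdl.u) = y
  rw [e, herm6_smul_left, mul_assoc, inv_mul_cancel₀ hw', mul_one]
  rfl

theorem card_rho_ker : Nat.card X.rho.ker = 2 ^ 11 := by
  have e : X.rho.ker ≃ X.phi.ker :=
    { toFun := fun h => ⟨⟨h.1, (X.act_eq_one h.1.2).1 h.2⟩, by
        show Multiplicative.ofAdd (herm6 (prG X.c (h.1 : G)) X.mdl.u) = 1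
        rw [(X.qg_HE ((X.act_eq_one h.1.2).1 h.2)).1 h.1.2]; rfl⟩
      invFun := fun q => ⟨⟨q.1, (X.qg_HE q.1.2).2 (Multiplicative.ofAdd.injective q.2)⟩,
        (X.act_eq_one ((X.qg_HE q.1.2).2 (Multiplicative.ofAdd.injective q.2))).2 q.1.2⟩
      left_inv := fun _ => rfl
      right_inv := fun _ => rfl }
  rw [Nat.card_congr e]
  have h := X.phi.ker.card_mul_index
  rw [Subgroup.index_ker, MonoidHom.range_eq_top.2 X.phi_surj, Nat.card_congr Subgroup.topEquiv.toEquiv,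
    card_qg, X.spine.card_Q, Nat.card_congr Multiplicative.toAdd, Nat.card_eq_fintype_card (α := F4), card_F4] at h
  omega

theorem card_HE : Nat.card X.HE = 2 ^ 11 * 25920 := by
  rw [← X.rho.ker.card_mul_index, Subgroup.index_ker, X.rho_range, X.card_rho_ker, card_Ku X.mdl.hg0]

/-- Only `z` itself is conjugate to `z` in its coset. -/
theorem zc_z_mem (hA : X.AFacts) {e : G} (he : e ∈ X.E) (hc : IsConj z (z * e)) : e = 1 := by
  by_contra h1
  obtain ⟨hq, -, hs⟩ := hA.E_small e he h1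
  refine X.spine.conj_small (z * e) (mul_mem X.spine.z_qg hq) ?_ hc
  rw [prG_mul X.c X.spine.z_qg hq, X.spine.prG_z, zero_add]
  exact hs

theorem zc_z_eq (hA : X.AFacts) : X.zc z = 1 := by
  rw [zc, Set.ncard_eq_one]
  exact ⟨1, Set.ext fun e => ⟨fun h => X.zc_z_mem hA h.1 h.2,
    fun h => by rw [h]; exact ⟨one_mem _, by rw [mul_one]⟩⟩⟩

theorem zc_mul {g e : G} (he : e ∈ X.E) : X.zc (g * e) = X.zc g := by
  refine Set.ncard_congr (fun x _ => e * x) (fun x hx => ⟨mul_mem he hx.1, by rw [← mul_assoc]; exact hx.2⟩)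
    (fun x y _ _ h => mul_left_cancel h) (fun x hx => ⟨e⁻¹ * x, ⟨mul_mem (inv_mem he) hx.1, by
      rw [← mul_assoc, mul_inv_cancel_right]; exact hx.2⟩, mul_inv_cancel_left e x⟩)

theorem zc_conj_CE {g n : G} (hn : n ∈ X.CE) : X.zc (n * g * n⁻¹) = X.zc g := by
  unfold zc
  congr 1
  ext e
  refine and_congr_right fun he => ?_
  have e1 : n * g * n⁻¹ * e = n * (g * e) * n⁻¹ := by
    calc n * g * n⁻¹ * e = n * g * n⁻¹ * (e * n) * n⁻¹ := by group
      _ = _ := by rw [X.E_CE he hn]; group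
  rw [e1]
  exact ⟨fun h => h.trans (isConj_iff.2 ⟨n, rfl⟩ : IsConj (g * e) _).symm,
    fun h => h.trans (isConj_iff.2 ⟨n, rfl⟩)⟩

/-- The image of `z`. -/
noncomputable def zY : X.Y := X.img ⟨z, X.z_CE⟩

theorem img_eq {g h : X.CE} : X.img g = X.img h ↔ (g : G)⁻¹ * h ∈ X.E :=
  QuotientGroup.eq.trans Iff.rfl

theorem img_mul (g h : X.CE) : X.img (g * h) = X.img g * X.img h := map_mul _ _ _

theorem img_eq_one {g : X.CE} : X.img g = 1 ↔ (g : G) ∈ X.E := QuotientGroup.eq_one_iff _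

/-- The centraliser of the image of `z` is the image of the centraliser of `z`. -/
theorem commute_zY (hA : X.AFacts) {y : X.Y} :
    Commute y X.zY ↔ ∃ h : X.CE, (h : G) ∈ Subgroup.centralizer ({z} : Set G) ∧ X.img h = y := by
  constructor
  · intro hc
    obtain ⟨g, rfl⟩ := QuotientGroup.mk'_surjective X.EC y
    refine ⟨g, ?_, rfl⟩
    have h1 : X.img (g * ⟨z, X.z_CE⟩) = X.img (⟨z, X.z_CE⟩ * g) := by
      rw [X.img_mul, X.img_mul]; exact hc.eq
    rw [X.img_eq] at h1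
    push_cast at h1
    have h2 : z⁻¹ * ((g : G) * z * (g : G)⁻¹) ∈ X.E := by
      have h4 : ((g : G) * z * (g : G)⁻¹)⁻¹ * z ∈ X.E := by
        have h6 : ((g : G) * z * (g : G)⁻¹)⁻¹ * z = (g : G) * (((g : G) * z)⁻¹ * (z * g)) * (g : G)⁻¹ := by
          group
        rw [h6, ← X.E_CE h1 g.2, mul_inv_cancel_right]
        exact h1
      have := inv_mem h4
      rwa [_root_.mul_inv_rev, inv_inv] at this
    have h7 := X.zc_z_mem hA h2 (by rw [mul_inv_cancel_left]; exact isConj_iff.2 ⟨g, rfl⟩)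
    rw [inv_mul_eq_one] at h7
    rw [Subgroup.mem_centralizer_singleton_iff]
    exact mul_inv_eq_iff_eq_mul.1 h7.symm
  · rintro ⟨h, hh, rfl⟩
    show X.img h * X.img _ = X.img _ * X.img h
    rw [← X.img_mul, ← X.img_mul]
    exact congrArg X.img (Subtype.ext (Subgroup.mem_centralizer_singleton_iff.1 hh))

end Ctx

end CfsgLib.Trans3.FiLarge.U6
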