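import Cfsg.Agent.Lib.Trans3.FiLarge.U6.CentBase
import Mathlib.LinearAlgebra.Basis.VectorSpace
import Mathlib.Algebra.Module.ZMod

/-!
Every involution of the centraliser of the image of `z` is conjugate there into the image of `A`.
-/

set_option autoImplicit false
set_option linter.unusedSectionVars false

namespace CfsgLib.Trans3.FiLarge.U6

open Matrix CfsgLib.Trans3.FiLarge CfsgLib.Trans3.FischerType.PairCode
open CfsgLib.Chev.U43U6 hiding orth
open CfsgLib.Trans3.FiLarge.SmallStab (v6_self herm6_smul_left herm6_smul_right herm6_add_left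
  herm6_add_right herm6_swap mat_mul mat_one)

/-- The element of the prime field with given bit. -/
def ofBit (x : ZMod 2) : F4 := if x = 1 then 1 else 0

/-- The bit of an element. -/
def toBit (x : F4) : ZMod 2 := if x = 1 then 1 else 0

theorem bit_facts : (∀ x y : ZMod 2, ofBit (x + y) = ofBit x + ofBit y) ∧
    (∀ x : F4, x = 0 ∨ x = 1 → ofBit (toBit x) = x) ∧
    (∀ x y : F4, x = 0 ∨ x = 1 → y = 0 ∨ y = 1 → toBit (x + y) = toBit x + toBit y) ∧
    (∀ e e' : ZMod 2, ∃ c : F4, c * 1 ^ 2 + (c * 1 ^ 2) ^ 2 = ofBit e ∧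
      c * om ^ 2 + (c * om ^ 2) ^ 2 = ofBit e') := by decide

/-- An additive function on a subgroup with values in the prime field comes from the form. -/
theorem exists_bform (S : AddSubgroup V6) (χ : S → F4) (h01 : ∀ x, χ x = 0 ∨ χ x = 1)
    (hadd : ∀ x y, χ (x + y) = χ x + χ y) : ∃ w : V6, ∀ x : S, bform w x = χ x := by
  classical
  letI : Module (ZMod 2) V6 := AddCommGroup.zmodModule fun x => by rw [two_nsmul, v6_self]
  set S' : Submodule (ZMod 2) V6 := AddSubgroup.toZModSubmodule 2 S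
  let l : S' →+ ZMod 2 := AddMonoidHom.mk' (fun x => toBit (χ ⟨x.1, x.2⟩)) fun x y => by
    rw [← bit_facts.2.2.1 _ _ (h01 _) (h01 _), ← hadd]; rfl
  obtain ⟨ψ, hψ⟩ := LinearMap.exists_extend (l.toZModLinearMap 2)
  choose c hc1 hc2 using fun i : Fin 6 => bit_facts.2.2.2 (ψ (Pi.single i 1)) (ψ (Pi.single i om))
  refine ⟨c, fun x => ?_⟩
  let f : V6 →+ F4 := AddMonoidHom.mk' (fun v => bform c v) fun u v => bform_add_right c u v
  let g : V6 →+ F4 := AddMonoidHom.mk' (fun v => ofBit (ψ v)) fun u v => by rw [map_add, bit_facts.1]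
  have hsingle : ∀ (i : Fin 6) (a : F4), bform c (Pi.single i a) = c i * a ^ 2 + (c i * a ^ 2) ^ 2 := by
    intro i a
    have h : herm6 c (Pi.single i a) = c i * a ^ 2 := by
      show (∑ k, c k * (Pi.single i a : V6) k ^ 2) = _
      rw [Finset.sum_eq_single i (fun k _ hk => by simp [hk]) (by simp), Pi.single_eq_same]
    rw [bform, h]
  have hfg : f = g := by
    refine AddMonoidHom.functions_ext F4 f g fun i a => ?_
    have h1 : f (Pi.single i 1) = g (Pi.single i 1) := (hsingle i 1).trans (hc1 i)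
    have h2 : f (Pi.single i om) = g (Pi.single i om) := (hsingle i om).trans (hc2 i)
    rcases CfsgLib.Trans3.FischerType.f4_cases a with rfl | rfl | rfl | rfl
    · rw [Pi.single_zero, map_zero, map_zero]
    · exact h1
    · exact h2
    · rw [Pi.single_add, map_add, map_add, h1, h2]
  have h := DFunLike.congr_fun hfg (x : V6)
  rw [show bform c (x : V6) = f (x : V6) from rfl, h]
  show ofBit (ψ (x : V6)) = _
  have hx : (x : V6) ∈ S' := x.2
  rw [show ψ (x : V6) = toBit (χ x) from LinearMap.congr_fun hψ ⟨x, hx⟩]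
  exact bit_facts.2.1 _ (h01 x)

variable {G : Type*} [Group G] [Finite G] {z : G} {Q : Subgroup (Subgroup.centralizer ({z} : Set G))}
  [Q.Normal]

namespace Ctx

variable (X : Ctx z Q)

theorem A_HE (hA : X.AFacts) {a : G} (ha : a ∈ X.A) : a ∈ X.HE :=
  ⟨Subgroup.mem_centralizer_iff.2 fun _ he => X.spine.comm (hA.E_le he) ha, X.spine.A_le_cent ha⟩

/-- A criterion for lying in `A`. -/
theorem mem_A_of (hA : X.AFacts) {h : G} (hh : h ∈ X.HE) (hw : X.act h ∈ X.f.W)
    (hc : ∀ r ∈ qg Q, prG X.c r ∈ X.f.U → h * r = r * h) : h ∈ X.A := by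
  obtain ⟨a, ha, e⟩ := X.spine.act_surj _ hw
  have haH := X.A_HE hA ha
  have hai := mul_mem haH hh
  have hq : a * h ∈ qg Q := by
    rw [← X.act_eq_one hai, X.act_mul haH hh, show X.act a = X.act h from e]
    exact X.mdl.sq _ hw
  have hU : prG X.c (a * h) ∈ X.f.U := X.hf.perp _ fun x hx => by
    obtain ⟨r, hr, rfl⟩ := prG_surj X.c x
    rw [← comm_iff_bform X.c hq hr, mul_assoc, hc r hr hx, ← mul_assoc,
      X.spine.comm ha ((X.spine.mem_Q r hr).2 hx), mul_assoc]
  have := mul_mem ha ((X.spine.mem_Q _ hq).2 hU)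
  rwa [← mul_assoc, X.spine.sq ha, one_mul] at this

/-- Decomposition after conjugating into `W`. -/
theorem exists_decomp (hA : X.AFacts) {h : G} (hh : h ∈ X.HE) (hsq : h * h ∈ X.E) :
    ∃ n ∈ X.HE, ∃ a ∈ X.A, ∃ q ∈ qg Q, q ∈ X.HE ∧ n * h * n⁻¹ = a * q ∧ nf (X.act a) (prG X.c q) = 0 ∧
      a * q * a⁻¹ = q⁻¹ ∧ h * h = 1 := by
  have h2 : X.act h * X.act h = 1 := by
    rw [← X.act_mul hh hh, X.act_eq_one (mul_mem hh hh)]; exact X.E_qg hsq
  obtain ⟨g, hg, hw⟩ := X.mdl.conj_W (X.act_mem hh) h2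
  obtain ⟨n, hn, hne⟩ := X.act_surj hg
  set h' := n * h * n⁻¹ with hdef
  have hh' : h' ∈ X.HE := mul_mem (mul_mem hn hh) (inv_mem hn)
  have hact : X.act h' = g * X.act h * g⁻¹ := by
    rw [hdef, X.act_mul (mul_mem hn hh) (inv_mem hn), X.act_mul hn hh, X.act_inv hn, hne]
  obtain ⟨a, ha, e⟩ := X.spine.act_surj _ hw
  have haH := X.A_HE hA ha
  have e' : X.act a = g * X.act h * g⁻¹ := e
  have hq : a * h' ∈ qg Q := by
    rw [← X.act_eq_one (mul_mem haH hh'), X.act_mul haH hh', hact, e']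
    exact X.mdl.sq _ hw
  have hai : a⁻¹ = a := inv_eq_of_mul_eq_one_right (X.spine.sq ha)
  set q := a * h' with hqdef
  have hqH : q ∈ X.HE := mul_mem haH hh'
  have hsplit : h' = a * q := by rw [hqdef, ← mul_assoc, X.spine.sq ha, one_mul]
  have hsq' : h' * h' = h * h := by
    calc h' * h' = n * (h * h) * n⁻¹ := by rw [hdef]; group
      _ = h * h := by rw [← X.E_CE hsq hn.1, mul_inv_cancel_right]
  obtain ⟨c1, c2⟩ := X.act_conj haH hq
  have hee : a * q * a⁻¹ * q = h * h := by rw [← hsq', hsplit, hai]; group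
  have hpr : prG X.c (h * h) = nf (X.act a) (prG X.c q) := by
    rw [← hee, prG_mul X.c c1 hq, c2]; rfl
  obtain ⟨c, hc⟩ := X.E_pr hsq
  have hzero := hpr.symm.trans hc
  have hc0 := X.mdl.no_u (X.act_mem haH) (by rw [e']; exact X.mdl.sq _ hw) ((X.qg_HE hq).1 hqH) hzero
  rw [hc0, zero_smul] at hc
  have h1 : h * h = 1 := ((prG_eq_zero X.c (X.E_qg hsq)).1 hc).resolve_right fun e => hA.z_notMem (e ▸ hsq)
  exact ⟨n, hn, a, ha, q, hq, hqH, hsplit, by rw [← hpr, hc], mul_eq_one_iff_eq_inv.1 (hee.trans h1), h1⟩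

/-- The square of a lift of an involution is trivial. -/
theorem lift_sq (hA : X.AFacts) {h : G} (hh : h ∈ X.HE) (hsq : h * h ∈ X.E) : h * h = 1 := by
  obtain ⟨n, -, a, -, q, -, -, -, -, -, h1⟩ := X.exists_decomp hA hh hsq
  exact h1

/-- The function by which an element of `A` moves the preimages of the vectors it fixes. -/
theorem exists_twist (hA : X.AFacts) {a : G} (ha : a ∈ X.A) :
    ∃ w ∈ X.f.U, ∀ r ∈ qg Q, nf (X.act a) (prG X.c r) = 0 →
      (bform w (prG X.c r) = 0 → a * r * a⁻¹ = r) ∧ (bform w (prG X.c r) = 1 → a * r * a⁻¹ = r * z) := by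
  classical
  have haH := X.A_HE hA ha
  let S : AddSubgroup V6 :=
    (AddMonoidHom.mk' (fun v => nf (X.act a) v) (nf_add _)).ker
  have hcase : ∀ r ∈ qg Q, nf (X.act a) (prG X.c r) = 0 → a * r * a⁻¹ = r ∨ a * r * a⁻¹ = r * z := by
    intro r hr h0
    obtain ⟨h1, h2⟩ := X.act_conj haH hr
    exact (prG_eq_iff X.c hr h1).1 (by rw [h2, mulVec_eq, h0, add_zero])
  have hzc : ∀ x : G, x ∈ qg Q → x * z = z * x := fun x hx => Subgroup.mem_centralizer_singleton_iff.1 (qg_le hx)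
  choose sec hsec1 hsec2 using prG_surj (Q := Q) X.c
  have hind : ∀ r ∈ qg Q, ∀ r' ∈ qg Q, prG X.c r = prG X.c r' → (a * r * a⁻¹ = r ↔ a * r' * a⁻¹ = r') := by
    intro r hr r' hr' e
    rcases (prG_eq_iff X.c hr hr').1 e with rfl | rfl
    · exact Iff.rfl
    · have haz : a * z * a⁻¹ = z := by
        rw [← Subgroup.mem_centralizer_singleton_iff.1 (X.spine.A_le_cent ha) |>.symm, mul_inv_cancel_right]
      rw [show a * (r * z) * a⁻¹ = a * r * a⁻¹ * (a * z * a⁻¹) by group, haz]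
      exact ⟨fun e => by rw [e], fun e => mul_right_cancel e⟩
  let χ : S → F4 := fun x => if a * sec x.1 * a⁻¹ = sec x.1 then 0 else 1
  have hχ : ∀ r ∈ qg Q, ∀ h0 : nf (X.act a) (prG X.c r) = 0,
      χ ⟨prG X.c r, h0⟩ = if a * r * a⁻¹ = r then 0 else 1 := by
    intro r hr h0
    simp only [χ, hind r hr _ (hsec1 _) (hsec2 _).symm]
  obtain ⟨w, hw⟩ := exists_bform S χ (fun x => by simp only [χ]; split_ifs <;> simp) fun x y => by
    have hx := x.2
    have hy := y.2
    obtain ⟨x, _⟩ := x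
    obtain ⟨y, _⟩ := y
    have hxy : nf (X.act a) (prG X.c (sec x * sec y)) = 0 := by
      rw [prG_mul X.c (hsec1 x) (hsec1 y), hsec2, hsec2, nf_add, show nf (X.act a) x = 0 from hx,
        show nf (X.act a) y = 0 from hy, add_zero]
    have e := hχ _ (mul_mem (hsec1 x) (hsec1 y)) hxy
    have e' : (⟨prG X.c (sec x * sec y), hxy⟩ : S) = ⟨x, hx⟩ + ⟨y, hy⟩ := Subtype.ext (by
      show prG X.c (sec x * sec y) = x + y
      rw [prG_mul X.c (hsec1 x) (hsec1 y), hsec2, hsec2])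
    rw [e'] at e
    rw [e]
    simp only [χ]
    have hm : a * (sec x * sec y) * a⁻¹ = a * sec x * a⁻¹ * (a * sec y * a⁻¹) := by group
    rcases hcase _ (hsec1 x) (by rw [hsec2]; exact hx) with ex | ex <;>
      rcases hcase _ (hsec1 y) (by rw [hsec2]; exact hy) with ey | ey <;> rw [hm, ex, ey]
    · simp
    · simp [← mul_assoc, X.spine.z_ne]
    · have e2 : sec x * z * sec y = sec x * sec y * z := by rw [mul_assoc, ← hzc _ (hsec1 y), ← mul_assoc]
      simp [e2, X.spine.z_ne]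
    · have e2 : sec x * z * (sec y * z) = sec x * sec y := by
        calc sec x * z * (sec y * z) = sec x * (z * sec y) * z := by group
          _ = sec x * sec y * (z * z) := by rw [← hzc _ (hsec1 y)]; group
          _ = _ := by rw [X.spine.zz, mul_one]
      simp [e2, X.spine.z_ne, show (1 : F4) + 1 = 0 by decide]
  have hmain : ∀ r ∈ qg Q, nf (X.act a) (prG X.c r) = 0 →
      (bform w (prG X.c r) = 0 → a * r * a⁻¹ = r) ∧ (bform w (prG X.c r) = 1 → a * r * a⁻¹ = r * z) := by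
    intro r hr h0
    have e := (hw ⟨_, h0⟩).trans (hχ r hr h0)
    refine ⟨fun h => ?_, fun h => (hcase r hr h0).resolve_left fun hf => ?_⟩
    · change bform w (prG X.c r) = _ at e
      rw [h] at e
      by_contra hf
      rw [if_neg hf] at e
      exact zero_ne_one e
    · change bform w (prG X.c r) = _ at e
      rw [h, if_pos hf] at e
      exact one_ne_zero e
  refine ⟨w, X.hf.perp w fun x hx => ?_, hmain⟩
  obtain ⟨r, hr, rfl⟩ := prG_surj X.c x
  have h0 : nf (X.act a) (prG X.c r) = 0 := (fixed_iff _ _).1 (X.f.W_fix _ (X.spine.act_W a ha) _ hx)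
  refine (bform_01 _ _).resolve_right fun h1 => X.spine.z_ne ?_
  have e := (hmain r hr h0).2 h1
  rw [X.spine.comm ha ((X.spine.mem_Q r hr).2 hx), mul_inv_cancel_right] at e
  exact (mul_eq_left.1 e.symm)

/-- An involution centralising `E` and `z` is conjugate into `A`. -/
theorem conj_A (hA : X.AFacts) {h : G} (hh : h ∈ X.HE) (hsq : h * h = 1) :
    ∃ n ∈ X.HE, n * h * n⁻¹ ∈ X.A := by
  obtain ⟨n, hn, a, ha, q, hq, hqH, hdec, hp0, hinv, -⟩ := X.exists_decomp hA hh (hsq ▸ one_mem _)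
  have haH := X.A_HE hA ha
  set k := X.act a with hk
  have hkS := X.act_mem haH
  have hk2 : k * k = 1 := X.mdl.sq _ (X.spine.act_W a ha)
  obtain ⟨wa, hwaU, hwa⟩ := X.exists_twist hA ha
  set p := prG X.c q with hp
  have hpu := (X.qg_HE hq).1 hqH
  obtain ⟨t0, t1⟩ := hwa q hq hp0
  have hself : herm6 p p = 0 ∨ herm6 p p = 1 := f4_sq_fix _ (herm6_swap _ _)
  have hiso : bform wa p = herm6 p p := by
    have hs := sq_iff_herm X.c hq
    rcases bform_01 wa p with e | e <;> rw [e]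
    · refine (hs.1 ?_).symm
      have := (t0 e).symm.trans hinv
      rwa [eq_inv_iff_mul_eq_one] at this
    · refine (hself.resolve_left fun e0 => X.spine.z_ne ?_).symm
      have h2 := (t1 e).symm.trans hinv
      rw [inv_eq_of_mul_eq_one_right (hs.2 e0)] at h2
      exact mul_eq_left.1 h2
  set w := wa + p with hw
  have hw0 : nf k w = 0 := by
    rw [hw, nf_add, hp0, (fixed_iff _ _).1 (X.f.W_fix _ (X.spine.act_W a ha) _ hwaU), add_zero]
  have hwu : herm6 w X.mdl.u = 0 := by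
    rw [hw, herm6_add_left, X.mdl.U_herm hwaU X.mdl.u_mem, hpu, add_zero]
  have hww : herm6 w w = 0 := by
    rw [hw, herm6_add_left, herm6_add_right, herm6_add_right, X.mdl.U_herm hwaU hwaU, zero_add, ← add_assoc,
      ← herm6_swap wa p, ← hiso, bform]
    exact f4_two _
  obtain ⟨L, hL⟩ := exists_line X.mdl.g0 (insert w (line k))
    (by rintro x (rfl | ⟨v, rfl⟩); exacts [hwu, X.mdl.herm_nf_u hkS hk2 v])
    (by
      have hz0 : ∀ v, herm6 (nf k v) w = 0 := fun v => by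
        rw [herm_nf hk2, hw0]; simp [herm6, Cfsg.hermForm]
      rintro x (rfl | ⟨v, rfl⟩) y (rfl | ⟨v', rfl⟩)
      exacts [hww, herm6_comm.1 (hz0 v'), hz0 v, herm_nf_nf hk2 v v'])
  obtain ⟨g, hg, hmv⟩ := X.mdl.exists_move L
  obtain ⟨n', hn', hne⟩ := X.act_surj hg
  refine ⟨n' * n, mul_mem hn' hn, ?_⟩
  have hh' : a * q ∈ X.HE := mul_mem haH hqH
  rw [show n' * n * h * (n' * n)⁻¹ = n' * (n * h * n⁻¹) * n'⁻¹ by group, hdec]
  refine X.mem_A_of hA (mul_mem (mul_mem hn' hh') (inv_mem hn')) ?_ fun r' hr' hU => ?_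
  · rw [X.act_mul (mul_mem hn' hh') (inv_mem hn'), X.act_mul hn' hh', X.act_mul haH hqH,
      (X.act_eq_one hqH).2 hq, mul_one, X.act_inv hn', hne]
    exact X.mdl.conj_W_of_line hkS hk2 L (fun j hj v => hL _ (Or.inr ⟨v, rfl⟩) j hj) hg hmv
  obtain ⟨y, hy, hyz⟩ := hmv _ hU
  obtain ⟨hr, hre⟩ := X.act_conj (inv_mem hn') hr'
  rw [X.act_inv hn', hne, hy, mat_inv_cancel, inv_inv] at hre
  rw [inv_inv] at hr
  set r := n'⁻¹ * r' * n' with hrdef
  have hy0 : nf k (prG X.c r) = 0 := by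
    rw [hre]
    refine nf_eq_zero hk2 fun v => herm6_comm.1 ?_
    exact hyz _ (X.mdl.herm_nf_u hkS hk2 v) fun j hj => hL _ (Or.inr ⟨v, rfl⟩) j hj
  have hwy : herm6 w (prG X.c r) = 0 := by
    rw [hre]; exact hyz w hwu fun j hj => hL _ (Or.inl rfl) j hj
  have hbw : bform w (prG X.c r) = 0 := by rw [bform, hwy]; decide
  rw [hw, bform_add_left] at hbw
  obtain ⟨s0, s1⟩ := hwa r hr hy0
  have hcomm : a * q * r * (a * q)⁻¹ = r := by
    rw [show a * q * r * (a * q)⁻¹ = a * (q * r * q⁻¹) * a⁻¹ by group]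
    have hsym : bform (prG X.c r) p = bform p (prG X.c r) := by
      rw [bform, bform, ← herm6_swap p]
      exact (show ∀ x : F4, x ^ 2 + (x ^ 2) ^ 2 = x + x ^ 2 by decide) _
    rcases bform_01 wa (prG X.c r) with e | e <;> rw [e] at hbw
    · rw [zero_add] at hbw
      rw [conj_fixed X.c hq hr (hsym.trans hbw), s0 e]
    · have hb1 : bform p (prG X.c r) = 1 := (show ∀ x : F4, 1 + x = 0 → x = 1 by decide) _ hbw
      have haz : a * z * a⁻¹ = z := by
        rw [← Subgroup.mem_centralizer_singleton_iff.1 (X.spine.A_le_cent ha) |>.symm, mul_inv_cancel_right]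
      rw [conj_moved X.c hq hr (hsym.trans hb1), show a * (r * z) * a⁻¹ = a * r * a⁻¹ * (a * z * a⁻¹) by group,
        haz, s1 e, mul_assoc, X.spine.zz, mul_one]
  have hc := mul_inv_eq_iff_eq_mul.1 hcomm
  calc n' * (a * q) * n'⁻¹ * r' = n' * (a * q * r) * n'⁻¹ := by rw [hrdef]; group
    _ = n' * (r * (a * q)) * n'⁻¹ := by rw [hc]
    _ = r' * (n' * (a * q) * n'⁻¹) := by rw [hrdef]; group

/-- Every involution of the centraliser of the image of `z` is conjugate into the image of `A`. -/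
theorem cover_zY (hA : X.AFacts) {i : X.Y} (hi : orderOf i = 2) (hc : Commute i X.zY) :
    ∃ k : X.Y, Commute k X.zY ∧ ∃ x : X.CE, (x : G) ∈ X.A ∧ X.img x = k * i * k⁻¹ := by
  obtain ⟨h, hz, rfl⟩ := (X.commute_zY hA).1 hc
  have hsq : (h : G) * h ∈ X.E := by
    have : X.img (h * h) = 1 := by rw [X.img_mul, ← pow_two, ← hi, pow_orderOf_eq_one]
    exact X.img_eq_one.1 this
  obtain ⟨n, hn, hx⟩ := X.conj_A hA ⟨h.2, hz⟩ (X.lift_sq hA ⟨h.2, hz⟩ hsq)
  refine ⟨X.img ⟨n, hn.1⟩, (X.commute_zY hA).2 ⟨⟨n, hn.1⟩, hn.2, rfl⟩, ⟨n, hn.1⟩ * h * ⟨n, hn.1⟩⁻¹, hx, ?_⟩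
  rw [X.img_mul, X.img_mul]
  rfl

end Ctx

end CfsgLib.Trans3.FiLarge.U6
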