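import Cfsg.Agent.Lib.Trans3.FiLarge.U6.CentNbr
import Cfsg.Agent.Lib.Trans3.FiLarge.SmallStab.TwoCore

/-!
The centraliser of the image of `z`: the product on a fibre, generation by the neighbours, normal subgroups.
-/

set_option autoImplicit false
set_option linter.unusedSectionVars false

namespace CfsgLib.Trans3.FiLarge.U6

open Matrix CfsgLib.Trans3.FiLarge CfsgLib.Trans3.FischerType.PairCode
open CfsgLib.Chev.U43U6 hiding orth
open CfsgLib.Trans3.FiLarge.SmallStab (orth onLn v6_self herm6_smul_left herm6_smul_right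
  herm6_add_left herm6_add_right mat_mul mat_one)

theorem f4_sum_three : ∀ a b c : F4, a ≠ 0 → b ≠ 0 → c ≠ 0 → a ≠ b → a ≠ c → b ≠ c → c = a + b := by decide

theorem f4_trace_ratio : ∀ a b : F4, a ≠ 0 → b ≠ 0 → a ≠ b → b * a ^ 2 + (b * a ^ 2) ^ 2 = 1 := by decide

theorem f4_iso_shift : ∀ a t : F4, a * t + (a * t) ^ 2 = 1 → 1 + a ^ 2 * t ^ 2 + (a * t + a * (a ^ 2 * 0)) = 0 := by
  decide

theorem f4_exists_trace : ∀ x : F4, x ≠ 0 → ∃ a : F4, a * x + (a * x) ^ 2 = 1 := by decide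

theorem exists_not_orth {b : Fin 3} (M : Mdl b) (p : Fin 45) : ∃ j, ¬ orth j p = true := by
  by_contra! hall
  obtain ⟨c, e⟩ := eq_smul_of_orth M.g0 (pt_u M.g0 p) fun j => herm6_comm.1 ((pt_orth M.g0 j p).2 (hall j))
  exact pt_ne M.g0 p c e

variable {G : Type*} [Group G] [Finite G] {z : G} {Q : Subgroup (Subgroup.centralizer ({z} : Set G))}
  [Q.Normal]

namespace Ctx

variable (X : Ctx z Q)

theorem comm_diff {h q : G} (hh : h ∈ X.NG) (hq : q ∈ qg Q) :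
    h * (q * h * q⁻¹) ∈ qg Q ∧ prG X.c (h * (q * h * q⁻¹)) = nf (X.act h) (prG X.c q) := by
  have e : h * (q * h * q⁻¹) = h * q * h⁻¹ * q⁻¹ := by rw [X.DG_inv hh.1]; group
  rw [e]
  exact X.act_comm (X.NG_HE hh) hq

theorem eq_z_or_one {q : G} (hq : q ∈ qg Q) (h0 : prG X.c q = 0) {h : G} (hh : h ∈ X.NG) : q * h * q⁻¹ = h := by
  rcases (prG_eq_zero X.c hq).1 h0 with rfl | rfl
  · group
  · rw [← hh.2.2, mul_inv_cancel_right]

/-- The four members over a point multiply to `z`. -/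
theorem fib_prod (hA : X.AFacts) {p : Fin 45} {b c d e : G} (hb : b ∈ X.fib p) (hc : c ∈ X.fib p)
    (hd : d ∈ X.fib p) (he : e ∈ X.fib p) (hbc : b ≠ c) (hbd : b ≠ d) (hbe : b ≠ e) (hcd : c ≠ d) (hce : c ≠ e)
    (hde : d ≠ e) : b * c * d * e = z := by
  obtain ⟨j, hj⟩ := exists_not_orth X.mdl p
  set y := pt X.mdl.g0 j
  obtain ⟨q1, hq1, hq1H, ⟨a1, ha1⟩, hc'⟩ := X.fib_orbit hA hj hb hc
  obtain ⟨q2, hq2, hq2H, ⟨a2, ha2⟩, hd'⟩ := X.fib_orbit hA hj hb hd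
  obtain ⟨q3, hq3, hq3H, ⟨a3, ha3⟩, he'⟩ := X.fib_orbit hA hj hb he
  have hsame : ∀ {q q' : G}, q ∈ qg Q → q' ∈ qg Q → prG X.c q = prG X.c q' → q * b * q⁻¹ = q' * b * q'⁻¹ := by
    intro q q' hq hq' h
    rcases (prG_eq_iff X.c hq hq').1 h with rfl | rfl
    · rfl
    · rw [show q * z * b * (q * z)⁻¹ = q * (z * b * z⁻¹) * q⁻¹ by group,
        X.eq_z_or_one X.spine.z_qg X.spine.prG_z hb.1]
  have hone : prG X.c (1 : G) = 0 := prG_one X.c
  have n1 : a1 ≠ 0 := fun h => hbc (by rw [← hc', hsame hq1 (one_mem _) (by rw [ha1, h, zero_smul, hone])]; group)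
  have n2 : a2 ≠ 0 := fun h => hbd (by rw [← hd', hsame hq2 (one_mem _) (by rw [ha2, h, zero_smul, hone])]; group)
  have n3 : a3 ≠ 0 := fun h => hbe (by rw [← he', hsame hq3 (one_mem _) (by rw [ha3, h, zero_smul, hone])]; group)
  have m12 : a1 ≠ a2 := fun h => hcd (by rw [← hc', ← hd', hsame hq1 hq2 (by rw [ha1, ha2, h])])
  have m13 : a1 ≠ a3 := fun h => hce (by rw [← hc', ← he', hsame hq1 hq3 (by rw [ha1, ha3, h])])
  have m23 : a2 ≠ a3 := fun h => hde (by rw [← hd', ← he', hsame hq2 hq3 (by rw [ha2, ha3, h])])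
  have hee : e = q1 * d * q1⁻¹ := by
    rw [← he', hsame hq3 (mul_mem hq1 hq2) (by
      rw [prG_mul X.c hq1 hq2, ha1, ha2, ha3, f4_sum_three a1 a2 a3 n1 n2 n3 m12 m13 m23, add_smul]), ← hd']
    group
  obtain ⟨hD, hDpr⟩ := X.comm_diff hb.1 hq2
  rw [hd', ha2, nf_smul] at hDpr
  rw [hd'] at hD
  have hy : herm6 y X.mdl.u = 0 := pt_u X.mdl.g0 j
  have hne : nf (X.act b) y ≠ 0 := fun h => hj ((pt_orth X.mdl.g0 j p).1 ((hb.2.nf_eq_zero_iff hy).1 h))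
  have hce' : c * e = b * d * z := by
    calc c * e = q1 * (b * d) * q1⁻¹ := by rw [← hc', hee]; group
      _ = _ := conj_moved X.c hq1 hD (by
        rw [hDpr, ha1, bform, herm6_smul_left, herm6_smul_right, hb.2.isT.self_one hy hne, mul_one,
          f4_trace_ratio a1 a2 n1 n2 m12])
  have ho : orth p p = true := quad_facts.1 p
  have ecd := X.NG_commute hA hc.1 hd.1 hc.2 hd.2 ho
  have ebd := X.NG_commute hA hb.1 hd.1 hb.2 hd.2 ho
  calc b * c * d * e = b * (c * d) * e := by group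
    _ = b * d * (c * e) := by rw [ecd]; group
    _ = b * d * (d * b) * z := by rw [hce', ← ebd]; group
    _ = z := by
      rw [show b * d * (d * b) = b * (d * d) * b by group, X.DG_sq hd.1.1, mul_one, X.DG_sq hb.1.1, one_mul]

/-- The subgroup generated by the members and `E`. -/
def KG : Subgroup G := Subgroup.closure (X.NG ∪ (X.E : Set G))

theorem E_HE (hA : X.AFacts) {e : G} (he : e ∈ X.E) : e ∈ X.HE := X.A_HE hA (hA.E_le he)

theorem KG_le (hA : X.AFacts) : X.KG ≤ X.HE :=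
  (Subgroup.closure_le _).2 fun x hx => hx.elim (fun h => X.NG_HE h) fun h => X.E_HE hA h

theorem KG_conj {n x : G} (hn : n ∈ X.HE) (hx : x ∈ X.KG) : n * x * n⁻¹ ∈ X.KG := by
  induction hx using Subgroup.closure_induction with
  | mem y hy =>
    refine Subgroup.subset_closure (hy.elim (fun h => Or.inl (X.NG_conj h hn)) fun h => Or.inr ?_)
    rw [← X.E_CE h hn.1, mul_inv_cancel_right]; exact h
  | one => rw [mul_one, mul_inv_cancel]; exact one_mem _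
  | mul x y _ _ hx hy => rw [show n * (x * y) * n⁻¹ = n * x * n⁻¹ * (n * y * n⁻¹) by group]; exact mul_mem hx hy
  | inv x _ hx => rw [show n * x⁻¹ * n⁻¹ = (n * x * n⁻¹)⁻¹ by group]; exact inv_mem hx

theorem z_KG (hA : X.AFacts) : z ∈ X.KG := by
  obtain ⟨h, hh⟩ := X.fib_nonempty hA 0
  have hc := X.fib_ncard hA 0
  obtain ⟨b, c, hbc, hb, hc', d, e, hd, he, h1, h2, h3, h4, h5⟩ : ∃ b c, b ≠ c ∧ b ∈ X.fib 0 ∧ c ∈ X.fib 0 ∧
      ∃ d e, d ∈ X.fib 0 ∧ e ∈ X.fib 0 ∧ b ≠ d ∧ b ≠ e ∧ c ≠ d ∧ c ≠ e ∧ d ≠ e := by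
    obtain ⟨b, t, hbt, hins, ht⟩ := Set.eq_insert_of_ncard_eq_succ (n := 3) hc
    obtain ⟨c, d, e, hcd, hce, hde, rfl⟩ := Set.ncard_eq_three.1 ht
    simp only [Set.mem_insert_iff, Set.mem_singleton_iff, not_or] at hbt
    refine ⟨b, c, hbt.1, ?_, ?_, d, e, ?_, ?_, hbt.2.1, hbt.2.2, hcd, hce, hde⟩ <;> rw [← hins] <;> simp
  have hm : ∀ x ∈ X.fib 0, x ∈ X.KG := fun x hx => Subgroup.subset_closure (Or.inl hx.1)
  have hmem := mul_mem (mul_mem (mul_mem (hm _ hb) (hm _ hc')) (hm _ hd)) (hm _ he)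
  rwa [X.fib_prod hA hb hc' hd he hbc h1 h2 h3 h4 h5] at hmem

theorem qg_le_KG (hA : X.AFacts) {q : G} (hq : q ∈ qg Q) (hqH : q ∈ X.HE) : q ∈ X.KG := by
  let S : AddSubgroup V6 :=
    { carrier := {v | ∃ r ∈ qg Q, r ∈ X.KG ∧ prG X.c r = v}
      zero_mem' := ⟨1, one_mem _, one_mem _, prG_one X.c⟩
      add_mem' := by
        rintro _ _ ⟨r, hr, hrK, rfl⟩ ⟨r', hr', hrK', rfl⟩
        exact ⟨r * r', mul_mem hr hr', mul_mem hrK hrK', prG_mul X.c hr hr'⟩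
      neg_mem' := by
        rintro _ ⟨r, hr, hrK, rfl⟩
        exact ⟨r, hr, hrK, (neg_eq_of_add_eq_zero_left (pf_self _)).symm⟩ }
  suffices hS : prG X.c q ∈ S by
    obtain ⟨r, hr, hrK, e⟩ := hS
    rcases (prG_eq_iff X.c hr hq).1 e with rfl | rfl
    exacts [hrK, mul_mem hrK (X.z_KG hA)]
  have hu : ∀ c : F4, c • X.mdl.u ∈ S := fun c => by
    obtain ⟨e, he, hec⟩ := X.E_four (c := c)
    exact ⟨e, X.E_qg he, Subgroup.subset_closure (Or.inr he), hec⟩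
  have hp : ∀ (p : Fin 45) (a : F4), a • pt X.mdl.g0 p ∈ S := by
    intro p a
    obtain ⟨j, hj⟩ := exists_not_orth X.mdl p
    obtain ⟨h, hh⟩ := X.fib_nonempty hA p
    have hne : herm6 (pt X.mdl.g0 j) (pt X.mdl.g0 p) ≠ 0 := fun e => hj ((pt_orth X.mdl.g0 j p).1 e)
    obtain ⟨c, hc⟩ := hh.2.coeff (pt_u X.mdl.g0 j) hne
    set β := herm6 (pt X.mdl.g0 p) (pt X.mdl.g0 j)
    have hβ : β ≠ 0 := fun e => hne (herm6_comm.1 e)
    obtain ⟨r, hr, hre⟩ := prG_surj X.c ((a * β) • pt X.mdl.g0 j)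
    have hrH : r ∈ X.HE := (X.qg_HE hr).2 (by
      rw [hre, herm6_smul_left, show herm6 (pt X.mdl.g0 j) X.mdl.u = 0 from pt_u X.mdl.g0 j, mul_zero])
    obtain ⟨hd, hdpr⟩ := X.comm_diff hh.1 hr
    rw [hre, nf_smul, hc] at hdpr
    have h1 : a • pt X.mdl.g0 p + (a * β * c) • X.mdl.u ∈ S := ⟨_, hd,
      mul_mem (Subgroup.subset_closure (Or.inl hh.1)) (Subgroup.subset_closure (Or.inl (X.NG_conj hh.1 hrH))),
      by rw [hdpr, smul_add, smul_smul, smul_smul, mul_assoc a β, mul_inv_cancel₀ hβ, mul_one]⟩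
    have := add_mem h1 (hu (a * β * c))
    rwa [add_assoc, v6_self, add_zero] at this
  have hiso : ∀ x, herm6 x X.mdl.u = 0 → herm6 x x = 0 → x ∈ S := by
    intro x hxu hxx
    by_cases h : ∀ c : F4, x ≠ c • X.mdl.u
    · obtain ⟨k, a, c, -, rfl⟩ := prel_exists X.mdl.g0 hxu hxx h
      exact add_mem (hp k a) (hu c)
    · push Not at h
      obtain ⟨c, rfl⟩ := h
      exact hu c
  have hxu := (X.qg_HE hq).1 hqH
  set x := prG X.c q
  rcases f4_sq_fix _ (SmallStab.herm6_swap x x) with hxx | hxx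
  · exact hiso x hxu hxx
  obtain ⟨k, hk⟩ : ∃ k, herm6 x (pt X.mdl.g0 k) ≠ 0 := by
    by_contra! hall
    obtain ⟨c, e⟩ := eq_smul_of_orth X.mdl.g0 hxu hall
    rw [e, herm6_smul_left, herm6_smul_right, uv_iso, mul_zero, mul_zero] at hxx
    exact zero_ne_one hxx
  obtain ⟨a, ha⟩ := f4_exists_trace (herm6 (pt X.mdl.g0 k) x) (fun e => hk (herm6_comm.1 e))
  have h1 : x + a • pt X.mdl.g0 k ∈ S := by
    refine hiso _ ?_ ?_
    · rw [herm6_add_left, herm6_smul_left, hxu, show herm6 (pt X.mdl.g0 k) X.mdl.u = 0 from pt_u X.mdl.g0 k,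
        mul_zero, add_zero]
    · rw [herm6_add_left, herm6_add_right x, herm6_add_right (a • pt X.mdl.g0 k), hxx, herm6_smul_right,
        herm6_smul_left, herm6_smul_left, herm6_smul_right, pt_iso,
        ← SmallStab.herm6_swap (pt X.mdl.g0 k) x]
      generalize herm6 (pt X.mdl.g0 k) x = t at ha ⊢
      exact f4_iso_shift a t ha
  have := add_mem h1 (hp k a)
  rwa [add_assoc, v6_self, add_zero] at this

/-- The action as a map onto the stabiliser. -/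
noncomputable def rhoS : X.HE →* X.mdl.S := X.rho.codRestrict _ fun h => X.act_mem h.2

theorem rhoS_surj : Function.Surjective X.rhoS := fun g => by
  obtain ⟨h, hh, e⟩ := X.act_surj g.2
  exact ⟨⟨h, hh⟩, Subtype.ext e⟩

theorem KG_eq (hA : X.AFacts) : X.KG = X.HE := by
  refine le_antisymm (X.KG_le hA) fun h hh => ?_
  haveI : IsSimpleGroup X.mdl.S := isSimple_Ku X.mdl.hg0
  haveI : (X.KG.subgroupOf X.HE).Normal := ⟨fun x hx n => X.KG_conj n.2 hx⟩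
  haveI := Subgroup.Normal.map (inferInstance : (X.KG.subgroupOf X.HE).Normal) X.rhoS X.rhoS_surj
  rcases ((inferInstance : ((X.KG.subgroupOf X.HE).map X.rhoS).Normal)).eq_bot_or_eq_top with hbot | htop
  · exfalso
    obtain ⟨x, hx⟩ := X.fib_nonempty hA 0
    have : X.rhoS ⟨x, X.NG_HE hx.1⟩ ∈ (X.KG.subgroupOf X.HE).map X.rhoS :=
      ⟨_, Subgroup.subset_closure (Or.inl hx.1), rfl⟩
    rw [hbot, Subgroup.mem_bot] at this
    exact hx.2.isT.ne_one (congrArg Subtype.val this)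
  · have hmem : X.rhoS ⟨h, hh⟩ ∈ (X.KG.subgroupOf X.HE).map X.rhoS := htop ▸ Subgroup.mem_top _
    obtain ⟨k, hk, e⟩ := hmem
    have hq : (k : G)⁻¹ * h ∈ qg Q := by
      rw [← X.act_eq_one (mul_mem (inv_mem k.2) hh), X.act_mul (inv_mem k.2) hh, X.act_inv k.2,
        show X.act (k : G) = X.act h from congrArg Subtype.val e, inv_mul_cancel]
    have hk' : (k : G) ∈ X.KG := hk
    have := mul_mem hk' (X.qg_le_KG hA hq (mul_mem (inv_mem k.2) hh))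
    rwa [mul_inv_cancel_left] at this

/-- The map onto the centraliser of the image of `z`. -/
noncomputable def imgH : X.HE →* X.Y := (QuotientGroup.mk' X.EC).comp (Subgroup.inclusion inf_le_left)

theorem imgH_range (hA : X.AFacts) : X.imgH.range = Subgroup.centralizer ({X.zY} : Set X.Y) := by
  ext y
  rw [Subgroup.mem_centralizer_singleton_iff]
  refine ⟨fun ⟨h, e⟩ => ((X.commute_zY hA).2 ⟨⟨h, h.2.1⟩, h.2.2, e⟩).eq, fun hy => ?_⟩
  obtain ⟨h, hh, e⟩ := (X.commute_zY hA).1 hy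
  exact ⟨⟨h, h.2, hh⟩, e⟩

theorem imgH_eq_one {h : X.HE} : X.imgH h = 1 ↔ (h : G) ∈ X.E := QuotientGroup.eq_one_iff _

theorem card_cent_zY (hA : X.AFacts) :
    Nat.card (Subgroup.centralizer ({X.zY} : Set X.Y)) = 13271040 := by
  have h := X.imgH.ker.card_mul_index
  rw [Subgroup.index_ker, X.imgH_range hA, X.card_HE,
    show X.imgH.ker = X.E.subgroupOf X.HE from Subgroup.ext fun x => X.imgH_eq_one,
    Nat.card_congr (Subgroup.subgroupOfEquivOfLe (show X.E ≤ X.HE from fun e he => X.E_HE hA he)).toEquiv,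
    hA.E_card] at h
  omega

theorem no_normal_two (hA : X.AFacts) {N : Subgroup X.Y} (h2 : IsPGroup 2 N)
    (hle : N ≤ Subgroup.centralizer ({X.zY} : Set X.Y)) (hne : N ≠ ⊥)
    (hn : ∀ g ∈ Subgroup.centralizer ({X.zY} : Set X.Y), ∀ n ∈ N, g * n * g⁻¹ ∈ N) : X.zY ∈ N := by
  set P := N.comap X.imgH
  haveI : P.Normal := ⟨fun x hx n => by
    show X.imgH (n * x * n⁻¹) ∈ N
    rw [map_mul, map_mul, map_inv]
    exact hn _ (by rw [← X.imgH_range hA]; exact ⟨n, rfl⟩) _ hx⟩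
  haveI := Subgroup.Normal.map (inferInstance : P.Normal) X.rhoS X.rhoS_surj
  have hR : P.map X.rhoS = ⊥ := by
    set S := (P.map X.rhoS).comap (kuEquiv X.mdl.hg0).toMonoidHom
    haveI : S.Normal := Subgroup.Normal.comap inferInstance _
    have hS : S = ⊥ := SmallStab.eq_bot_of_normal_two X.c.b (S := S) inferInstance fun g => by
      obtain ⟨x, hx, hxe⟩ := g.2
      obtain ⟨k, hk⟩ := h2 ⟨_, hx⟩
      refine ⟨k, Subtype.ext ((kuEquiv X.mdl.hg0).injective ?_)⟩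
      have hxk : X.imgH (x ^ 2 ^ k) = 1 := by rw [map_pow]; exact congrArg Subtype.val hk
      have h1 : X.rhoS (x ^ 2 ^ k) = 1 := Subtype.ext
        ((X.act_eq_one (x ^ 2 ^ k).2).2 (X.E_qg (X.imgH_eq_one.1 hxk)))
      rw [Subgroup.coe_pow, Subgroup.coe_one, map_pow, map_one, ← h1, map_pow]
      exact congrArg (· ^ 2 ^ k) hxe.symm
    refine (Subgroup.eq_bot_iff_forall _).2 fun g hg => ?_
    have : (kuEquiv X.mdl.hg0).symm g ∈ S := by
      show kuEquiv X.mdl.hg0 ((kuEquiv X.mdl.hg0).symm g) ∈ P.map X.rhoS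
      rwa [MulEquiv.apply_symm_apply]
    rw [hS, Subgroup.mem_bot] at this
    exact (kuEquiv X.mdl.hg0).symm.injective (this.trans (map_one _).symm)
  by_contra hz
  refine hne ((Subgroup.eq_bot_iff_forall _).2 fun y hy => ?_)
  obtain ⟨h, rfl⟩ : y ∈ X.imgH.range := by rw [X.imgH_range hA]; exact hle hy
  have hhq : (h : G) ∈ qg Q := by
    have : X.rhoS h ∈ P.map X.rhoS := ⟨h, hy, rfl⟩
    rw [hR, Subgroup.mem_bot] at this
    exact (X.act_eq_one h.2).1 (congrArg Subtype.val this)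
  have hzY : ∀ hz' : z ∈ X.HE, X.imgH ⟨z, hz'⟩ = X.zY := fun _ => rfl
  have hpr : ∃ c : F4, prG X.c h = c • X.mdl.u := by
    refine eq_smul_of_orth X.mdl.g0 ((X.qg_HE hhq).1 h.2) fun k => ?_
    have hb : ∀ a : F4, bform (prG X.c h) (a • pt X.mdl.g0 k) = 0 := by
      intro a
      obtain ⟨q, hq, hqe⟩ := prG_surj X.c (a • pt X.mdl.g0 k)
      have hqH : q ∈ X.HE := (X.qg_HE hq).2 (by
        rw [hqe, herm6_smul_left, show herm6 (pt X.mdl.g0 k) X.mdl.u = 0 from pt_u X.mdl.g0 k, mul_zero])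
      rw [← hqe]
      refine (bform_01 _ _).resolve_right fun h1 => hz ?_
      have hm : X.imgH (h⁻¹ * (⟨q, hqH⟩ * h * ⟨q, hqH⟩⁻¹)) ∈ N := by
        rw [map_mul, map_inv, map_mul, map_mul, map_inv]
        exact mul_mem (inv_mem hy) (hn _ (by rw [← X.imgH_range hA]; exact ⟨_, rfl⟩) _ hy)
      have hcm := conj_moved X.c hq hhq h1
      have hzH : z ∈ X.HE := ⟨X.z_CE, qg_le X.spine.z_qg⟩
      have heq : h⁻¹ * (⟨q, hqH⟩ * h * ⟨q, hqH⟩⁻¹) = ⟨z, hzH⟩ := Subtype.ext (by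
        show (h : G)⁻¹ * (q * h * q⁻¹) = z
        rw [hcm, inv_mul_cancel_left])
      rwa [heq, hzY] at hm
    have e1 := hb 1
    have e2 := hb om
    rw [bform, herm6_smul_right] at e1 e2
    rw [one_pow, one_mul] at e1
    exact f4_trace_pair _ e1 e2
  obtain ⟨c, hc⟩ := hpr
  obtain ⟨e, he, hec⟩ := X.E_four (c := c)
  rcases (prG_eq_iff X.c (X.E_qg he) hhq).1 (hec.trans hc.symm) with h' | h'
  · exact X.imgH_eq_one.2 (h' ▸ he)
  · exfalso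
    refine hz ?_
    have hzH : z ∈ X.HE := ⟨X.z_CE, qg_le X.spine.z_qg⟩
    have heq : h = ⟨e, X.E_HE hA he⟩ * ⟨z, hzH⟩ := Subtype.ext h'
    have hy' : X.imgH h ∈ N := hy
    rwa [heq, map_mul, X.imgH_eq_one.2 (show ((⟨e, X.E_HE hA he⟩ : X.HE) : G) ∈ X.E from he), one_mul, hzY] at hy'

/-- The image of the part of `Q`. -/
noncomputable def QY : Subgroup X.Y := ((qg Q).subgroupOf X.HE).map X.imgH

theorem QY_spec (hA : X.AFacts) : X.QY ≤ Subgroup.centralizer ({X.zY} : Set X.Y) ∧ IsPGroup 2 X.QY ∧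
    ∀ g ∈ Subgroup.centralizer ({X.zY} : Set X.Y), ∀ n ∈ X.QY, g * n * g⁻¹ ∈ X.QY := by
  refine ⟨?_, ?_, ?_⟩
  · rw [← X.imgH_range hA]; rintro _ ⟨h, -, rfl⟩; exact ⟨h, rfl⟩
  · haveI : Fact (Nat.Prime 2) := ⟨Nat.prime_two⟩
    rintro ⟨_, h, hh, rfl⟩
    refine ⟨13, Subtype.ext ?_⟩
    have h1 : (⟨h, hh⟩ : qg Q) ^ 2 ^ 13 = 1 := by
      have := pow_card_eq_one' (x := (⟨h, hh⟩ : qg Q))
      rwa [card_qg, X.spine.card_Q] at this
    show X.imgH h ^ 2 ^ 13 = 1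
    rw [← map_pow, X.imgH_eq_one]
    have h2 : ((h : G)) ^ 2 ^ 13 = 1 := congrArg Subtype.val h1
    rw [Subgroup.coe_pow, h2]
    exact one_mem _
  · rintro g hg _ ⟨q, hq, rfl⟩
    rw [← X.imgH_range hA] at hg
    obtain ⟨n, rfl⟩ := hg
    exact ⟨n * q * n⁻¹, conj_mem_qg n.2.2 hq, by rw [map_mul, map_mul, map_inv]⟩

theorem QY_moves (hA : X.AFacts) : ∃ n ∈ X.QY, ∃ g : X.CE, (g : G) ∈ X.NG ∧ ¬ Commute n (X.img g) := by
  obtain ⟨h, hh⟩ := X.fib_nonempty hA 0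
  obtain ⟨j, hj⟩ := exists_not_orth X.mdl 0
  obtain ⟨q, hq, hqe⟩ := prG_surj X.c (pt X.mdl.g0 j)
  have hqH : q ∈ X.HE := (X.qg_HE hq).2 (by rw [hqe]; exact pt_u X.mdl.g0 j)
  refine ⟨X.imgH ⟨q, hqH⟩, ⟨_, hq, rfl⟩, ⟨h, (X.NG_HE hh.1).1⟩, hh.1, fun hc => ?_⟩
  obtain ⟨-, hpr⟩ := X.comm_diff hh.1 hq
  have heq : h = q * h * q⁻¹ := by
    refine X.DG_eq hA hh.1.1 (X.DG_conj hh.1.1 hqH.1) ?_
    refine (X.img_eq (g := ⟨h, (X.NG_HE hh.1).1⟩) (h := ⟨q, hqH.1⟩ * ⟨h, (X.NG_HE hh.1).1⟩ * ⟨q, hqH.1⟩⁻¹)).1 ?_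
    rw [X.img_mul, X.img_mul, show X.img (⟨q, hqH.1⟩ : X.CE)⁻¹ = (X.img ⟨q, hqH.1⟩)⁻¹ from map_inv _ _]
    exact eq_mul_inv_of_mul_eq hc.eq.symm
  rw [← heq, X.DG_sq hh.1.1, prG_one, hqe] at hpr
  exact hj ((pt_orth X.mdl.g0 j 0).1 ((hh.2.nf_eq_zero_iff (pt_u X.mdl.g0 j)).1 hpr.symm))

theorem no_normal_odd (hA : X.AFacts) {N : Subgroup X.Y} (hodd : Odd (Nat.card N))
    (hle : N ≤ Subgroup.centralizer ({X.zY} : Set X.Y))
    (hn : ∀ g ∈ Subgroup.centralizer ({X.zY} : Set X.Y), ∀ n ∈ N, g * n * g⁻¹ ∈ N) : N = ⊥ := by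
  obtain ⟨hQle, hQp, hQn⟩ := X.QY_spec hA
  have hdisj : ∀ y ∈ N, y ∈ X.QY → y = 1 := by
    intro y hyN hyQ
    obtain ⟨k, hk⟩ := hQp ⟨y, hyQ⟩
    rw [← orderOf_eq_one_iff]
    refine Nat.Coprime.eq_one_of_dvd (k := orderOf y) (m := 2 ^ k) ?_
      (orderOf_dvd_of_pow_eq_one (congrArg Subtype.val hk))
    refine Nat.Coprime.pow_right _ (Nat.Coprime.symm ?_)
    rw [Nat.prime_two.coprime_iff_not_dvd]
    intro h2
    exact (Nat.not_even_iff_odd.2 hodd) (even_iff_two_dvd.2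
      (h2.trans (Subgroup.orderOf_dvd_natCard _ hyN)))
  refine (Subgroup.eq_bot_iff_forall _).2 fun y hy => ?_
  obtain ⟨h, rfl⟩ : y ∈ X.imgH.range := by rw [X.imgH_range hA]; exact hle hy
  refine hdisj _ hy ⟨h, ?_, rfl⟩
  refine (X.act_eq_one h.2).1 (eq_one_of_points X.mdl.hg0 (X.act_mem h.2) fun k => ?_)
  obtain ⟨q, hq, hqe⟩ := prG_surj X.c (pt X.mdl.g0 k)
  have hqH : q ∈ X.HE := (X.qg_HE hq).2 (by rw [hqe]; exact pt_u X.mdl.g0 k)
  have hn1 : X.imgH (h * ⟨q, hqH⟩ * h⁻¹ * ⟨q, hqH⟩⁻¹) = 1 := by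
    refine hdisj _ ?_ ?_
    · rw [map_mul, map_mul, map_mul, map_inv, map_inv, mul_assoc (X.imgH h * X.imgH ⟨q, hqH⟩),
        mul_assoc (X.imgH h)]
      refine mul_mem hy ?_
      rw [← mul_assoc]
      exact hn _ (by rw [← X.imgH_range hA]; exact ⟨_, rfl⟩) _ (inv_mem hy)
    · exact ⟨_, mul_mem (conj_mem_qg h.2.2 hq) (inv_mem hq), rfl⟩
  obtain ⟨-, hpr⟩ := X.act_comm h.2 hq
  obtain ⟨c, hc⟩ := X.E_pr (X.imgH_eq_one.1 hn1)
  have e : nf (X.act h) (pt X.mdl.g0 k) = c • X.mdl.u := by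
    rw [← hqe, ← hpr]; exact hc
  exact ⟨c, by rw [mulVec_eq, e]⟩

end Ctx

end CfsgLib.Trans3.FiLarge.U6
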