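import Cfsg.Agent.Lib.Trans3.FiLarge.U6.CentCover
import Cfsg.Agent.Lib.Trans3.FischerType.PairModel

/-!
The conjugates of `z` centralising `E` and `z`: four over each point, commuting exactly over collinear points.
-/

set_option autoImplicit false
set_option linter.unusedSectionVars false

namespace CfsgLib.Trans3.FiLarge.U6

open Matrix CfsgLib.Trans3.FiLarge CfsgLib.Trans3.FischerType.PairCode
open CfsgLib.Chev.U43U6 hiding orth
open CfsgLib.Trans3.FiLarge.SmallStab (orth onLn lineOf v6_self herm6_smul_left herm6_smul_right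
  herm6_add_left herm6_add_right mat_mul mat_one)

variable {G : Type*} [Group G] [Finite G] {z : G} {Q : Subgroup (Subgroup.centralizer ({z} : Set G))}
  [Q.Normal]

namespace Ctx

variable (X : Ctx z Q)

/-- The conjugates of `z` under the centraliser of `E`. -/
def DG : Set G := {h | ∃ n ∈ X.CE, n * z * n⁻¹ = h}

/-- Those commuting with `z`, other than `z`. -/
def NG : Set G := {h | h ∈ X.DG ∧ h ≠ z ∧ h * z = z * h}

theorem DG_conj {h n : G} (hh : h ∈ X.DG) (hn : n ∈ X.CE) : n * h * n⁻¹ ∈ X.DG := by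
  obtain ⟨m, hm, rfl⟩ := hh
  exact ⟨n * m, mul_mem hn hm, by group⟩

theorem z_DG : z ∈ X.DG := ⟨1, one_mem _, by group⟩

theorem DG_CE {h : G} (hh : h ∈ X.DG) : h ∈ X.CE := by
  obtain ⟨m, hm, rfl⟩ := hh
  exact mul_mem (mul_mem hm X.z_CE) (inv_mem hm)

theorem DG_conjz {h : G} (hh : h ∈ X.DG) : IsConj z h := by
  obtain ⟨m, -, rfl⟩ := hh
  exact isConj_iff.2 ⟨m, rfl⟩

theorem DG_sq {h : G} (hh : h ∈ X.DG) : h * h = 1 := by
  obtain ⟨m, -, rfl⟩ := hh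
  rw [show m * z * m⁻¹ * (m * z * m⁻¹) = m * (z * z) * m⁻¹ by group, X.spine.zz, mul_one, mul_inv_cancel]

theorem DG_inv {h : G} (hh : h ∈ X.DG) : h⁻¹ = h := inv_eq_of_mul_eq_one_right (X.DG_sq hh)

theorem zc_DG (hA : X.AFacts) {h : G} (hh : h ∈ X.DG) : X.zc h = 1 := by
  obtain ⟨m, hm, rfl⟩ := hh
  rw [X.zc_conj_CE hm, X.zc_z_eq hA]

theorem DG_unique (hA : X.AFacts) {h e : G} (hh : h ∈ X.DG) (he : e ∈ X.E) (hc : IsConj z (h * e)) : e = 1 := by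
  obtain ⟨x, hx⟩ := Set.ncard_eq_one.1 (X.zc_DG hA hh)
  have h1 : (1 : G) ∈ ({x} : Set G) := hx ▸ ⟨one_mem _, by rw [mul_one]; exact X.DG_conjz hh⟩
  have h2 : e ∈ ({x} : Set G) := hx ▸ ⟨he, hc⟩
  rw [Set.mem_singleton_iff] at h1 h2
  rw [h2, h1]

theorem DG_eq (hA : X.AFacts) {h h' : G} (hh : h ∈ X.DG) (hh' : h' ∈ X.DG) (he : h⁻¹ * h' ∈ X.E) : h = h' := by
  have := X.DG_unique hA hh he (by rw [mul_inv_cancel_left]; exact X.DG_conjz hh')
  exact inv_mul_eq_one.1 this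

theorem NG_HE {h : G} (hh : h ∈ X.NG) : h ∈ X.HE :=
  ⟨X.DG_CE hh.1, Subgroup.mem_centralizer_singleton_iff.2 hh.2.2⟩

theorem HE_z {n : G} (hn : n ∈ X.HE) : n * z * n⁻¹ = z := by
  rw [Subgroup.mem_centralizer_singleton_iff.1 hn.2, mul_inv_cancel_right]

theorem NG_conj {h n : G} (hh : h ∈ X.NG) (hn : n ∈ X.HE) : n * h * n⁻¹ ∈ X.NG := by
  refine ⟨X.DG_conj hh.1 hn.1, fun e => hh.2.1 ?_, ?_⟩
  · exact mul_left_cancel (mul_right_cancel (e.trans (X.HE_z hn).symm))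
  · conv_lhs => rw [← X.HE_z hn]
    conv_rhs => rw [← X.HE_z hn]
    calc n * h * n⁻¹ * (n * z * n⁻¹) = n * (h * z) * n⁻¹ := by group
      _ = n * (z * h) * n⁻¹ := by rw [hh.2.2]
      _ = _ := by group

theorem act_conj_HE {h n : G} (hh : h ∈ X.HE) (hn : n ∈ X.HE) :
    X.act (n * h * n⁻¹) = X.act n * X.act h * (X.act n)⁻¹ := by
  rw [X.act_mul (mul_mem hn hh) (inv_mem hn), X.act_mul hn hh, X.act_inv hn]

/-- Elements over the normaliser normalise `A`. -/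
theorem norm_A {n a : G} (hn : n ∈ X.HE) (hN : X.act n ∈ X.f.N) (ha : a ∈ X.A) : n * a * n⁻¹ ∈ X.A := by
  obtain ⟨m, rfl⟩ := X.mem_M hn
  rw [act, actG_coe] at hN
  exact (Subgroup.mem_normalizer_iff.1 (Subgroup.mem_inf.1 (X.spine.lift_norm m hN)).1 a).1 ha

theorem E_four {c : F4} : ∃ e ∈ X.E, prG X.c e = c • X.mdl.u := by
  have ha : X.a ∈ X.E := Subgroup.subset_closure (Or.inl rfl)
  have hb : X.b ∈ X.E := Subgroup.subset_closure (Or.inr rfl)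
  rcases CfsgLib.Trans3.FischerType.f4_cases c with rfl | rfl | rfl | rfl
  · exact ⟨1, one_mem _, by rw [prG_one, zero_smul]⟩
  · exact ⟨_, ha, by rw [one_smul, X.mdl_u]⟩
  · exact ⟨_, hb, X.pr_b⟩
  · exact ⟨_, mul_mem hb ha, by rw [prG_mul X.c X.b_mem X.a_mem, X.pr_b, ← X.mdl_u, add_smul, one_smul]⟩

/-- The members of `NG` in `A`. -/
def NA : Set G := {x | x ∈ X.NG ∧ x ∈ X.A}

theorem notMem_qg (hA : X.AFacts) {x : G} (hx : x ∈ X.NA) : x ∉ qg Q := by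
  obtain ⟨hxN, hxA⟩ := hx
  intro hq
  have hU : prG X.c x ∈ X.f.U := (X.spine.mem_Q x hq).1 hxA
  set p := prG X.c x with hp
  have hz1 : z ≠ 1 := X.spine.z_ne
  have hbig : InBig X.c.b p := by
    rcases X.spine.cases_B (Subgroup.mem_inf.2 ⟨hxA, hq⟩) with h | h | h | h
    · exact absurd (isConj_one_left.1 (h ▸ X.DG_conjz hxN.1)) hz1
    · exact absurd h hxN.2.1
    · exact absurd (X.DG_conjz hxN.1) (X.spine.conj_small x hq h)
    · exact h
  have hp0 : p ≠ 0 := (isotropic_of_orbit (Or.inr hbig)).1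
  have hsmall : ∀ c : F4, c ≠ 0 → InSmall X.c.b (p + c • X.mdl.u) := by
    intro c hc
    obtain ⟨e, he, hec⟩ := X.E_four (c := c)
    have heq := X.E_qg he
    have he1 : e ≠ 1 := fun h => by
      rw [h, prG_one] at hec
      exact hc ((smul_eq_zero.1 hec.symm).resolve_right X.mdl.u_ne)
    have hncz : ¬ IsConj z (x * e) := fun h => he1 (X.DG_unique hA hxN.1 he h)
    have hpr : prG X.c (x * e) = p + c • X.mdl.u := by rw [prG_mul X.c hq heq, hec]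
    rcases X.spine.cases_B (Subgroup.mem_inf.2 ⟨mul_mem hxA (hA.E_le he), mul_mem hq heq⟩) with h | h | h | h
    · have hxe : x = e⁻¹ := eq_inv_of_mul_eq_one_left h
      have := hA.E_small x (hxe ▸ inv_mem he) (fun h1 => he1 (by rw [h1, one_mul] at h; exact h))
      exact absurd (X.DG_conjz hxN.1) this.2.1
    · exact absurd (h ▸ IsConj.refl z) hncz
    · rwa [hpr] at h
    · exact absurd (X.spine.conj_big _ (mul_mem hq heq) h) hncz
  set t := p + X.mdl.u with ht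
  have hts : InSmall X.c.b t := by have := hsmall 1 one_ne_zero; rwa [one_smul] at this
  have htU : t ∈ X.f.U := add_mem hU X.mdl.u_mem
  have h1 : om • X.mdl.u ∈ {v : V6 | v ∈ X.f.U ∧ InSmall X.c.b v ∧ InSmall X.c.b (t + v)} := by
    refine ⟨X.hf.smul _ X.mdl.u_mem _, inSmall_smul X.mdl.u_small f4_om_facts.1, ?_⟩
    rw [show t + om • X.mdl.u = p + (1 + om) • X.mdl.u by rw [ht, add_smul, one_smul, add_assoc]]
    exact hsmall _ f4_om_facts.2.2.2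
  have hne : ∀ a : F4, a ≠ 0 → a ≠ 1 → a • t ∈ {v : V6 | v ∈ X.f.U ∧ InSmall X.c.b v ∧ InSmall X.c.b (t + v)} := by
    intro a h0 h1
    refine ⟨X.hf.smul _ htU _, inSmall_smul hts h0, ?_⟩
    rw [show t + a • t = (1 + a) • t by rw [add_smul, one_smul]]
    exact inSmall_smul hts ((show ∀ a : F4, a ≠ 1 → 1 + a ≠ 0 by decide) a h1)
  have hom2 : om + 1 ≠ (0 : F4) ∧ om + 1 ≠ (1 : F4) ∧ (om : F4) ≠ om + 1 := by decide
  have ht0 : t ≠ 0 := (isotropic_of_orbit (Or.inl hts)).1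
  have hpair : {om • t, (om + 1) • t} = {v : V6 | v ∈ X.f.U ∧ InSmall X.c.b v ∧ InSmall X.c.b (t + v)} := by
    refine Set.eq_of_subset_of_ncard_le ?_ ?_ (Set.toFinite _)
    · rintro v (rfl | rfl)
      exacts [hne _ f4_om_facts.1 f4_om_facts.2.1, hne _ hom2.1 hom2.2.1]
    · rw [X.f.nbr t htU hts, Set.ncard_pair fun e => hom2.2.2 (smul_left_injective F4 ht0 e)]
  rw [← hpair] at h1
  obtain ⟨a, ha⟩ : ∃ a : F4, om • X.mdl.u = a • t := by
    rcases h1 with h1 | h1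
    exacts [⟨_, h1⟩, ⟨_, h1⟩]
  have ha0 : a ≠ 0 := by
    rintro rfl
    rw [zero_smul, smul_eq_zero] at ha
    exact ha.elim f4_om_facts.1 X.mdl.u_ne
  have hpu : p = (a⁻¹ * om + 1) • X.mdl.u := by
    rw [add_smul, one_smul, ← smul_smul, ha, smul_smul, inv_mul_cancel₀ ha0, one_smul, ht, add_assoc,
      v6_self, add_zero]
  have hc0 : a⁻¹ * om + 1 ≠ 0 := fun e => hp0 (by rw [hpu, e, zero_smul])
  exact small_ne_big (hpu ▸ inSmall_smul X.mdl.u_small hc0) hbig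

theorem act_five (hA : X.AFacts) {x : G} (hx : x ∈ X.NA) : X.act x ∈ X.mdl.five := by
  obtain ⟨hxN, hxA⟩ := hx
  have hnq := X.notMem_qg hA ⟨hxN, hxA⟩
  have haE : X.a ∈ X.E := Subgroup.subset_closure (Or.inl rfl)
  have hbE : X.b ∈ X.E := Subgroup.subset_closure (Or.inr rfl)
  have hw : X.act x ∈ X.f.W := X.spine.act_W x hxA
  refine ⟨hw, X.act_mem (X.NG_HE hxN), X.mdl.sq _ hw, ?_⟩
  have hne : ∀ e ∈ X.E, e ≠ 1 → x * e ∈ tout z X.A (qg Q) := by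
    intro e he he1
    refine ⟨⟨mul_mem hxA (hA.E_le he), fun h => hnq ?_, fun h => he1 (X.DG_unique hA hxN.1 he h)⟩, fun h => hnq ?_⟩
    · rw [eq_inv_of_mul_eq_one_left h]; exact inv_mem (X.E_qg he)
    · have := mul_mem h (inv_mem (X.E_qg he))
      rwa [mul_inv_cancel_right] at this
  have hpa : prG X.c X.a = X.mdl.u := X.mdl_u.symm
  have ha1 : X.a ≠ 1 := fun h => X.mdl.u_ne (by rw [← hpa, h, prG_one])
  have hb1 : X.b ≠ 1 := fun h => by
    have h' := X.pr_b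
    rw [h, prG_one] at h'
    exact (smul_eq_zero.1 h'.symm).elim f4_om_facts.1 X.mdl.u_ne
  have hab : X.a * X.b ≠ 1 := fun h => by
    have h' := prG_mul X.c X.a_mem X.b_mem
    rw [h, prG_one, hpa, X.pr_b] at h'
    have : (1 + om : F4) • X.mdl.u = 0 := by rw [add_smul, one_smul, ← h']
    exact (smul_eq_zero.1 this).elim f4_om_facts.2.2.2 X.mdl.u_ne
  have hmem : X.b ∈ X.A ⊓ qg Q := Subgroup.mem_inf.2 ⟨hA.E_le hbE, X.b_mem⟩
  have hl := X.spine.adj_line (hne _ haE ha1) hmem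
    (by rw [mul_assoc]; exact (hne _ (mul_mem haE hbE) hab).1)
  rw [X.spine.actG_mul hxA (hA.E_le haE), (X.spine.actG_eq_one (hA.E_le haE)).2 X.a_mem, mul_one,
    X.pr_b] at hl
  obtain ⟨v, hv⟩ := mem_line.1 hl
  exact ⟨(om : F4)⁻¹ • v, by
    show X.mdl.u = nf (X.act x) _
    rw [nf_smul, ← hv, smul_smul, inv_mul_cancel₀ f4_om_facts.1, one_smul]⟩

theorem DG_A_ncard (hA : X.AFacts) : {x : G | x ∈ X.A ∧ x ∈ X.DG}.ncard = 21 := by
  rw [← hA.one_card]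
  refine Set.ncard_congr (fun x hx => X.img ⟨x, (X.A_HE hA hx.1).1⟩)
    (fun x hx => ⟨⟨x, (X.A_HE hA hx.1).1⟩, hx.1, X.zc_DG hA hx.2, rfl⟩) (fun x y hx hy h => ?_) ?_
  · exact X.DG_eq hA hx.2 hy.2 (X.img_eq.1 h)
  · rintro y ⟨g, hgA, hg1, rfl⟩
    obtain ⟨n, hn, -, hne⟩ := hA.one_trans z (Subgroup.mem_inf.1 X.spine.z_B).1 (X.zc_z_eq hA) g hgA hg1
    have hmem : n * z * n⁻¹ ∈ X.A := by
      have := mul_mem hgA (inv_mem (hA.E_le hne))
      rwa [_root_.mul_inv_rev, inv_inv, mul_inv_cancel_left] at this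
    exact ⟨n * z * n⁻¹, ⟨hmem, ⟨n, hn, rfl⟩⟩, X.img_eq.2 hne⟩

theorem NA_ncard (hA : X.AFacts) : X.NA.ncard = 20 := by
  have h : X.NA = {x : G | x ∈ X.A ∧ x ∈ X.DG} \ {z} := by
    ext x
    exact ⟨fun h => ⟨⟨h.2, h.1.1⟩, h.1.2.1⟩,
      fun h => ⟨⟨h.1.2, h.2, X.spine.comm h.1.1 (Subgroup.mem_inf.1 X.spine.z_B).1⟩, h.1.1⟩⟩
  rw [h, Set.ncard_sdiff_singleton_of_mem
    (show z ∈ {x : G | x ∈ X.A ∧ x ∈ X.DG} from ⟨(Subgroup.mem_inf.1 X.spine.z_B).1, X.z_DG⟩), X.DG_A_ncard hA]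

theorem F_ncard (hA : X.AFacts) {w : GS F4} (hw : w ∈ X.mdl.five) : {x ∈ X.NA | X.act x = w}.ncard = 4 := by
  classical
  haveI := Fintype.ofFinite G
  set F := fun w => {x ∈ X.NA | X.act x = w}
  set Ws := X.mdl.five.toFinite.toFinset
  have hWs : ∀ v, v ∈ Ws ↔ v ∈ X.mdl.five := fun v => Set.Finite.mem_toFinset _
  have hle : ∀ v ∈ Ws, ∀ v' ∈ Ws, (F v).ncard ≤ (F v').ncard := by
    intro v hv v' hv'
    obtain ⟨g, hgN, hgS, hge⟩ := X.mdl.five_trans ((hWs v).1 hv) ((hWs v').1 hv')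
    obtain ⟨n, hn, hne⟩ := X.act_surj hgS
    refine Set.ncard_le_ncard_of_injOn (fun x => n * x * n⁻¹) (fun x hx => ?_)
      (fun a _ b _ h => by simpa using h) (Set.toFinite _)
    refine ⟨⟨X.NG_conj hx.1.1 hn, X.norm_A hn (hne ▸ hgN) hx.1.2⟩, ?_⟩
    rw [X.act_conj_HE (X.NG_HE hx.1.1) hn, hne, hx.2, hge]
  have hsum : X.NA.ncard = 5 * (F w).ncard := by
    rw [Set.ncard_eq_toFinset_card' X.NA, Finset.card_eq_sum_card_fiberwise (f := X.act) (t := Ws)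
      (fun y hy => (hWs _).2 (X.act_five hA (Set.mem_toFinset.1 hy))),
      Finset.sum_const_nat (m := (F w).ncard)]
    · congr 1
      rw [← Set.ncard_eq_toFinset_card, X.mdl.five_ncard]
    · intro v hv
      rw [← le_antisymm (hle v hv w ((hWs w).2 hw)) (hle w ((hWs w).2 hw) v hv), Set.ncard_eq_toFinset_card']
      congr 1
      ext y
      simp [F]
  rw [X.NA_ncard hA] at hsum
  show (F w).ncard = 4
  omega

theorem conj_diff {x q : G} (hx : x ∈ X.NG) (hxA : x ∈ X.A) (hq : q ∈ qg Q) :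
    prG X.c (x * (q * x * q⁻¹)) = nf (X.act x) (prG X.c q) := (X.spine.conj_q hxA hq).2.2.2

theorem conj_in_F {x q : G} {w : GS F4} (hx : x ∈ {x ∈ X.NA | X.act x = w})
    (hq : q ∈ qg Q) (hqH : q ∈ X.HE) : q * x * q⁻¹ ∈ {x ∈ X.NA | X.act x = w} := by
  refine ⟨⟨X.NG_conj hx.1.1 hqH, (X.spine.conj_q hx.1.2 hq).1⟩, ?_⟩
  rw [← hx.2]; exact (X.spine.conj_q hx.1.2 hq).2.2.1

/-- Over one element of `W`, the members differ by the commutators with `Q`. -/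
theorem F_spec (hA : X.AFacts) {x : G} (hx : x ∈ X.NA) {p j : Fin 45} (hp : X.mdl.HasPt (X.act x) p)
    (hj : ¬ orth j p = true) :
    Set.InjOn (fun y => prG X.c (x * y)) {y ∈ X.NA | X.act y = X.act x} ∧
      ∀ y ∈ X.NA, X.act y = X.act x →
        ∃ q ∈ qg Q, q ∈ X.HE ∧ (∃ α : F4, prG X.c q = α • pt X.mdl.g0 j) ∧ q * x * q⁻¹ = y := by
  set k := X.act x
  set F := {y ∈ X.NA | X.act y = k}
  set N := nf k (pt X.mdl.g0 j)
  have hju : herm6 (pt X.mdl.g0 j) X.mdl.u = 0 := pt_u X.mdl.g0 j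
  have hN : N ≠ 0 := fun h => hj ((pt_orth X.mdl.g0 j p).1 ((hp.nf_eq_zero_iff hju).1 h))
  choose sec hsec1 hsec2 using prG_surj (Q := Q) X.c
  set T := Set.range (fun α : F4 => α • N)
  have hT : T.ncard = 4 := by
    rw [← Nat.card_coe_set_eq, Nat.card_range_of_injective (smul_left_injective F4 hN),
      Nat.card_eq_fintype_card, card_F4]
  have hqH : ∀ α : F4, sec (α • pt X.mdl.g0 j) ∈ X.HE := fun α =>
    (X.qg_HE (hsec1 _)).2 (by rw [hsec2, herm6_smul_left, hju, mul_zero])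
  have himg : ∀ α : F4, sec (α • pt X.mdl.g0 j) * x * (sec (α • pt X.mdl.g0 j))⁻¹ ∈ F ∧
      prG X.c (x * (sec (α • pt X.mdl.g0 j) * x * (sec (α • pt X.mdl.g0 j))⁻¹)) = α • N := fun α =>
    ⟨X.conj_in_F ⟨hx, rfl⟩ (hsec1 _) (hqH α),
      by rw [X.conj_diff hx.1 hx.2 (hsec1 _), hsec2, nf_smul]⟩
  have hsub : T ⊆ (fun y => prG X.c (x * y)) '' F := by
    rintro _ ⟨α, rfl⟩
    exact ⟨_, (himg α).1, (himg α).2⟩
  have hF : F.ncard = 4 := X.F_ncard hA (X.act_five hA hx)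
  have h1 : ((fun y => prG X.c (x * y)) '' F).ncard = 4 :=
    le_antisymm (hF ▸ Set.ncard_image_le (Set.toFinite _)) (hT ▸ Set.ncard_le_ncard hsub (Set.toFinite _))
  have hinj : Set.InjOn (fun y => prG X.c (x * y)) F := by
    rw [← Set.ncard_image_iff (Set.toFinite _), h1, hF]
  refine ⟨hinj, fun y hy hye => ?_⟩
  have heq := Set.eq_of_subset_of_ncard_le hsub (by omega) (Set.toFinite _)
  obtain ⟨α, hα⟩ : prG X.c (x * y) ∈ T := heq.symm ▸ ⟨y, ⟨hy, hye⟩, rfl⟩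
  exact ⟨_, hsec1 _, hqH α, ⟨α, hsec2 _⟩, hinj (himg α).1 ⟨hy, hye⟩ ((himg α).2.trans hα)⟩

/-- Every member is conjugate into `A` and is a transvection on `Q`. -/
theorem exists_NA (hA : X.AFacts) {h : G} (hh : h ∈ X.NG) : ∃ n ∈ X.HE, n * h * n⁻¹ ∈ X.NA := by
  obtain ⟨n, hn, hnA⟩ := X.conj_A hA (X.NG_HE hh) (X.DG_sq hh.1)
  exact ⟨n, hn, X.NG_conj hh hn, hnA⟩

theorem exists_hasPt (hA : X.AFacts) {h : G} (hh : h ∈ X.NG) : ∃ p, X.mdl.HasPt (X.act h) p := by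
  obtain ⟨n, hn, hx⟩ := X.exists_NA hA hh
  have h5 := X.act_five hA hx
  rw [X.act_conj_HE (X.NG_HE hh) hn] at h5
  have := h5.2.conj (inv_mem (X.act_mem hn))
  rw [show (X.act n)⁻¹ * (X.act n * X.act h * (X.act n)⁻¹) * (X.act n)⁻¹⁻¹ = X.act h by group] at this
  exact this.exists_pt

/-- A member centralises the elements of `Q` over the vectors its transvection fixes. -/
theorem fix_qg (hA : X.AFacts) {h : G} (hh : h ∈ X.NG) {p : Fin 45} (hp : X.mdl.HasPt (X.act h) p) {q : G}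
    (hq : q ∈ qg Q) (hqH : q ∈ X.HE) (ho : herm6 (prG X.c q) (pt X.mdl.g0 p) = 0) : q * h = h * q := by
  obtain ⟨n, hn, hx⟩ := X.exists_NA hA hh
  set x := n * h * n⁻¹ with hxdef
  set q' := n * q * n⁻¹ with hqdef
  obtain ⟨hq', hq'e⟩ := X.act_conj hn hq
  have hq'H : q' ∈ X.HE := mul_mem (mul_mem hn hqH) (inv_mem hn)
  have hk : X.act x = X.act n * X.act h * (X.act n)⁻¹ := X.act_conj_HE (X.NG_HE hh) hn
  have hn0 : nf (X.act x) (prG X.c q') = 0 := by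
    rw [hk, hqdef, hq'e, nf_conj, (hp.nf_eq_zero_iff ((X.qg_HE hq).1 hqH)).2 ho, mulVec_zero]
  obtain ⟨p', hp'⟩ := (X.act_five hA hx).2.exists_pt
  obtain ⟨j, hj⟩ : ∃ j, ¬ orth j p' = true := by
    by_contra! hall
    obtain ⟨c, e⟩ := eq_smul_of_orth X.mdl.g0 (pt_u X.mdl.g0 p') fun j => herm6_comm.1 ((pt_orth X.mdl.g0 j p').2 (hall j))
    exact pt_ne X.mdl.g0 p' c e
  have hself : prG X.c (x * x) = 0 := by rw [X.DG_sq hx.1.1, prG_one]
  have e : q' * x * q'⁻¹ = x := (X.F_spec hA hx hp' hj).1 (X.conj_in_F ⟨hx, rfl⟩ hq' hq'H) ⟨hx, rfl⟩ (by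
    show prG X.c (x * (q' * x * q'⁻¹)) = prG X.c (x * x)
    rw [X.conj_diff hx.1 hx.2 hq', hn0, hself])
  rw [mul_inv_eq_iff_eq_mul] at e
  calc q * h = n⁻¹ * (q' * x) * n := by rw [hxdef, hqdef]; group
    _ = n⁻¹ * (x * q') * n := by rw [e]
    _ = h * q := by rw [hxdef, hqdef]; group

/-- Conjugation moving the line `L` to that of `U` carries members over points of `L` into `A`. -/
theorem exists_into_A (hA : X.AFacts) (L : Fin 27) : ∃ n ∈ X.HE, ∀ h ∈ X.NG, ∀ p, X.mdl.HasPt (X.act h) p →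
    onLn p L = true → n * h * n⁻¹ ∈ X.NA := by
  obtain ⟨g, hg, hmv⟩ := X.mdl.exists_move L
  obtain ⟨n, hn, hne⟩ := X.act_surj hg
  refine ⟨n, hn, fun h hh p hp hpL => ⟨X.NG_conj hh hn, ?_⟩⟩
  have hhH := X.NG_HE hh
  refine X.mem_A_of hA (mul_mem (mul_mem hn hhH) (inv_mem hn)) ?_ fun r' hr' hU => ?_
  · rw [X.act_conj_HE hhH hn, hne]
    exact X.mdl.conj_W_of_line hp.isT.mem hp.isT.sq L (hp.line_fix hpL) hg hmv
  obtain ⟨y, hy, hyz⟩ := hmv _ hU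
  obtain ⟨hr, hre⟩ := X.act_conj (inv_mem hn) hr'
  rw [X.act_inv hn, hne, hy, mat_inv_cancel, inv_inv] at hre
  rw [inv_inv] at hr
  have hyu : herm6 y X.mdl.u = 0 := herm6_comm.1 (hyz _ (uv_iso X.mdl.g0) fun k _ => u_pt X.mdl.g0 k)
  have hyp : herm6 y (pt X.mdl.g0 p) = 0 :=
    herm6_comm.1 (hyz _ (pt_u X.mdl.g0 p) fun k hk => (pt_orth X.mdl.g0 p k).2 (SmallStab.on_orth L p hpL k hk))
  have hc := X.fix_qg hA hh hp hr ((X.qg_HE hr).2 (by rw [hre]; exact hyu)) (by rw [hre]; exact hyp)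
  calc n * h * n⁻¹ * r' = n * (h * (n⁻¹ * r' * n)) * n⁻¹ := by group
    _ = n * ((n⁻¹ * r' * n) * h) * n⁻¹ := by rw [hc]
    _ = r' * (n * h * n⁻¹) := by group

/-- Members over collinear points commute. -/
theorem NG_commute (hA : X.AFacts) {h h' : G} (hh : h ∈ X.NG) (hh' : h' ∈ X.NG) {p p' : Fin 45}
    (hp : X.mdl.HasPt (X.act h) p) (hp' : X.mdl.HasPt (X.act h') p') (ho : orth p p' = true) :
    h * h' = h' * h := by
  obtain ⟨L, hL, hL'⟩ : ∃ L, onLn p L = true ∧ onLn p' L = true := by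
    by_cases e : p = p'
    · obtain ⟨L, hL⟩ := quad_facts.2.1 p; exact ⟨L, hL, e ▸ hL⟩
    · exact ⟨_, (SmallStab.line_of p p' e ho).1, (SmallStab.line_of p p' e ho).2.1⟩
  obtain ⟨n, hn, hin⟩ := X.exists_into_A hA L
  have e := X.spine.comm (hin h hh p hp hL).2 (hin h' hh' p' hp' hL').2
  calc h * h' = n⁻¹ * (n * h * n⁻¹ * (n * h' * n⁻¹)) * n := by group
    _ = h' * h := by rw [e]; group

theorem NG_not_commute (hA : X.AFacts) {h h' : G} (hh : h ∈ X.NG) (hh' : h' ∈ X.NG) {p p' : Fin 45}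
    (hp : X.mdl.HasPt (X.act h) p) (hp' : X.mdl.HasPt (X.act h') p') (ho : ¬ orth p p' = true) :
    h * h' ≠ h' * h := fun e => (hp.braid hp' ho).1 (by
  rw [← X.act_mul (X.NG_HE hh) (X.NG_HE hh'), e, X.act_mul (X.NG_HE hh') (X.NG_HE hh)])

/-- The members over a point. -/
def fib (p : Fin 45) : Set G := {h | h ∈ X.NG ∧ X.mdl.HasPt (X.act h) p}

/-- The members over a point are one orbit of `Q`. -/
theorem fib_orbit (hA : X.AFacts) {p j : Fin 45} (hj : ¬ orth j p = true) {h h' : G} (hh : h ∈ X.fib p)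
    (hh' : h' ∈ X.fib p) :
    ∃ q ∈ qg Q, q ∈ X.HE ∧ (∃ α : F4, prG X.c q = α • pt X.mdl.g0 j) ∧ q * h * q⁻¹ = h' := by
  obtain ⟨L, hL⟩ := quad_facts.2.1 p
  obtain ⟨n, hn, hin⟩ := X.exists_into_A hA L
  have hx := hin h hh.1 p hh.2 hL
  have hx' := hin h' hh'.1 p hh'.2 hL
  have hk : X.act (n * h' * n⁻¹) = X.act (n * h * n⁻¹) := by
    rw [X.act_conj_HE (X.NG_HE hh'.1) hn, X.act_conj_HE (X.NG_HE hh.1) hn, hh.2.eq hh'.2]
  have hgS := X.act_mem hn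
  obtain ⟨q0, hq0⟩ : ∃ q, PRel X.mdl.g0 (mat (X.act n) *ᵥ pt X.mdl.g0 j) q := by
    refine prel_exists X.mdl.g0 ?_ (by rw [herm_mat6, pt_iso]) fun c e => pt_ne X.mdl.g0 j c ?_
    · conv_lhs => arg 2; rw [← (show mat (X.act n) *ᵥ uv X.mdl.g0 = uv X.mdl.g0 from hgS.2)]
      rw [herm_mat6, pt_u]
    · refine mat_inj (X.act n) ?_
      rw [e, mulVec_smul, show mat (X.act n) *ᵥ uv X.mdl.g0 = uv X.mdl.g0 from hgS.2]
  obtain ⟨p1, hp1⟩ : ∃ q, PRel X.mdl.g0 (mat (X.act n) *ᵥ pt X.mdl.g0 p) q := by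
    refine prel_exists X.mdl.g0 ?_ (by rw [herm_mat6, pt_iso]) fun c e => pt_ne X.mdl.g0 p c ?_
    · conv_lhs => arg 2; rw [← (show mat (X.act n) *ᵥ uv X.mdl.g0 = uv X.mdl.g0 from hgS.2)]
      rw [herm_mat6, pt_u]
    · refine mat_inj (X.act n) ?_
      rw [e, mulVec_smul, show mat (X.act n) *ᵥ uv X.mdl.g0 = uv X.mdl.g0 from hgS.2]
  have hpx : X.mdl.HasPt (X.act (n * h * n⁻¹)) p1 := by
    rw [X.act_conj_HE (X.NG_HE hh.1) hn]; exact hh.2.conj hgS hp1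
  have hj1 : ¬ orth q0 p1 = true := fun e => hj ((pt_orth X.mdl.g0 j p).1 (by
    have := (prel_orth X.mdl.g0 hq0 hp1).2 e
    rwa [herm_mat6] at this))
  obtain ⟨q, hq, hqH, ⟨α, hα⟩, hqe⟩ := (X.F_spec hA hx hpx hj1).2 _ hx' hk
  obtain ⟨a, c, ha, erel⟩ := hq0
  -- replace `q` by an element over a multiple of the point `j`
  have hαm : α • pt X.mdl.g0 q0 = mat (X.act n) *ᵥ ((α * a⁻¹) • pt X.mdl.g0 j) + (α * a⁻¹ * c) • X.mdl.u := by
    rw [mulVec_smul, erel, smul_add, smul_smul, smul_smul, mul_assoc α a⁻¹ a, inv_mul_cancel₀ ha, mul_one,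
      add_assoc, v6_self, add_zero]
  obtain ⟨r, hr, hre⟩ := prG_surj X.c ((α * a⁻¹) • pt X.mdl.g0 j)
  have hrH : r ∈ X.HE := (X.qg_HE hr).2 (by rw [hre, herm6_smul_left, show herm6 (pt X.mdl.g0 j) X.mdl.u = 0 from pt_u X.mdl.g0 j, mul_zero])
  obtain ⟨hr', hre'⟩ := X.act_conj hn hr
  rw [hre] at hre'
  obtain ⟨e0, he0, hee0⟩ := X.E_four (c := α * a⁻¹ * c)
  set s := (n * r * n⁻¹ * e0)⁻¹ * q with hs
  have hs1 : n * r * n⁻¹ * e0 ∈ qg Q := mul_mem hr' (X.E_qg he0)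
  have hs0 : s ∈ qg Q := mul_mem (inv_mem hs1) hq
  have hspr : prG X.c s = 0 := by
    rw [hs, prG_mul X.c (inv_mem hs1) hq, prG_inv X.c hs1, prG_mul X.c hr' (X.E_qg he0), hre', hee0, hα, hαm,
      v6_self]
  have hsc : s * (n * h * n⁻¹) = n * h * n⁻¹ * s := by
    rcases (prG_eq_zero X.c hs0).1 hspr with e | e <;> rw [e]
    · rw [one_mul, mul_one]
    · exact hx.1.2.2.symm
  refine ⟨r, hr, hrH, ⟨_, hre⟩, ?_⟩
  have hqs : q = n * r * n⁻¹ * e0 * s := by rw [hs, mul_inv_cancel_left]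
  have he : e0 * (n * h * n⁻¹) = n * h * n⁻¹ * e0 := X.E_CE he0 (X.DG_CE hx.1.1)
  have hmid : e0 * s * (n * h * n⁻¹) * (e0 * s)⁻¹ = n * h * n⁻¹ := by
    rw [mul_assoc e0 s, hsc, ← mul_assoc, he, mul_assoc _ e0 s, mul_inv_cancel_right]
  have key : n * (r * h * r⁻¹) * n⁻¹ = n * h' * n⁻¹ := by
    calc n * (r * h * r⁻¹) * n⁻¹ = n * r * n⁻¹ * (n * h * n⁻¹) * (n * r * n⁻¹)⁻¹ := by group
      _ = n * r * n⁻¹ * (e0 * s * (n * h * n⁻¹) * (e0 * s)⁻¹) * (n * r * n⁻¹)⁻¹ := by rw [hmid]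
      _ = q * (n * h * n⁻¹) * q⁻¹ := by rw [hqs]; group
      _ = _ := hqe
  exact mul_left_cancel (mul_right_cancel key)

theorem fib_nonempty (hA : X.AFacts) (p : Fin 45) : (X.fib p).Nonempty := by
  obtain ⟨L, hL⟩ := quad_facts.2.1 p
  obtain ⟨g, hg, hmap⟩ := line_move X.mdl.hg0 X.mdl.LU L
  obtain ⟨p', hp', hrel⟩ := hmap p hL
  obtain ⟨w, hw, hwp⟩ := X.mdl.five_surj hp'
  obtain ⟨x, hx, hxe⟩ := Set.nonempty_of_ncard_ne_zero (by rw [X.F_ncard hA hw]; norm_num)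
  obtain ⟨n, hn, hne⟩ := X.act_surj hg
  refine ⟨n * x * n⁻¹, X.NG_conj hx.1 hn, ?_⟩
  rw [X.act_conj_HE (X.NG_HE hx.1) hn, hne, hxe]
  exact hwp.conj hg hrel

theorem fib_ncard (hA : X.AFacts) (p : Fin 45) : (X.fib p).ncard = 4 := by
  obtain ⟨h, hh⟩ := X.fib_nonempty hA p
  obtain ⟨L, hL⟩ := quad_facts.2.1 p
  obtain ⟨n, hn, hin⟩ := X.exists_into_A hA L
  have hx := hin h hh.1 p hh.2 hL
  rw [← X.F_ncard hA (X.act_five hA hx)]
  refine Set.ncard_congr (fun y _ => n * y * n⁻¹) (fun y hy => ⟨hin y hy.1 p hy.2 hL, ?_⟩)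
    (fun a b _ _ e => mul_left_cancel (mul_right_cancel e)) fun y hy => ⟨n⁻¹ * y * n, ⟨?_, ?_⟩, by group⟩
  · rw [X.act_conj_HE (X.NG_HE hy.1) hn, X.act_conj_HE (X.NG_HE hh.1) hn, hy.2.eq hh.2]
  · have := X.NG_conj hy.1.1 (inv_mem hn); rwa [inv_inv] at this
  · have e := X.act_conj_HE (X.NG_HE hy.1.1) (inv_mem hn)
    rw [inv_inv, hy.2, X.act_conj_HE (X.NG_HE hh.1) hn, X.act_inv hn, inv_inv] at e
    rw [e, show (X.act n)⁻¹ * (X.act n * X.act h * (X.act n)⁻¹) * X.act n = X.act h by group]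
    exact hh.2

/-- Members over other points multiply to an element of order three. -/
theorem NG_braid (hA : X.AFacts) {h h' : G} (hh : h ∈ X.NG) (hh' : h' ∈ X.NG) {p p' : Fin 45}
    (hp : X.mdl.HasPt (X.act h) p) (hp' : X.mdl.HasPt (X.act h') p') (ho : ¬ orth p p' = true) :
    (h * h') ^ 3 = 1 := by
  have hH := X.NG_HE hh
  have hH' := X.NG_HE hh'
  set k := X.act h
  set k' := X.act h'
  have hk2 : k * k = 1 := hp.isT.sq
  have hk2' : k' * k' = 1 := hp'.isT.sq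
  have hbr : k' * k * k' = k * k' * k := (hp.braid hp' ho).2
  have h3 : (k * k') ^ 3 = 1 := by
    calc (k * k') ^ 3 = k * (k' * k * k') * (k * k') := by rw [pow_succ, pow_two]; group
      _ = (k * k) * k' * (k * k) * k' := by rw [hbr]; group
      _ = 1 := by rw [hk2, one_mul, mul_one, hk2']
  set r := h * h' with hr
  have hrH : r ∈ X.HE := mul_mem hH hH'
  have hract : X.act r = k * k' := X.act_mul hH hH'
  have hr3 : r ^ 3 ∈ qg Q := by
    rw [← X.act_eq_one (pow_mem hrH 3)]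
    show X.rho ⟨r ^ 3, pow_mem hrH 3⟩ = 1
    rw [show (⟨r ^ 3, pow_mem hrH 3⟩ : X.HE) = ⟨r, hrH⟩ ^ 3 from rfl, map_pow]
    show X.act r ^ 3 = 1
    rw [hract, h3]
  have hr3' : (r ^ 3) ^ 2 ^ 13 = 1 := by
    have := pow_card_eq_one' (x := (⟨r ^ 3, hr3⟩ : qg Q))
    rw [card_qg, X.spine.card_Q] at this
    exact congrArg Subtype.val this
  set m : ℕ := 2 ^ 14
  set s := r ^ m with hs
  have hs3 : s ^ 3 = 1 := by
    rw [hs, ← pow_mul, show m * 3 = 3 * 2 ^ 13 * 2 by norm_num [m], pow_mul, pow_mul, hr3', one_pow]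
  have hsH : s ∈ X.HE := pow_mem hrH m
  have hsact : X.act s = k * k' := by
    show X.rho ⟨s, hsH⟩ = _
    rw [show (⟨s, hsH⟩ : X.HE) = ⟨r, hrH⟩ ^ m from rfl, map_pow]
    show X.act r ^ m = _
    rw [hract, show m = 3 * 5461 + 1 by norm_num [m], pow_add, pow_mul, h3, one_pow, one_mul, pow_one]
  have hinv : h * s * h = s⁻¹ := by
    have hh1 : h⁻¹ = h := X.DG_inv hh.1
    have hh1' : h'⁻¹ = h' := X.DG_inv hh'.1
    have e : h * r * h⁻¹ = r⁻¹ := by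
      rw [hr, _root_.mul_inv_rev, hh1, hh1', ← mul_assoc, X.DG_sq hh.1, one_mul]
    calc h * s * h = h * r ^ m * h⁻¹ := by rw [hh1, hs]
      _ = (h * r * h⁻¹) ^ m := conj_pow.symm
      _ = _ := by rw [e, inv_pow]
  set h'' := s * h * s⁻¹ with hdef
  have hN : h'' ∈ X.NG := X.NG_conj hh hsH
  have hact : X.act h'' = k' := by
    rw [hdef, X.act_conj_HE hH hsH, hsact, _root_.mul_inv_rev, inv_eq_of_mul_eq_one_right hk2,
      inv_eq_of_mul_eq_one_right hk2']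
    calc k * k' * k * (k' * k) = k * (k' * k * k') * k := by group
      _ = (k * k) * k' * (k * k) := by rw [hbr]; group
      _ = k' := by rw [hk2, one_mul, mul_one]
  obtain ⟨q, hq, hqH, ⟨α, hα⟩, hqe⟩ := X.fib_orbit hA (j := p) ho (h := h'') (h' := h') ⟨hN, hact ▸ hp'⟩ ⟨hh', hp'⟩
  have hcomm := X.fix_qg hA hh hp hq hqH (by rw [hα, herm6_smul_left, pt_iso, mul_zero])
  have e : h * h' = q * (h * h'') * q⁻¹ := by
    rw [← hqe, show q * (h * h'') * q⁻¹ = q * h * q⁻¹ * (q * h'' * q⁻¹) by group, hcomm, mul_inv_cancel_right]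
  have e2 : h * h'' = s⁻¹ ^ 2 := by
    calc h * h'' = h * s * h * s⁻¹ := by rw [hdef]; group
      _ = _ := by rw [hinv, pow_two]
  rw [hr, e, conj_pow, e2, ← pow_mul, show 2 * 3 = 3 * 2 by rfl, pow_mul, inv_pow, hs3]
  simp

end Ctx

end CfsgLib.Trans3.FiLarge.U6
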