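import Cfsg.Agent.Lib.Trans3.FiLarge.U6.Axioms
import Cfsg.Agent.Lib.Invol.Basic

/-!
The commuting graph of a class with the local conditions: a component has 693 members and diameter two.
-/

set_option autoImplicit false
set_option linter.unusedSectionVars false

namespace CfsgLib.Trans3.FiLarge.U6

variable {Y : Type*} [Group Y] {D : Set Y} {P : Type*} {col : P → P → Prop} {f : Y → Y → P}

theorem nbr_symm {a b : Y} (ha : a ∈ D) (h : b ∈ nbr D a) : a ∈ nbr D b :=
  ⟨ha, h.2.1.symm, h.2.2.symm⟩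

theorem mem_comp_self (a : Y) : a ∈ comp D a := Relation.ReflTransGen.refl

theorem comp_sub {a x : Y} (ha : a ∈ D) (hx : x ∈ comp D a) : x ∈ D := by
  induction hx with
  | refl => exact ha
  | tail _ h _ => exact h.1

theorem comp_symm {a x : Y} (ha : a ∈ D) (hx : x ∈ comp D a) : a ∈ comp D x := by
  induction hx with
  | refl => exact mem_comp_self a
  | tail hab h ih =>
    exact Relation.ReflTransGen.head (nbr_symm (comp_sub ha hab) h) ih

theorem comp_eq {a x : Y} (ha : a ∈ D) (hx : x ∈ comp D a) : comp D x = comp D a :=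
  Set.ext fun _ => ⟨fun h => Relation.ReflTransGen.trans hx h,
    fun h => Relation.ReflTransGen.trans (comp_symm ha hx) h⟩

namespace Local

variable (L : Local D P col f)
include L

theorem conj_mem (g : Y) {y : Y} (hy : y ∈ D) : g * y * g⁻¹ ∈ D := by
  rw [L.isClass y hy]
  exact isConj_iff.2 ⟨g, rfl⟩

theorem nbr_conj (g : Y) {a b : Y} (h : b ∈ nbr D a) : g * b * g⁻¹ ∈ nbr D (g * a * g⁻¹) :=
  ⟨L.conj_mem g h.1, fun e => h.2.1 (mul_left_cancel (mul_right_cancel e)),
    h.2.2.map (MulAut.conj g).toMonoidHom⟩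

theorem comp_conj (g : Y) {a x : Y} (h : x ∈ comp D a) : g * x * g⁻¹ ∈ comp D (g * a * g⁻¹) :=
  Relation.ReflTransGen.lift (fun y => g * y * g⁻¹) (fun _ _ h => L.nbr_conj g h) _ _ h

theorem finite_P : Finite P := Nat.finite_of_card_ne_zero (by rw [L.card_points]; decide)

theorem exists_over {a : Y} (ha : a ∈ D) (p : P) : ∃ b ∈ nbr D a, f a b = p := by
  obtain ⟨b, hb⟩ := Set.nonempty_of_ncard_ne_zero (s := {b | b ∈ nbr D a ∧ f a b = p})
    (by rw [L.fibre_card a ha p]; decide)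
  exact ⟨b, hb⟩

/-- The members over a set of points are four times as many. -/
theorem card_over [Finite Y] {a : Y} (ha : a ∈ D) (S : Set P) :
    {b | b ∈ nbr D a ∧ f a b ∈ S}.ncard = 4 * S.ncard := by
  classical
  haveI := L.finite_P
  haveI := Fintype.ofFinite P
  haveI := Fintype.ofFinite Y
  rw [Set.ncard_eq_toFinset_card', Set.ncard_eq_toFinset_card',
    Finset.card_eq_sum_card_fiberwise (f := f a) (t := S.toFinset) fun b hb => by
      simp only [Finset.mem_coe, Set.mem_toFinset, Set.mem_setOf_eq] at hb ⊢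
      exact hb.2]
  rw [Finset.sum_eq_card_nsmul (b := 4) fun p hp => ?_]
  · rw [smul_eq_mul, mul_comm]
  · rw [← L.fibre_card a ha p, Set.ncard_eq_toFinset_card']
    congr 1
    ext b
    simp only [Finset.mem_filter, Set.mem_toFinset, Set.mem_setOf_eq]
    refine ⟨fun h => ⟨h.1.1, h.2⟩, fun h => ⟨⟨h.1, ?_⟩, h.2⟩⟩
    rw [h.2]
    exact Set.mem_toFinset.1 hp

theorem card_nbr [Finite Y] {a : Y} (ha : a ∈ D) : (nbr D a).ncard = 180 := by
  have h := L.card_over ha Set.univ
  rw [Set.ncard_univ, L.card_points] at h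
  simpa using h

/-- A neighbour collinear with the point of one and not with that of another. -/
theorem exists_distinguish {p q : P} (h : col p q) : ∃ r, col p r ∧ r ≠ q ∧ ¬ col q r := by
  haveI := L.finite_P
  by_contra! hc
  have h1 : {r | col p r} ⊆ insert q {r | col p r ∧ col q r} := fun r hr => by
    by_cases e : r = q
    · exact Or.inl e
    · exact Or.inr ⟨hr, hc r hr e⟩
  have h2 := (Set.ncard_le_ncard h1 (Set.toFinite _)).trans (Set.ncard_insert_le _ _)
  rw [L.degree p, L.perp_col p q h] at h2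
  omega

/-- Two neighbours with the same neighbourhood have the same point. -/
theorem eq_of_sees {a b c : Y} (ha : a ∈ D) (hb : b ∈ nbr D a) (hc : c ∈ nbr D a) (hcb : Commute b c)
    (h : ∀ d ∈ nbr D a, Commute b d → d ≠ c → Commute c d) : f a b = f a c := by
  rcases (L.comm a ha b hb c hc).1 hcb with e | e
  · exact e
  exfalso
  obtain ⟨r, hr, hrq, hnr⟩ := L.exists_distinguish e
  obtain ⟨d, hd, ed⟩ := L.exists_over ha r
  have hdc : d ≠ c := fun e' => hrq (by rw [← ed, e'])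
  rcases (L.comm a ha c hc d hd).1 (h d hd ((L.comm a ha b hb d hd).2 (Or.inr (ed ▸ hr))) hdc) with e' | e'
  · exact hrq (by rw [← ed, ← e'])
  · exact hnr (ed ▸ e')

/-- The lines are symmetric. -/
theorem line_symm {a b c : Y} (ha : a ∈ D) (hb : b ∈ nbr D a) (hc : c ∈ nbr D a) (he : f a b = f a c)
    (hne : b ≠ c) : f b a = f b c := by
  have hbc : Commute b c := (L.comm a ha b hb c hc).2 (Or.inl he)
  refine L.eq_of_sees hb.1 (nbr_symm ha hb) ⟨hc.1, hne.symm, hbc⟩ hc.2.2 fun d hd had _ => ?_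
  by_cases eda : d = a
  · exact eda ▸ hc.2.2.symm
  have hda : d ∈ nbr D a := ⟨hd.1, eda, had⟩
  rw [L.comm a ha c hc d hda, ← he, ← L.comm a ha b hb d hda]
  exact hd.2.2

/-- At most one common neighbour over a point. -/
theorem cn_inj {a c : Y} (ha : a ∈ D) (hc : c ∈ D) (hnc : ¬ Commute a c) {y y' : Y} (hy : y ∈ nbr D a ∩ nbr D c)
    (hy' : y' ∈ nbr D a ∩ nbr D c) (he : f a y = f a y') : y = y' := by
  by_contra hne
  have hyy : Commute y y' := (L.comm a ha y hy.1 y' hy'.1).2 (Or.inl he)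
  have hs := L.line_symm ha hy.1 hy'.1 he hne
  have ha' : a ∈ nbr D y := nbr_symm ha hy.1
  have hy'' : y' ∈ nbr D y := ⟨hy'.1.1, Ne.symm hne, hyy⟩
  have hc' : c ∈ nbr D y := nbr_symm hc hy.2
  refine hnc ((L.comm y hy.1.1 a ha' c hc').2 ?_)
  rw [hs]
  exact (L.comm y hy.1.1 y' hy'' c hc').1 hy'.2.2.2.symm

/-- The twelve common neighbours of a non-commuting pair in the neighbourhood of one of them. -/
theorem card_cn_nbr [Finite Y] {a c y : Y} (hy : y ∈ D) (ha : a ∈ nbr D y) (hc : c ∈ nbr D y)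
    (hnc : ¬ Commute a c) : (nbr D a ∩ nbr D c ∩ nbr D y).ncard = 12 := by
  have hcom := L.comm y hy a ha c hc
  have hpq : f y a ≠ f y c ∧ ¬ col (f y a) (f y c) :=
    ⟨fun e => hnc (hcom.2 (Or.inl e)), fun e => hnc (hcom.2 (Or.inr e))⟩
  have e : nbr D a ∩ nbr D c ∩ nbr D y =
      {r | r ∈ nbr D y ∧ f y r ∈ {r | col (f y a) r ∧ col (f y c) r}} := by
    ext r
    simp only [Set.mem_inter_iff, Set.mem_setOf_eq]
    constructor
    · rintro ⟨⟨h1, h2⟩, h3⟩
      refine ⟨h3, ?_⟩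
      rcases (L.comm y hy a ha r h3).1 h1.2.2 with e1 | e1 <;>
        rcases (L.comm y hy c hc r h3).1 h2.2.2 with e2 | e2
      · exact absurd (e1.trans e2.symm) hpq.1
      · exact absurd (L.col_symm _ _ (e1 ▸ e2)) hpq.2
      · exact absurd (e2 ▸ e1) hpq.2
      · exact ⟨e1, e2⟩
    · rintro ⟨h3, h1, h2⟩
      refine ⟨⟨⟨h3.1, fun e => L.col_irrefl _ (e ▸ h1), (L.comm y hy a ha r h3).2 (Or.inr h1)⟩,
        ⟨h3.1, fun e => L.col_irrefl _ (e ▸ h2), (L.comm y hy c hc r h3).2 (Or.inr h2)⟩⟩, h3⟩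
  rw [e, L.card_over hy, L.perp _ _ hpq.1 hpq.2]

/-- A non-commuting pair with a common neighbour has one over every point. -/
theorem cn_cover [Finite Y] {a c : Y} (ha : a ∈ D) (hc : c ∈ D) (hnc : ¬ Commute a c)
    (hne : (nbr D a ∩ nbr D c).Nonempty) : f a '' (nbr D a ∩ nbr D c) = Set.univ := by
  haveI := L.finite_P
  refine L.conn _ (hne.image _) ?_
  rintro _ ⟨y, hy, rfl⟩ q hq
  have hsub : f a '' (nbr D a ∩ nbr D c ∩ nbr D y) ⊆ {q | col (f a y) q} := by
    rintro _ ⟨r, hr, rfl⟩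
    refine ((L.comm a ha y hy.1 r hr.1.1).1 hr.2.2.2).resolve_left fun e => ?_
    exact hr.2.2.1 (L.cn_inj ha hc hnc hr.1 hy e.symm)
  have hinj : Set.InjOn (f a) (nbr D a ∩ nbr D c ∩ nbr D y) :=
    fun r hr r' hr' e => L.cn_inj ha hc hnc hr.1 hr'.1 e
  have hcard : (f a '' (nbr D a ∩ nbr D c ∩ nbr D y)).ncard = 12 := by
    rw [Set.InjOn.ncard_image hinj,
      L.card_cn_nbr hy.1.1 (nbr_symm ha hy.1) (nbr_symm hc hy.2) hnc]
  have heq := Set.eq_of_subset_of_ncard_le hsub (by rw [hcard, L.degree]) (Set.toFinite _)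
  obtain ⟨r, hr, e⟩ := heq.symm.subset hq
  exact ⟨r, hr.1, e⟩

theorem card_cn [Finite Y] {a c : Y} (ha : a ∈ D) (hc : c ∈ D) (hnc : ¬ Commute a c)
    (hne : (nbr D a ∩ nbr D c).Nonempty) : (nbr D a ∩ nbr D c).ncard = 45 := by
  rw [← Set.InjOn.ncard_image (f := f a) fun r hr r' hr' e => L.cn_inj ha hc hnc hr hr' e,
    L.cn_cover ha hc hnc hne, Set.ncard_univ, L.card_points]

/-- The members at distance two. -/
def far (_L : Local D P col f) (a : Y) : Set Y :=
  {c | c ∈ D ∧ ¬ Commute a c ∧ (nbr D a ∩ nbr D c).Nonempty}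

/-- Diameter two. -/
theorem comp_cases [Finite Y] {a x : Y} (ha : a ∈ D) (hx : x ∈ comp D a) :
    x = a ∨ x ∈ nbr D a ∨ x ∈ L.far a := by
  induction hx with
  | refl => exact Or.inl rfl
  | @tail c e _ he ih =>
    by_cases hea : e = a
    · exact Or.inl hea
    right
    by_cases hcom : Commute a e
    · exact Or.inl ⟨he.1, hea, hcom⟩
    right
    refine ⟨he.1, hcom, ?_⟩
    rcases ih with rfl | hc | ⟨hc, hnc, hne⟩
    · exact absurd he.2.2 hcom
    · exact ⟨c, hc, nbr_symm hc.1 he⟩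
    · rw [Set.inter_comm] at hne
      have hcov := L.cn_cover hc ha (fun h => hnc h.symm) hne
      obtain ⟨y, hy, ey⟩ := hcov.symm.subset (Set.mem_univ (f c e))
      refine ⟨y, hy.2, hy.1.1, fun e' => hcom (e' ▸ hy.2.2.2), ?_⟩
      exact ((L.comm c hc y hy.1 e he).2 (Or.inl ey)).symm

theorem far_subset {a : Y} : L.far a ⊆ comp D a := by
  rintro c ⟨hc, -, y, hy⟩
  exact Relation.ReflTransGen.tail (r := fun x y => y ∈ nbr D x)
    (Relation.ReflTransGen.single hy.1) (nbr_symm hc hy.2)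

theorem comp_eq_union [Finite Y] {a : Y} (ha : a ∈ D) :
    comp D a = insert a (nbr D a ∪ L.far a) :=
  Set.Subset.antisymm (fun _ hx => L.comp_cases ha hx) (by
    rintro x (rfl | hx | hx)
    exacts [mem_comp_self x, Relation.ReflTransGen.single hx, L.far_subset hx])

/-- The neighbours of a neighbour which do not commute. -/
theorem card_noncomm [Finite Y] {a y : Y} (ha : a ∈ D) (hy : y ∈ nbr D a) :
    {c | c ∈ nbr D y ∧ ¬ Commute a c}.ncard = 128 := by
  haveI := L.finite_P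
  have ha' := nbr_symm ha hy
  have e : {c | c ∈ nbr D y ∧ ¬ Commute a c} =
      nbr D y \ {r | r ∈ nbr D y ∧ f y r ∈ insert (f y a) {r | col (f y a) r}} := by
    ext c
    simp only [Set.mem_setOf_eq, Set.mem_diff, Set.mem_insert_iff]
    refine and_congr_right fun hc => ?_
    rw [L.comm y hy.1 a ha' c hc]
    tauto
  rw [e, Set.ncard_diff (fun r hr => hr.1) (Set.toFinite _), L.card_nbr hy.1, L.card_over hy.1,
    Set.ncard_insert_of_notMem (s := {r | col (f y a) r}) (L.col_irrefl _) (Set.toFinite _), L.degree]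

theorem card_far [Finite Y] {a : Y} (ha : a ∈ D) : (L.far a).ncard = 512 := by
  classical
  haveI := Fintype.ofFinite Y
  have key := Finset.sum_card_bipartiteAbove_eq_sum_card_bipartiteBelow (s := (nbr D a).toFinset)
    (t := (L.far a).toFinset) (fun y c => c ∈ nbr D y)
  rw [Finset.sum_eq_card_nsmul (b := 128) fun y hy => ?_,
    Finset.sum_eq_card_nsmul (b := 45) fun c hc => ?_, ← Set.ncard_eq_toFinset_card',
    ← Set.ncard_eq_toFinset_card', L.card_nbr ha] at key
  · simp only [smul_eq_mul] at key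
    omega
  · rw [Set.mem_toFinset] at hc
    rw [← L.card_cn ha hc.1 hc.2.1 hc.2.2, Set.ncard_eq_toFinset_card']
    congr 1
    ext y
    simp only [Finset.mem_bipartiteBelow, Set.mem_toFinset, Set.mem_inter_iff]
    exact and_congr_right fun hy => ⟨fun h => nbr_symm hy.1 h, fun h => nbr_symm hc.1 h⟩
  · rw [Set.mem_toFinset] at hy
    rw [← L.card_noncomm ha hy, Set.ncard_eq_toFinset_card']
    congr 1
    ext c
    simp only [Finset.mem_bipartiteAbove, Set.mem_toFinset, Set.mem_setOf_eq]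
    exact ⟨fun h => ⟨h.2, h.1.2.1⟩, fun h => ⟨⟨h.1.1, h.2, y, hy, nbr_symm hy.1 h.1⟩, h.1⟩⟩

theorem card_comp [Finite Y] {a : Y} (ha : a ∈ D) : (comp D a).ncard = 693 := by
  have h2 : Disjoint (nbr D a) (L.far a) := Set.disjoint_left.2 fun x hx hx' => hx'.2.1 hx.2.2
  rw [L.comp_eq_union ha, Set.ncard_insert_of_notMem
    (fun h => h.elim (fun h => h.2.1 rfl) fun h => h.2.1 (Commute.refl a)) (Set.toFinite _),
    Set.ncard_union_eq h2 (Set.toFinite _) (Set.toFinite _), L.card_nbr ha, L.card_far ha]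

theorem comp_prod [Finite Y] {a x y : Y} (ha : a ∈ D) (hx : x ∈ comp D a) (hy : y ∈ comp D a) :
    (x * y) ^ 2 = 1 ∨ (x * y) ^ 3 = 1 := by
  have hxD := comp_sub ha hx
  rcases L.comp_cases hxD (comp_eq ha hx ▸ hy) with rfl | h | ⟨hyD, hnc, m, hm⟩
  · left
    rw [pow_two, CfsgLib.Invol.invol_mul_self (L.invol _ hxD), one_mul]
  · left
    rw [h.2.2.mul_pow, pow_two, pow_two, CfsgLib.Invol.invol_mul_self (L.invol _ hxD),
      CfsgLib.Invol.invol_mul_self (L.invol _ h.1), one_mul]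
  · exact Or.inr (L.braid m hm.1.1 x (nbr_symm hxD hm.1) y (nbr_symm hyD hm.2) hnc)

end Local

end CfsgLib.Trans3.FiLarge.U6
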