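import Cfsg.Agent.Lib.Trans3.FiLarge.U6.CompGroup
import Cfsg.Agent.Lib.Golay.FischerPolarMain
import Cfsg.Agent.Lib.Classical.HermOrder
import Cfsg.Agent.Lib.Classical.SUCenter

/-!
The component of a class with the local conditions generates `PSU₆(2)`.
-/

set_option autoImplicit false
set_option linter.unusedSectionVars false

namespace CfsgLib.Trans3.FiLarge.U6

open CfsgLib.FischerPolar CfsgLib.FischerOdd

/-- The unitary groups over four elements are told apart by their orders. -/
theorem psu_degree {F : Type*} [Field F] [Fintype F] (hF : Fintype.card F = 4) {n : ℕ} (hn : 4 ≤ n)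
    (h : Nat.card (Cfsg.PSU n F 2) = 9196830720) : n = 6 := by
  have hF' : Fintype.card F = 2 ^ 2 := hF
  have h1 := CfsgLib.Classical.card_psu_mul hF' (n := n) (by omega)
  rw [h] at h1
  have hgcd : Nat.gcd n 3 ≤ 3 := Nat.le_of_dvd (by norm_num) (Nat.gcd_dvd_right _ _)
  by_contra hne
  rcases Nat.lt_or_ge n 7 with hlt | hge
  · obtain rfl | rfl : n = 4 ∨ n = 5 := by omega
    all_goals
      rw [CfsgLib.Classical.card_gu hF'] at h1
      norm_num [Finset.prod_range_succ, Nat.even_iff] at h1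
  · have hmono : ∀ m, 7 ≤ m → Nat.card (Cfsg.GU 7 F 2) ≤ Nat.card (Cfsg.GU m F 2) := by
      intro m hm
      induction m, hm using Nat.le_induction with
      | base => exact le_rfl
      | succ m _ ih =>
        rw [CfsgLib.Classical.card_gu_succ hF' m]
        refine ih.trans (Nat.le_mul_of_pos_left _ ?_)
        have : Nonempty {v : Fin (m + 1) → F // Cfsg.hermForm (m + 1) F 2 v v = 1} :=
          ⟨⟨Pi.single 0 1, by simp [Cfsg.hermForm, Pi.single_apply]⟩⟩
        exact Nat.card_pos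
    have h7 := hmono n hge
    rw [← h1, CfsgLib.Classical.card_gu hF'] at h7
    norm_num [Finset.prod_range_succ, Nat.even_iff] at h7
    omega

variable {Y : Type*} [Group Y] {D : Set Y} {P : Type*} {col : P → P → Prop} {f : Y → Y → P}

namespace Local

variable [Finite Y] (L : Local D P col f) {a : Y} (ha : a ∈ D)
include L ha

theorem perp_iff {x y : Subgroup.closure (comp D a)} (hx : (x : Y) ∈ comp D a) :
    y ∈ Perp (L.D0 ha) x ↔ (y : Y) ∈ nbr D x := by
  constructor
  · rintro ⟨hy, hne, hc⟩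
    exact ⟨comp_sub ha hy, fun e => hne (Subtype.ext e), hc.map (Subgroup.closure (comp D a)).subtype⟩
  · rintro h
    exact ⟨Relation.ReflTransGen.tail hx h, fun e => h.2.1 (congrArg Subtype.val e), Subtype.ext h.2.2.eq⟩

theorem cl_image {x y : Subgroup.closure (comp D a)} (hx : (x : Y) ∈ comp D a)
    (hy : y ∈ Perp (L.D0 ha) x) :
    Subtype.val '' Cl (L.D0 ha) x y = {w | w ∈ nbr D x ∧ f x w = f x y} := by
  have hxD := comp_sub ha hx
  have hy' := (L.perp_iff ha hx).1 hy
  have lift : ∀ w ∈ nbr D (x : Y), ∃ v ∈ Perp (L.D0 ha) x, (v : Y) = w := fun w hw =>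
    ⟨⟨w, Subgroup.subset_closure (Relation.ReflTransGen.tail hx hw)⟩, (L.perp_iff ha hx).2 hw, rfl⟩
  have hcom : ∀ {u v : Subgroup.closure (comp D a)}, Commute (u : Y) (v : Y) ↔ Commute u v :=
    fun {u v} => ⟨fun h => Subtype.ext h.eq, fun h => h.map (Subgroup.closure (comp D a)).subtype⟩
  ext w
  constructor
  · rintro ⟨v, hv, rfl⟩
    have hv' := (L.perp_iff ha hx).1 hv.1
    refine ⟨hv', (L.eq_of_sees hxD hy' hv' ?_ fun d hd hyd _ => ?_).symm⟩
    · exact (hcom.2 ((hv.2 y hy).1 (Commute.refl y))).symm.symm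
    · obtain ⟨d', hd', rfl⟩ := lift d hd
      exact (hcom.2 ((hv.2 d' hd').1 (hcom.1 hyd).symm)).symm
  · rintro ⟨hw, e⟩
    obtain ⟨v, hv, rfl⟩ := lift w hw
    refine ⟨v, ⟨hv, fun u hu => ?_⟩, rfl⟩
    have hu' := (L.perp_iff ha hx).1 hu
    rw [← hcom, ← hcom, L.comm x hxD u hu' y hy', L.comm x hxD u hu' v hw, e]

theorem cl_card {x y : Subgroup.closure (comp D a)} (hx : (x : Y) ∈ comp D a)
    (hy : y ∈ Perp (L.D0 ha) x) : (Cl (L.D0 ha) x y).ncard = 4 := by
  rw [← Set.ncard_image_of_injective _ Subtype.val_injective, L.cl_image ha hx hy,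
    L.fibre_card x (comp_sub ha hx)]

theorem setting0 : Setting (L.D0 ha) := by
  have hsol : ∀ N : Subgroup (Subgroup.closure (comp D a)), N.Normal → Group.IsSolvable ↥N → N = ⊥ :=
    L.no_solvable ha
  have hperf : ⁅commutator (Subgroup.closure (comp D a)), commutator (Subgroup.closure (comp D a))⁆ =
      commutator (Subgroup.closure (comp D a)) := by
    conv_lhs => rw [L.perfect0 ha]
    exact (_root_.commutator_def _).symm
  obtain ⟨hP, hw, h2⟩ := CfsgLib.Fischer.setting hsol hperf (L.isClass0 ha)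
  refine ⟨L.isClass0 ha, hP, hw, h2, hsol _ CfsgLib.Amalgam.normal_pCore
    (CfsgLib.Trans3.solvable_of_isPGroup Nat.prime_three CfsgLib.Amalgam.isPGroup_pCore),
    hsol _ inferInstance (Group.isSolvable_of_comm fun a b => Subtype.ext (Subgroup.mem_center_iff.1 b.2 a)), ?_⟩
  haveI := L.finite_P
  obtain ⟨p⟩ : Nonempty P := (Nat.card_pos_iff.1 (by rw [L.card_points]; decide)).1
  obtain ⟨b, hb, -⟩ := L.exists_over ha p
  let x : Subgroup.closure (comp D a) := ⟨a, Subgroup.subset_closure (mem_comp_self a)⟩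
  let y : Subgroup.closure (comp D a) :=
    ⟨b, Subgroup.subset_closure (Relation.ReflTransGen.single hb)⟩
  have hy : y ∈ Perp (L.D0 ha) x := (L.perp_iff ha (mem_comp_self a)).2 hb
  obtain ⟨v, hv, hne⟩ := Set.exists_ne_of_one_lt_ncard (s := Cl (L.D0 ha) x y)
    (by rw [L.cl_card ha (mem_comp_self a) hy]; decide) y
  exact ⟨x, mem_comp_self a, y, hy, v, hv, hne⟩

theorem component_iso : ∃ (F : Type) (_ : Field F) (_ : Fintype F), Fintype.card F = 4 ∧
    Nonempty (Subgroup.closure (comp D a) ≃* Cfsg.PSU 6 F 2) := by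
  obtain ⟨F, i1, i2, n, hF, hn, ⟨e⟩, -⟩ :=
    (L.setting0 ha).iso_unitary fun x hx y hy => L.cl_card ha hx hy
  have h := (Nat.card_congr e.toEquiv).symm.trans (L.card_group ha)
  obtain rfl := psu_degree hF hn h
  exact ⟨F, i1, i2, hF, ⟨e⟩⟩

end Local

/-- What the local conditions give about a component. -/
theorem compFacts [Finite Y] (L : Local D P col f) {a : Y} (ha : a ∈ D) : CompFacts D a :=
  ⟨L.card_comp ha, L.cent_le ha (mem_comp_self a), fun _ _ hb hg => L.stab ha hb hg, L.card_group ha,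
    L.component_iso ha⟩

end CfsgLib.Trans3.FiLarge.U6
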