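import Cfsg.Agent.Lib.Trans3.FiLarge.U6.Setting
import Cfsg.Agent.Lib.Trans3.FiLarge.U6.Component
import Cfsg.Agent.Lib.Classical.UnitaryGen
import Cfsg.Agent.Lib.Invol.Basic
import Mathlib.GroupTheory.Perm.Cycle.Type

/-!
`C(E)/E` is the group generated by the component of the image of `z`, so it is `PSU₆(2)`, and `C(E)` is quasisimple.
-/

set_option autoImplicit false
set_option linter.unusedSectionVars false

namespace CfsgLib.Trans3.FiLarge.U6

open CfsgLib.Chev.U43U6 CfsgLib.Trans3.FiLarge CfsgLib.Trans3.FischerType.PairCode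
open CfsgLib.Invol (invol_mul_self invol_of_mul_self)
open scoped commutatorElement

namespace Local

variable {Y : Type*} [Group Y] [Finite Y] {D : Set Y} {P : Type*} {col : P → P → Prop} {f : Y → Y → P}
variable (L : Local D P col f) {a : Y} (ha : a ∈ D)
include L ha

/-- An involution of the group of a component fixes one of the 693 members. -/
theorem exists_fixed {i : Y} (hi : i * i = 1) (hX : i ∈ Subgroup.closure (comp D a)) :
    ∃ d ∈ comp D a, Commute i d := by
  classical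
  haveI := Fintype.ofFinite Y
  haveI : Fact (Nat.Prime 2) := ⟨Nat.prime_two⟩
  let σ : Equiv.Perm (comp D a) := Function.Involutive.toPerm
    (fun x => ⟨i * x.1 * i⁻¹, L.conj_invariant ha hX _ x.2⟩)
    fun x => Subtype.ext (show i * (i * x.1 * i⁻¹) * i⁻¹ = x.1 by
      rw [inv_eq_of_mul_eq_one_right hi]
      calc i * (i * x.1 * i) * i = i * i * x.1 * (i * i) := by group
        _ = x.1 := by rw [hi, one_mul, mul_one])
  have hσ : σ ^ 2 ^ 1 = 1 := Equiv.ext fun x => by
    rw [pow_one, pow_two]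
    exact (Function.Involutive.toPerm_involutive _) x
  have hcard : ¬ 2 ∣ Fintype.card (comp D a) := by
    rw [← Nat.card_eq_fintype_card, Nat.card_coe_set_eq, L.card_comp ha]; decide
  obtain ⟨x, hx⟩ := Equiv.Perm.exists_fixed_point_of_prime hcard hσ
  exact ⟨x.1, x.2, mul_inv_eq_iff_eq_mul.1 (congrArg Subtype.val hx)⟩

/-- Members commuting with a member of a component belong to it. -/
theorem comp_of_commute {x y : Y} (hx : x ∈ comp D a) (hy : y ∈ D) (hc : Commute x y) : y ∈ comp D a := by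
  by_cases e : y = x
  · exact e ▸ hx
  · exact Relation.ReflTransGen.tail hx ⟨hy, e, hc⟩

end Local

variable {G : Type*} [Group G] [Finite G] {z : G} {Q : Subgroup (Subgroup.centralizer ({z} : Set G))} [Q.Normal]

namespace Ctx

variable (X : Ctx z Q) (hA : X.AFacts)

theorem zc_conj {g : G} (hg : g ∈ X.CE) (p : G) : X.zc (g * p * g⁻¹) = X.zc p := by
  unfold zc
  congr 1
  ext e
  refine and_congr_right fun he => ?_
  have hge : g * e = e * g := ((Subgroup.mem_centralizer_iff.1 hg) e he).symm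
  have h : g * p * g⁻¹ * e = g * (p * e) * g⁻¹ := by
    calc g * p * g⁻¹ * e = g * p * (g⁻¹ * e * g) * g⁻¹ := by group
      _ = g * p * (g⁻¹ * (g * e)) * g⁻¹ := by rw [mul_assoc g⁻¹, ← hge]
      _ = g * (p * e) * g⁻¹ := by group
  rw [h]
  have hh : IsConj (p * e) (g * (p * e) * g⁻¹) := isConj_iff.2 ⟨g, rfl⟩
  exact ⟨fun h' => h'.trans hh.symm, fun h' => h'.trans hh⟩

theorem zc_congr {g g' : G} (h : g⁻¹ * g' ∈ X.E) : X.zc g' = X.zc g := by
  unfold zc
  rw [show {e : G | e ∈ X.E ∧ IsConj z (g * e)} =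
      (fun e => g⁻¹ * g' * e) '' {e : G | e ∈ X.E ∧ IsConj z (g' * e)} from ?_,
    Set.ncard_image_of_injective _ (mul_right_injective _)]
  ext e
  constructor
  · intro he
    exact ⟨(g⁻¹ * g')⁻¹ * e, ⟨mul_mem (inv_mem h) he.1,
      by rw [show g' * ((g⁻¹ * g')⁻¹ * e) = g * e by group]; exact he.2⟩, by group⟩
  · rintro ⟨u, hu, rfl⟩
    exact ⟨mul_mem h hu.1, by rw [show g * (g⁻¹ * g' * u) = g' * u by group]; exact hu.2⟩

theorem img_eq_iff {g g' : X.CE} : X.img g = X.img g' ↔ (g : G)⁻¹ * g' ∈ X.E := by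
  show (QuotientGroup.mk g : X.Y) = QuotientGroup.mk g' ↔ _
  rw [QuotientGroup.eq, Subgroup.mem_subgroupOf]
  simp

include hA

theorem A_le {x : G} (hx : x ∈ X.A) : x ∈ X.CE :=
  Subgroup.mem_centralizer_iff.2 fun _ he => X.spine.comm (hA.E_le he) hx

theorem zc_z : X.zc z = 1 := by
  unfold zc
  rw [Set.ncard_eq_one]
  refine ⟨1, Set.ext fun e => ⟨fun he => ?_, ?_⟩⟩
  · by_contra h1
    obtain ⟨hq, -, hs⟩ := hA.E_small e he.1 h1
    refine X.spine.conj_small (z * e) (mul_mem X.spine.z_qg hq) ?_ he.2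
    rwa [prG_mul X.c X.spine.z_qg hq, X.spine.prG_z, zero_add]
  · rintro rfl
    exact ⟨one_mem _, by rw [mul_one]⟩

theorem z_A : z ∈ X.A := (Subgroup.mem_inf.1 X.spine.z_B).1

variable (hC : X.CentFacts)
include hC

theorem comp_of_zc_one {x : X.CE} (hxA : (x : G) ∈ X.A) (h : X.zc x = 1) :
    X.img x ∈ comp X.D (X.img ⟨z, X.A_le hA (X.z_A hA)⟩) := by
  obtain ⟨P, col, p, L⟩ := hC.local_data
  set zY := X.img ⟨z, X.A_le hA (X.z_A hA)⟩
  have hz : zY ∈ X.D := ⟨_, rfl, IsConj.refl _⟩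
  obtain ⟨n, hn, -, he⟩ := hA.one_trans z (X.z_A hA) (X.zc_z hA) x hxA h
  have hxD : X.img x ∈ X.D := by
    refine ⟨⟨z, X.A_le hA (X.z_A hA)⟩, rfl, isConj_iff.2 ⟨X.img ⟨n, hn⟩, ?_⟩⟩
    show QuotientGroup.mk' X.EC _ * QuotientGroup.mk' X.EC _ * (QuotientGroup.mk' X.EC _)⁻¹ = _
    rw [← map_inv, ← map_mul, ← map_mul]
    exact (X.img_eq_iff).2 (by simpa using he)
  refine L.comp_of_commute hz (mem_comp_self _) hxD ?_
  exact congrArg X.img (Subtype.ext (X.spine.comm (X.z_A hA) hxA))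

variable (hF : X.FixFacts)
include hF

theorem cent_le_comp {x : X.CE} (hxA : (x : G) ∈ X.A) (hx1 : X.img x ≠ 1) {y : X.Y}
    (hy : Commute y (X.img x)) :
    y ∈ Subgroup.closure (comp X.D (X.img ⟨z, X.A_le hA (X.z_A hA)⟩)) := by
  obtain ⟨P, col, p, L⟩ := hC.local_data
  have hz : X.img ⟨z, X.A_le hA (X.z_A hA)⟩ ∈ X.D := ⟨_, rfl, IsConj.refl _⟩
  have hxE : (x : G) ∉ X.E := fun h => hx1 ((QuotientGroup.eq_one_iff x).2 h)
  obtain ⟨g, rfl⟩ := QuotientGroup.mk'_surjective X.EC y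
  rcases hA.cases x hxA hxE with h | h
  · exact L.cent_le hz (X.comp_of_zc_one hA hC hxA h) (Subgroup.mem_centralizer_singleton_iff.2 hy.eq)
  · have hfix : ((g : G) * x * (g : G)⁻¹)⁻¹ * x ∈ X.E := by
      have he : X.img (g * x * g⁻¹) = X.img x := by
        show QuotientGroup.mk' X.EC (g * x * g⁻¹) = _
        rw [map_mul, map_mul, map_inv]
        exact (congrArg (· * (QuotientGroup.mk' X.EC g)⁻¹) hy.eq).trans (mul_inv_cancel_right _ _)
      simpa using (X.img_eq_iff).1 he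
    obtain ⟨q, hqA, hq1, hgq⟩ := hF x hxA h g g.2 hfix
    have h1 := X.comp_of_zc_one hA hC (x := ⟨q, X.A_le hA hqA⟩) hqA hq1
    have h2 := X.comp_of_zc_one hA hC (x := g * ⟨q, X.A_le hA hqA⟩ * g⁻¹) (by simpa using hgq)
      (by show X.zc ((g : G) * q * (g : G)⁻¹) = 1; rw [X.zc_conj g.2, hq1])
    refine L.stab hz h1 ?_
    have e : X.img (g * ⟨q, X.A_le hA hqA⟩ * g⁻¹) =
        QuotientGroup.mk' X.EC g * X.img ⟨q, X.A_le hA hqA⟩ * (QuotientGroup.mk' X.EC g)⁻¹ := by
      show QuotientGroup.mk' X.EC _ = _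
      rw [map_mul, map_mul, map_inv]; rfl
    rwa [← e]

/-- The group of the component is everything. -/
theorem closure_comp :
    Subgroup.closure (comp X.D (X.img ⟨z, X.A_le hA (X.z_A hA)⟩)) = ⊤ := by
  obtain ⟨P, col, p, L⟩ := hC.local_data
  have hz : X.img ⟨z, X.A_le hA (X.z_A hA)⟩ ∈ X.D := ⟨_, rfl, IsConj.refl _⟩
  set zY := X.img ⟨z, X.A_le hA (X.z_A hA)⟩ with hzY
  set S := Subgroup.closure (comp X.D zY) with hS
  -- the centraliser of an involution of the group lies in it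
  have hcent : ∀ i ∈ S, orderOf i = 2 → ∀ y, Commute y i → y ∈ S := by
    intro i hi hi2 y hy
    obtain ⟨d, hd, hid⟩ := L.exists_fixed hz (invol_mul_self hi2) hi
    obtain ⟨k, hk, e⟩ := L.transitive hz hd (mem_comp_self zY)
    have hc : Commute (k * i * k⁻¹) zY := by
      have := hid.map (MulAut.conj k).toMonoidHom
      simpa [e] using this
    obtain ⟨l, hl, x, hxA, ex⟩ := hC.cover ⟨z, X.A_le hA (X.z_A hA)⟩ rfl (k * i * k⁻¹)
      (by rw [orderOf_conj, hi2]) hc
    have hlS : l ∈ S := L.cent_le hz (mem_comp_self zY) (Subgroup.mem_centralizer_singleton_iff.2 hl.eq)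
    have hne : X.img x ≠ 1 := by
      rw [ex]
      intro h1
      have := CfsgLib.Invol.orderOf_conj_eq l (k * i * k⁻¹)
      rw [h1, orderOf_one, orderOf_conj, hi2] at this
      omega
    have hmem := X.cent_le_comp hA hC hF hxA hne (y := l * k * y * (l * k)⁻¹) (by
      rw [ex, show l * (k * i * k⁻¹) * l⁻¹ = l * k * i * (l * k)⁻¹ by group]
      exact hy.map (MulAut.conj (l * k)).toMonoidHom)
    have h2 : l * k ∈ S := mul_mem hlS hk
    have := mul_mem (mul_mem (inv_mem h2) hmem) h2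
    rwa [show (l * k)⁻¹ * (l * k * y * (l * k)⁻¹) * (l * k) = y by group] at this
  -- members in the group are in the component
  have hin : ∀ y ∈ X.D, y ∈ S → y ∈ comp X.D zY := by
    intro y hy hyS
    obtain ⟨d, hd, hyd⟩ := L.exists_fixed hz (invol_mul_self (L.invol y hy)) hyS
    exact L.comp_of_commute hz hd hy hyd.symm
  by_contra hne
  obtain ⟨g, hg⟩ : ∃ g, g ∉ S := by
    by_contra! h
    exact hne (eq_top_iff.2 fun y _ => h y)
  set j := g * zY * g⁻¹
  have hjD : j ∈ X.D := L.conj_mem g hz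
  have hj : j ∉ S := fun h => hg (L.stab hz (mem_comp_self zY) (hin j hjD h))
  -- so every involution of the group is a member
  have hall : ∀ i ∈ S, orderOf i = 2 → i ∈ X.D := by
    intro i hi hi2
    rcases Nat.even_or_odd (orderOf (i * j)) with hev | hodd
    · exfalso
      obtain ⟨u, hu2, hui, huj⟩ := CfsgLib.Invol.exists_commute_both hi2 (L.invol j hjD) hev
      have huS : u ∈ S := hcent i hi hi2 u hui
      exact hj (hcent u huS hu2 j huj.symm)
    · rw [L.isClass j hjD]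
      exact (CfsgLib.Invol.isConj_of_odd hi2 (L.invol j hjD) hodd).symm
  obtain ⟨x, hxA, hx3⟩ := hA.other
  have hxE : x ∉ X.E := fun h => by
    rw [← mul_one x, show X.zc (x * 1) = X.zc (1 : G) from X.zc_congr (by simpa using h)] at hx3
    have h0 : X.zc (1 : G) = 0 := by
      unfold zc
      rw [Set.ncard_eq_zero (Set.toFinite _)]
      refine Set.eq_empty_of_forall_notMem fun e he => ?_
      by_cases h1 : e = 1
      · obtain ⟨w, hw⟩ := isConj_iff.1 he.2
        exact X.spine.z_ne (conj_eq_one_iff.1 (by rw [hw, h1, mul_one]))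
      · exact (hA.E_small e he.1 h1).2.1 (by simpa using he.2)
    omega
  set x' : X.CE := ⟨x, X.A_le hA hxA⟩
  have hx1 : X.img x' ≠ 1 := fun h => hxE ((QuotientGroup.eq_one_iff x').1 h)
  have hx2 : orderOf (X.img x') = 2 :=
    invol_of_mul_self (by
      show QuotientGroup.mk' X.EC x' * QuotientGroup.mk' X.EC x' = 1
      rw [← map_mul, show x' * x' = 1 from Subtype.ext (X.spine.sq hxA), map_one]) hx1
  have hxS : X.img x' ∈ S := L.cent_le hz (mem_comp_self zY) (Subgroup.mem_centralizer_singleton_iff.2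
    (congrArg X.img (Subtype.ext (X.spine.comm hxA (X.z_A hA)))))
  obtain ⟨g₀, hg₀, hc⟩ := hall _ hxS hx2
  obtain ⟨w, hw⟩ := isConj_iff.1 hc
  obtain ⟨w, rfl⟩ := QuotientGroup.mk'_surjective X.EC w
  have he : X.img (w * g₀ * w⁻¹) = X.img x' := by
    show QuotientGroup.mk' X.EC _ = _
    rw [map_mul, map_mul, map_inv]; exact hw
  have := X.zc_congr ((X.img_eq_iff).1 he)
  rw [show ((x' : X.CE) : G) = x from rfl, hx3, Subgroup.coe_mul, Subgroup.coe_mul, Subgroup.coe_inv,
    X.zc_conj w.2, hg₀, X.zc_z hA] at this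
  omega

theorem iso : ∃ (F : Type) (_ : Field F) (_ : Fintype F), Fintype.card F = 4 ∧
    Nonempty (X.Y ≃* Cfsg.PSU 6 F 2) := by
  obtain ⟨P, col, p, L⟩ := hC.local_data
  have hz : X.img ⟨z, X.A_le hA (X.z_A hA)⟩ ∈ X.D := ⟨_, rfl, IsConj.refl _⟩
  obtain ⟨F, i1, i2, hF', ⟨e⟩⟩ := L.component_iso hz
  exact ⟨F, i1, i2, hF', ⟨Subgroup.topEquiv.symm.trans
    ((MulEquiv.subgroupCongr (X.closure_comp hA hC hF).symm).trans e)⟩⟩

theorem quasisimple : Cfsg.IsQuasisimple X.CE := by
  obtain ⟨F, i1, i2, hF4, ⟨e⟩⟩ := X.iso hA hC hF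
  haveI : IsSimpleGroup (Cfsg.PSU 6 F 2) :=
    CfsgLib.Classical.isSimpleGroup_psu (q := 2) hF4 (by norm_num) (by norm_num)
  haveI : Nontrivial X.Y := e.toEquiv.nontrivial
  haveI : IsSimpleGroup X.Y := IsSimpleGroup.isSimpleGroup_of_surjective e.symm.toMonoidHom e.symm.surjective
  have hnab : ¬ ∀ a b : X.Y, a * b = b * a := by
    obtain ⟨P, col, p, L⟩ := hC.local_data
    intro hab
    obtain ⟨y, hy⟩ := L.nonempty
    haveI := L.finite_P
    have h1 : nbr X.D y = X.D \ {y} := Set.ext fun w => ⟨fun h => ⟨h.1, h.2.1⟩, fun h => ⟨h.1, h.2, hab y w⟩⟩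
    obtain ⟨q⟩ : Nonempty P := (Nat.card_pos_iff.1 (by rw [L.card_points]; decide)).1
    obtain ⟨r, hr⟩ : {r | col q r}.Nonempty := Set.nonempty_of_ncard_ne_zero (by rw [L.degree]; decide)
    obtain ⟨s, hs, hsr, hns⟩ := L.exists_distinguish hr
    obtain ⟨b, hb, eb⟩ := L.exists_over hy r
    obtain ⟨c, hc, ec⟩ := L.exists_over hy s
    rcases (L.comm y hy b hb c hc).1 (hab b c) with e' | e'
    · exact hsr (by rw [← ec, ← eb, e'])
    · exact hns (by rw [← ec, ← eb]; exact e')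
  have hYperf : commutator X.Y = ⊤ := by
    rcases (inferInstance : (commutator X.Y).Normal).eq_bot_or_eq_top with h | h
    · exfalso
      refine hnab fun a b => ?_
      have : ⁅a, b⁆ ∈ commutator X.Y := Subgroup.commutator_mem_commutator (Subgroup.mem_top a) (Subgroup.mem_top b)
      rw [h, Subgroup.mem_bot] at this
      exact commutatorElement_eq_one_iff_mul_comm.1 this
    · exact h
  have hperf : commutator X.CE = ⊤ := by
    have hmap : (commutator X.CE).map (QuotientGroup.mk' X.EC) = ⊤ := by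
      rw [← hYperf, _root_.commutator_def, _root_.commutator_def, Subgroup.map_commutator,
        Subgroup.map_top_of_surjective _ (QuotientGroup.mk'_surjective _)]
    have := congrArg (Subgroup.comap (QuotientGroup.mk' X.EC)) hmap
    rwa [Subgroup.comap_map_eq, QuotientGroup.ker_mk', sup_eq_left.2 hA.E_comm, Subgroup.comap_top] at this
  have hcen : Subgroup.center X.CE = X.EC := by
    refine le_antisymm (fun u hu => ?_) fun u hu => ?_
    · have hu' : QuotientGroup.mk' X.EC u ∈ Subgroup.center X.Y := by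
        rw [Subgroup.mem_center_iff]
        intro q
        obtain ⟨w, rfl⟩ := QuotientGroup.mk'_surjective X.EC q
        rw [← map_mul, ← map_mul, Subgroup.mem_center_iff.1 hu w]
      rcases (inferInstance : (Subgroup.center X.Y).Normal).eq_bot_or_eq_top with h | h
      · rw [h, Subgroup.mem_bot] at hu'
        exact (QuotientGroup.eq_one_iff u).1 hu'
      · exact absurd (fun a b => (Subgroup.mem_center_iff.1 (h ▸ Subgroup.mem_top a) b).symm) hnab
    · exact Subgroup.mem_center_iff.2 fun w => Subtype.ext ((Subgroup.mem_centralizer_iff.1 w.2) u hu).symm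
  refine ⟨⟨hperf⟩, ?_⟩
  let e2 := QuotientGroup.quotientMulEquivOfEq hcen
  haveI : Nontrivial (X.CE ⧸ Subgroup.center X.CE) := e2.toEquiv.nontrivial
  exact IsSimpleGroup.isSimpleGroup_of_surjective e2.symm.toMonoidHom e2.symm.surjective

/-- The conclusion about the centraliser of the four-group. -/
theorem conclusion : ∃ E : Subgroup G, E ≤ (Q.map (Subgroup.centralizer ({z} : Set G)).subtype) ∧
    Cfsg.IsElementaryAbelian 2 E ∧ Nat.card E = 4 ∧ z ∉ E ∧ (∃ t ∈ E, orderOf t = 2 ∧ ¬ IsConj z t) ∧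
    Cfsg.IsQuasisimple ↥(Subgroup.centralizer (E : Set G)) ∧
    ∃ (_ : (E.subgroupOf (Subgroup.centralizer (E : Set G))).Normal) (K : Type) (_ : Field K) (_ : Fintype K),
      Fintype.card K = 4 ∧ Nonempty (↥(Subgroup.centralizer (E : Set G)) ⧸
        E.subgroupOf (Subgroup.centralizer (E : Set G)) ≃* Cfsg.PSU 6 K 2) := by
  refine ⟨X.E, fun e he => ?_, hA.E_elem, hA.E_card, hA.z_notMem, ?_, X.quasisimple hA hC hF,
    X.EC_normal, X.iso hA hC hF⟩
  · by_cases h1 : e = 1
    · rw [h1]; exact one_mem _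
    · exact (hA.E_small e he h1).1
  · obtain ⟨⟨e, he⟩, h1⟩ : ∃ e : X.E, e ≠ 1 := by
      haveI : Nontrivial X.E := Finite.one_lt_card_iff_nontrivial.1 (by rw [hA.E_card]; norm_num)
      exact exists_ne 1
    have h1' : e ≠ 1 := fun h => h1 (Subtype.ext h)
    exact ⟨e, he, invol_of_mul_self (by rw [← pow_two]; exact hA.E_elem.2 e he) h1',
      (hA.E_small e he h1').2.1⟩

end Ctx

end CfsgLib.Trans3.FiLarge.U6
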