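import Cfsg.Agent.Lib.Trans3.FiLarge.U6.OutSetting
import Cfsg.Agent.Lib.Trans3.FiLarge.U6.Top
import Cfsg.Agent.Lib.InvChar.Fi22W.Pack
import Cfsg.Agent.Lib.Trans3.Fi.M24PairStructure
import Cfsg.Agent.Lib.Comp.Components
import Cfsg.Agent.Lib.Solvable.Fitting

/-!
The centraliser of a small involution is an extension of `Aut Fi₂₂` by the involution.
-/

set_option autoImplicit false
set_option linter.unusedSectionVars false

namespace CfsgLib.Trans3.FiLarge.U6

open CfsgLib.Chev.U43U6 CfsgLib.Trans3.FiLarge CfsgLib.Trans3.FischerType.PairCode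
open CfsgLib.InvChar.Fi22W CfsgLib.InvChar.Fi22W.Top CfsgLib.Trans3.Fi
open scoped commutatorElement

variable {G : Type*} [Group G] [Finite G] {z : G} {Q : Subgroup (Subgroup.centralizer ({z} : Set G))} [Q.Normal]

namespace Ctx

variable (X : Ctx z Q) (hA : X.AFacts) (hC : X.CentFacts) (hF : X.FixFacts) (hO : X.OutFacts)
  (hP : ∀ d : X.CT, (d : G) = X.b → CenW (X.imgT d) → Pack (X.imgT d))
include hA hO hP

/-- The conditions of the stabiliser argument hold. -/
theorem out_data {d : X.CT} (hd : (d : G) = X.b) : Data (X.imgT d) := by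
  have hpack := hP d hd (hO.cenW d hd)
  refine ⟨hO.cenW d hd, hpack, hO.swap d hd, hO.index_le d hd, fun i hi hi2 g hg => ?_⟩
  obtain ⟨k, hk, x, hxA, ex⟩ := hO.cover d hd i hi hi2
  have hne : X.imgT x ≠ 1 := by
    rw [ex]
    intro h
    have h' := CfsgLib.Invol.orderOf_conj_eq k i
    rw [h, orderOf_one, hi2] at h'
    omega
  obtain ⟨p, hpA, ⟨d', hd', hpD⟩, q, hqA, hpq⟩ := hO.fixA x hxA hne (k * g * k⁻¹)
    (ex ▸ hg.map (MulAut.conj k).toMonoidHom)
  obtain rfl : d' = d := Subtype.ext (hd'.trans hd.symm)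
  have hp : X.imgT p ∈ Cmp (X.imgT d') := hO.memA d' hd p hpA hpD
  have hq : X.imgT q ∈ Cmp (X.imgT d') := hO.memA d' hd q hqA (hpq ▸ conj_mem_class _ hpD)
  have h1 : k * g * k⁻¹ ∈ St (X.imgT d') := St_of_one hp (hpq ▸ hq)
  have h2 : k ∈ St (X.imgT d') := closure_le_St (Hd_le hk)
  have := mul_mem (mul_mem (inv_mem h2) h1) h2
  rwa [show k⁻¹ * (k * g * k⁻¹) * k = g by group] at this

include hC hF

/-- The centraliser of the small involution. -/
theorem out_main : ∃ K : Subgroup X.CT, Cfsg.IsQuasisimple ↥K ∧ K.index = 2 ∧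
    (∀ t : X.CT, (t : G) = X.a → t ∈ K) ∧ K = Cfsg.generalizedFittingSubgroup ↥X.CT ∧
    Nonempty (X.W ≃* MulAut Cfsg.Spor.Fi22) := by
  have hbA : X.b ∈ X.A := hA.E_le (Subgroup.subset_closure (Or.inr rfl))
  have haA : X.a ∈ X.A := hA.E_le (Subgroup.subset_closure (Or.inl rfl))
  let d : X.CT := ⟨X.b, Subgroup.mem_centralizer_singleton_iff.2 (X.spine.comm hbA haA)⟩
  have D := X.out_data hA hO hP (d := d) rfl
  obtain ⟨S, hS⟩ : ∃ S, S = Subgroup.closure (Cmp (X.imgT d)) := ⟨_, rfl⟩
  haveI hSn : S.Normal := hS ▸ Top.normal D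
  have hSi : S.index = 2 := hS ▸ Top.index D
  have hS22 := D.pack.m22
  obtain ⟨iso', -⟩ := CfsgLib.Trans3.Y332.m22_iso_fi22 D.pack.group D.pack.prim hS22
  haveI : IsSimpleGroup ↥S := by
    rw [hS]; exact m22_simple D.pack.group D.pack.prim hS22
  have hScen : Subgroup.center ↥S = ⊥ := by subst hS; exact hS22.1
  have hSperf : commutator ↥S = ⊤ := by
    rcases (inferInstance : (commutator ↥S).Normal).eq_bot_or_eq_top with h | h
    · exfalso
      have hall : (⊤ : Subgroup ↥S) ≤ Subgroup.center ↥S := fun x _ => Subgroup.mem_center_iff.2 fun y => by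
        have : ⁅y, x⁆ ∈ commutator ↥S :=
          Subgroup.commutator_mem_commutator (Subgroup.mem_top y) (Subgroup.mem_top x)
        rw [h, Subgroup.mem_bot] at this
        exact commutatorElement_eq_one_iff_mul_comm.1 this
      rw [hScen] at hall
      exact top_ne_bot (le_bot_iff.1 hall)
    · exact h
  have hScent : Subgroup.centralizer (S : Set X.W) = ⊥ := hS ▸ Top.centralizer_bot D
  obtain ⟨K, hK⟩ : ∃ K, K = S.comap (QuotientGroup.mk' X.TC) := ⟨_, rfl⟩
  haveI hKn : K.Normal := hK ▸ hSn.comap _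
  have hKi : K.index = 2 := by
    rw [hK, Subgroup.index_comap_of_surjective _ (QuotientGroup.mk'_surjective _), hSi]
  have hTK : X.TC ≤ K := fun t ht => by
    rw [hK, Subgroup.mem_comap, QuotientGroup.mk'_apply, (QuotientGroup.eq_one_iff t).2 ht]
    exact one_mem _
  -- the centraliser of the four-group lies in the subgroup
  have hCE : ∀ g : X.CE, (g : G) ∈ X.CT := fun g => Subgroup.mem_centralizer_singleton_iff.2
    ((Subgroup.mem_centralizer_iff.1 g.2) _ (Subgroup.subset_closure (Or.inl rfl))).symm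
  let ι : X.CE →* X.CT := Subgroup.inclusion (fun g hg => hCE ⟨g, hg⟩)
  have hι : ι.range ≤ K := by
    have h1 : (commutator X.CE).map ι ≤ K := by
      rw [_root_.commutator_def, Subgroup.map_commutator, Subgroup.commutator_le]
      intro x _ y _
      simp only [commutatorElement_def, Subgroup.mul_mem_iff_of_index_two hKi, inv_mem_iff]
      tauto
    have hperf := (X.quasisimple hA hC hF).1.commutator_eq_top
    rwa [hperf, ← MonoidHom.range_eq_map] at h1
  have hKmap : K.map (QuotientGroup.mk' X.TC) = S := by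
    rw [hK, Subgroup.map_comap_eq_self_of_surjective (QuotientGroup.mk'_surjective _)]
  let π : ↥K →* ↥S :=
    ((QuotientGroup.mk' X.TC).comp K.subtype).codRestrict S fun k => hKmap ▸ ⟨k, k.2, rfl⟩
  have hπ : Function.Surjective π := fun s => by
    obtain ⟨k, hk, e⟩ := hKmap.ge s.2
    exact ⟨⟨k, hk⟩, Subtype.ext e⟩
  have hker : π.ker = X.TC.subgroupOf K := by
    ext k
    rw [MonoidHom.mem_ker, Subgroup.mem_subgroupOf, ← QuotientGroup.eq_one_iff]
    exact ⟨fun h => congrArg Subtype.val h, fun h => Subtype.ext h⟩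
  have hTcen : ∀ t ∈ X.TC, ∀ g : X.CT, g * t = t * g := fun t ht g => by
    obtain ⟨n, hn⟩ := Subgroup.mem_zpowers_iff.1 (Subgroup.mem_subgroupOf.1 ht)
    refine Subtype.ext ?_
    show (g : G) * t = t * g
    rw [← hn]
    exact ((show Commute (g : G) X.a from Subgroup.mem_centralizer_singleton_iff.1 g.2).zpow_right n).eq
  have hcenK : Subgroup.center ↥K = π.ker := by
    refine le_antisymm (fun k hk => ?_) fun k hk => ?_
    · have : π k ∈ Subgroup.center ↥S := Subgroup.mem_center_iff.2 fun s => by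
        obtain ⟨l, rfl⟩ := hπ s
        rw [← map_mul, ← map_mul, Subgroup.mem_center_iff.1 hk l]
      rwa [hScen, Subgroup.mem_bot] at this
    · rw [hker, Subgroup.mem_subgroupOf] at hk
      exact Subgroup.mem_center_iff.2 fun l => Subtype.ext (hTcen _ hk l)
  have hperfK : commutator ↥K = ⊤ := by
    have hmap : (commutator ↥K).map π = ⊤ := by
      rw [← hSperf, _root_.commutator_def, _root_.commutator_def, Subgroup.map_commutator,
        Subgroup.map_top_of_surjective _ hπ]
    have hkle : π.ker ≤ commutator ↥K := by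
      let ι' : X.CE →* ↥K := ι.codRestrict K fun g => hι ⟨g, rfl⟩
      have hle : (commutator X.CE).map ι' ≤ commutator ↥K := by
        rw [_root_.commutator_def, _root_.commutator_def, Subgroup.map_commutator]
        exact Subgroup.commutator_mono le_top le_top
      rw [(X.quasisimple hA hC hF).1.commutator_eq_top] at hle
      intro k hk
      rw [hker, Subgroup.mem_subgroupOf, Subgroup.mem_subgroupOf] at hk
      have hkE : ((k : X.CT) : G) ∈ X.CE := by
        refine X.A_le hA ?_
        obtain ⟨n, hn⟩ := Subgroup.mem_zpowers_iff.1 hk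
        rw [← hn]
        exact zpow_mem haA n
      exact hle ⟨⟨_, hkE⟩, Subgroup.mem_top _, Subtype.ext (Subtype.ext rfl)⟩
    have := congrArg (Subgroup.comap π) hmap
    rwa [Subgroup.comap_map_eq, sup_eq_left.2 hkle, Subgroup.comap_top] at this
  let eKS : ↥K ⧸ Subgroup.center ↥K ≃* ↥S :=
    (QuotientGroup.quotientMulEquivOfEq hcenK).trans (QuotientGroup.quotientKerEquivOfSurjective π hπ)
  have hqs : Cfsg.IsQuasisimple ↥K := by
    haveI : Nontrivial (↥K ⧸ Subgroup.center ↥K) := eKS.toEquiv.nontrivial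
    exact ⟨⟨hperfK⟩, IsSimpleGroup.isSimpleGroup_of_surjective eKS.symm.toMonoidHom eKS.symm.surjective⟩
  have hcK : Subgroup.centralizer (K : Set X.CT) ≤ X.TC := by
    intro g hg
    rw [← QuotientGroup.eq_one_iff, ← Subgroup.mem_bot, ← hScent, Subgroup.mem_centralizer_iff]
    intro s hs
    obtain ⟨k, hk, rfl⟩ := hKmap.ge hs
    show QuotientGroup.mk' X.TC k * QuotientGroup.mk' X.TC g = QuotientGroup.mk' X.TC g * QuotientGroup.mk' X.TC k
    rw [← map_mul, ← map_mul, Subgroup.mem_centralizer_iff.1 hg k hk]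
  have hKsub : K.IsSubnormal := hKn.isSubnormal
  have hFstar : K = Cfsg.generalizedFittingSubgroup ↥X.CT := by
    refine le_antisymm ((CfsgLib.Comp.le_layer ⟨hKsub, hqs⟩).trans le_sup_left) (sup_le (sSup_le fun L hL => ?_) ?_)
    · rcases CfsgLib.Comp.component_le_or_le_centralizer hL hKsub with h | h
      · exact h
      · exact h.trans (hcK.trans hTK)
    · haveI : (Cfsg.fittingSubgroup ↥X.CT).Normal := CfsgLib.Solvable.fittingSubgroup_normal _
      haveI : Group.IsNilpotent (Cfsg.fittingSubgroup ↥X.CT) := CfsgLib.Solvable.fittingSubgroup_isNilpotent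
      exact (Subgroup.le_centralizer_iff.1 (CfsgLib.Comp.component_le_centralizer_of_isSolvable
        ⟨hKsub, hqs⟩ (inferInstance : (Cfsg.fittingSubgroup ↥X.CT).Normal).isSubnormal inferInstance)).trans
          (hcK.trans hTK)
  refine ⟨K, hqs, hKi, fun t ht => hTK (Subgroup.mem_subgroupOf.2 (ht ▸ Subgroup.mem_zpowers X.a)), hFstar, ?_⟩
  let c : X.W →* MulAut ↥S := MulAut.conjNormal
  have hcinj : Function.Injective c := by
    rw [← MonoidHom.ker_eq_bot_iff, eq_bot_iff, ← hScent]
    intro g hg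
    rw [Subgroup.mem_centralizer_iff]
    intro s hs
    have h := congrArg Subtype.val (DFunLike.congr_fun (MonoidHom.mem_ker.1 hg) ⟨s, hs⟩)
    rw [MulAut.conjNormal_apply] at h
    exact (mul_inv_eq_iff_eq_mul.1 h).symm
  let eS : ↥S ≃* Cfsg.Spor.Fi22 := (MulEquiv.subgroupCongr hS).trans iso'.symm
  let eA : MulAut ↥S ≃* MulAut Cfsg.Spor.Fi22 := MulAut.congr eS
  haveI : Finite Cfsg.Spor.Fi22 := CfsgLib.InvChar.SporFi22.card_le.1
  haveI : Finite (MulAut ↥S) := Finite.of_injective (fun φ => (φ : ↥S → ↥S)) DFunLike.coe_injective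
  have hcard : Nat.card X.W = Nat.card (MulAut ↥S) := by
    rw [Nat.card_congr eA.toEquiv, card_mulAut_fi22, ← Nat.card_congr eS.toEquiv,
      ← Subgroup.card_mul_index S, hSi, mul_comm]
  exact ⟨(MulEquiv.ofBijective c ((Nat.bijective_iff_injective_and_card _).2 ⟨hcinj, hcard⟩)).trans eA⟩

omit hP in
/-- The centraliser of the small involution, with the component facts supplied. -/
theorem out_conclusion : ∃ K : Subgroup X.CT, Cfsg.IsQuasisimple ↥K ∧ K.index = 2 ∧
    (∀ t : X.CT, (t : G) = X.a → t ∈ K) ∧ K = Cfsg.generalizedFittingSubgroup ↥X.CT ∧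
    Nonempty (X.W ≃* MulAut Cfsg.Spor.Fi22) :=
  X.out_main hA hC hF hO fun _ _ h => pack_of_cenW h

end Ctx

end CfsgLib.Trans3.FiLarge.U6
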