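import Cfsg.Agent.Lib.Trans3.FiLarge.U6.OutSetting
import Cfsg.Agent.Lib.Trans3.FiLarge.U6.Top
import Cfsg.Agent.Lib.Trans3.FiLarge.U6.AFacts
import Cfsg.Agent.Lib.Trans3.FiLarge.U6.Fix

/-!
Basic facts on the quotient of the centraliser of a small involution.
-/

set_option autoImplicit false
set_option linter.unusedSectionVars false

namespace CfsgLib.Trans3.FiLarge.U6

open Matrix CfsgLib.Chev.U43U6 CfsgLib.Trans3.FiLarge CfsgLib.Trans3.FischerType.PairCode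
open scoped commutatorElement

variable {G : Type*} [Group G] {z : G} {Q : Subgroup (Subgroup.centralizer ({z} : Set G))}

namespace Ctx

variable (X : Ctx z Q) [Finite G] [Q.Normal]

theorem a_A : X.a ∈ X.A := X.tin_gens.1.1.1

theorem b_A : X.b ∈ X.A := X.tin_gens.2.1.1.1

theorem a_sq : X.a * X.a = 1 := X.spine.sq X.a_A

theorem ab_comm : X.a * X.b = X.b * X.a := X.spine.comm X.a_A X.b_A

theorem a_E : X.a ∈ X.E := Subgroup.subset_closure (Or.inl rfl)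

theorem b_E : X.b ∈ X.E := Subgroup.subset_closure (Or.inr rfl)

theorem mem_T {x : G} : x ∈ Subgroup.zpowers X.a ↔ x = 1 ∨ x = X.a := by
  constructor
  · rintro ⟨n, rfl⟩
    show X.a ^ n = 1 ∨ X.a ^ n = X.a
    obtain ⟨k, rfl | rfl⟩ := Int.even_or_odd' n
    · exact Or.inl (by rw [_root_.zpow_mul, zpow_two, X.a_sq, _root_.one_zpow])
    · exact Or.inr (by rw [_root_.zpow_add, _root_.zpow_mul, zpow_two, X.a_sq, _root_.one_zpow, one_mul, zpow_one])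
  · rintro (rfl | rfl)
    exacts [one_mem _, Subgroup.mem_zpowers _]

theorem imgT_eq_iff {g h : X.CT} : X.imgT g = X.imgT h ↔ (h : G) = g ∨ (h : G) = g * X.a := by
  show (QuotientGroup.mk g : X.W) = QuotientGroup.mk h ↔ _
  rw [QuotientGroup.eq, Subgroup.mem_subgroupOf, X.mem_T, Subgroup.coe_mul, Subgroup.coe_inv]
  constructor
  · rintro (e | e)
    · exact Or.inl (inv_mul_eq_one.1 e).symm
    · exact Or.inr (inv_mul_eq_iff_eq_mul.1 e)
  · rintro (e | e) <;> rw [e]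
    exacts [Or.inl (inv_mul_cancel _), Or.inr (inv_mul_cancel_left _ _)]

theorem imgT_eq_one_iff {g : X.CT} : X.imgT g = 1 ↔ (g : G) = 1 ∨ (g : G) = X.a := by
  show (QuotientGroup.mk g : X.W) = 1 ↔ _
  rw [QuotientGroup.eq_one_iff, Subgroup.mem_subgroupOf, X.mem_T]

theorem imgT_mul (g h : X.CT) : X.imgT (g * h) = X.imgT g * X.imgT h := map_mul (QuotientGroup.mk' X.TC) g h

theorem imgT_inv (g : X.CT) : X.imgT g⁻¹ = (X.imgT g)⁻¹ := map_inv (QuotientGroup.mk' X.TC) g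

theorem imgT_conj (g h : X.CT) : X.imgT (g * h * g⁻¹) = X.imgT g * X.imgT h * (X.imgT g)⁻¹ := by
  rw [imgT_mul, imgT_mul, imgT_inv]

theorem imgT_surj (w : X.W) : ∃ g, X.imgT g = w := QuotientGroup.mk'_surjective _ w

theorem commute_imgT {g h : X.CT} :
    Commute (X.imgT g) (X.imgT h) ↔ (g : G) * h * (g : G)⁻¹ = h ∨ (g : G) * h * (g : G)⁻¹ = h * X.a := by
  have h1 : Commute (X.imgT g) (X.imgT h) ↔ X.imgT h = X.imgT (g * h * g⁻¹) := by
    rw [imgT_conj]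
    exact ⟨fun e => by rw [e.eq, mul_inv_cancel_right], fun e => mul_inv_eq_iff_eq_mul.1 e.symm⟩
  rw [h1, imgT_eq_iff]
  simp only [Subgroup.coe_mul, Subgroup.coe_inv]

theorem conj_b_lift {d : X.CT} (hd : (d : G) = X.b) {w : X.W} (hw : w ∈ conjugatesOf (X.imgT d)) :
    ∃ k g : X.CT, X.imgT g = w ∧ (g : G) = (k : G) * X.b * (k : G)⁻¹ := by
  obtain ⟨c, hc⟩ := isConj_iff.1 (show IsConj (X.imgT d) w from hw)
  obtain ⟨k, rfl⟩ := X.imgT_surj c
  exact ⟨k, k * d * k⁻¹, by rw [imgT_conj, hc], by simp [hd]⟩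

theorem comm_a {g : G} (hg : g ∈ X.CT) : g * X.a = X.a * g := Subgroup.mem_centralizer_singleton_iff.1 hg

theorem CE_le : X.CE ≤ X.CT := fun _ hg =>
  Subgroup.mem_centralizer_singleton_iff.2 ((Subgroup.mem_centralizer_iff.1 hg) _ X.a_E).symm

theorem mem_CE_iff {g : G} : g ∈ X.CE ↔ g ∈ X.CT ∧ g * X.b = X.b * g := by
  refine ⟨fun h => ⟨X.CE_le h, ((Subgroup.mem_centralizer_iff.1 h) _ X.b_E).symm⟩, fun h => ?_⟩
  rw [Ctx.CE, Ctx.E, Subgroup.centralizer_closure, Subgroup.mem_centralizer_iff]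
  rintro x (rfl | rfl)
  exacts [(X.comm_a h.1).symm, h.2.symm]

theorem A_le_CT {x : G} (hx : x ∈ X.A) : x ∈ X.CT := X.CE_le (X.A_le_CE hx)

/-- The centraliser of the four-group in the quotient. -/
noncomputable def inT : X.CE →* X.W := (QuotientGroup.mk' X.TC).comp (Subgroup.inclusion X.CE_le)

theorem inT_apply (g : X.CE) : X.inT g = X.imgT ⟨g, X.CE_le g.2⟩ := rfl

theorem inT_eq_one_iff {g : X.CE} : X.inT g = 1 ↔ (g : G) = 1 ∨ (g : G) = X.a := X.imgT_eq_one_iff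

theorem mem_range_inT {g : X.CT} : X.imgT g ∈ X.inT.range ↔ (g : G) ∈ X.CE := by
  constructor
  · rintro ⟨h, e⟩
    rw [inT_apply, imgT_eq_iff] at e
    rcases e with e | e <;> rw [e]
    exacts [h.2, mul_mem h.2 (X.A_le_CE X.a_A)]
  · exact fun h => ⟨⟨g, h⟩, rfl⟩

/-- A labelled element meeting `a` in one point. -/
theorem member_conj {L : Lab z X.A} (W : X.Triangle L) {s : G} (hs : s ∈ tcls z X.A)
    (hsa : s * X.a ∈ tcls z X.A) :
    ∃ j, j ≠ W.p ∧ j ≠ W.q ∧ (s = L.π W.p j ∨ s = L.π W.p j * X.a) ∧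
      ∃ m ∈ X.CT, m * X.b * m⁻¹ = L.π W.p j := by
  have key : ∀ j, j ≠ W.p → j ≠ W.q → ∃ m ∈ X.CT, m * X.b * m⁻¹ = L.π W.p j := by
    intro j h1 h2
    obtain ⟨m, -, e1, e2⟩ := L.move3 W.p W.q W.r W.p W.q j W.pq W.pr W.qr W.pq h1.symm h2.symm
    refine ⟨m, Subgroup.mem_centralizer_singleton_iff.2 ?_, by rw [← W.eq_b, e2]⟩
    rw [← W.eq_a]
    exact mul_inv_eq_iff_eq_mul.1 e1
  obtain ⟨i, j, hij, rfl⟩ := L.surj s hs
  rw [← W.eq_a] at hsa
  have hq : ∀ k, L.π W.q k = L.π W.p k * X.a := fun k => by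
    rw [← W.eq_a, comm_lab W.p k W.p W.q, L.tri]
  rcases L.share hij W.pq hsa with ⟨e, h⟩ | ⟨e, h⟩ | ⟨e, h⟩ | ⟨e, h⟩ <;> subst e
  · exact ⟨j, hij.symm, h, Or.inl rfl, key j hij.symm h⟩
  · exact ⟨j, h, hij.symm, Or.inr (hq j), key j h hij.symm⟩
  · exact ⟨i, hij, h, Or.inl (L.symm _ _), key i hij h⟩
  · exact ⟨i, h, hij, Or.inr ((L.symm _ _).trans (hq i)), key i h hij⟩

end Ctx

end CfsgLib.Trans3.FiLarge.U6
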