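import Cfsg.Agent.Lib.Trans3.FiLarge.U6.OutBase
import Cfsg.Agent.Lib.Classical.UnitaryGen
import Mathlib.GroupTheory.Perm.Cycle.Type

/-!
The conjugates of the second generator commuting with it, in the quotient of the centraliser of a small
involution: they lie in the centraliser of the four-group and map onto the class of 693 members.
-/

set_option autoImplicit false
set_option linter.unusedSectionVars false

namespace CfsgLib.Trans3.FiLarge.U6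

open Matrix CfsgLib.Chev.U43U6 CfsgLib.Trans3.FiLarge CfsgLib.Trans3.FischerType.PairCode
open CfsgLib.Trans3.Fi CfsgLib.InvChar.Fi22W
open CfsgLib.Invol (invol_of_mul_self invol_mul_self)
open scoped commutatorElement

variable {G : Type*} [Group G] {z : G} {Q : Subgroup (Subgroup.centralizer ({z} : Set G))}

namespace Ctx

variable (X : Ctx z Q) [Finite G] [Q.Normal]

theorem b_ne : X.b ≠ X.a := fun h => X.tin_gens.2.2.1.2.1 (by rw [h, X.a_sq])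

theorem E_cases {e : G} (he : e ∈ X.E) : e = 1 ∨ e = X.a ∨ e = X.b ∨ e = X.b * X.a := by
  obtain ⟨L⟩ := X.spine.edgeData.exists_lab
  obtain ⟨W⟩ := X.exists_triangle L
  have h3 : L.π W.q W.r = X.b * X.a := by rw [← W.eq_a, ← W.eq_b, comm_lab W.p W.r W.p W.q, L.tri]
  rcases (mem_E_iff W).1 he with h | h | h | h
  · exact Or.inl h
  · exact Or.inr (Or.inl (h.trans W.eq_a))
  · exact Or.inr (Or.inr (Or.inl (h.trans W.eq_b)))
  · exact Or.inr (Or.inr (Or.inr (h.trans h3)))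

theorem ba_E : X.b * X.a ∈ X.E := mul_mem X.b_E X.a_E

theorem not_conj_E {e : G} (he : e ∈ X.E) : ¬ IsConj z e := by
  obtain ⟨L⟩ := X.spine.edgeData.exists_lab
  obtain ⟨W⟩ := X.exists_triangle L
  exact E_not_conj W he

theorem unique_z {h e : G} (h1 : X.zc h = 1) (hz : IsConj z h) (he : e ∈ X.E) (hze : IsConj z (h * e)) :
    e = 1 := by
  obtain ⟨u, hu⟩ := Set.ncard_eq_one.1 (show {e : G | e ∈ X.E ∧ IsConj z (h * e)}.ncard = 1 from h1)
  have m1 : (1 : G) ∈ {e : G | e ∈ X.E ∧ IsConj z (h * e)} := ⟨one_mem _, by rwa [mul_one]⟩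
  have m2 : e ∈ {e : G | e ∈ X.E ∧ IsConj z (h * e)} := ⟨he, hze⟩
  rw [hu, Set.mem_singleton_iff] at m1 m2
  rw [m2, m1]

include X in
theorem sq_of_conj {h : G} (hz : IsConj z h) : h * h = 1 := by
  obtain ⟨g, rfl⟩ := isConj_iff.1 hz
  rw [show g * z * g⁻¹ * (g * z * g⁻¹) = g * (z * z) * g⁻¹ by group, X.spine.zz, mul_one, mul_inv_cancel]

/-- The lift of a member. -/
def Mem (g : G) : Prop := g ∈ X.CE ∧ g ∉ X.E ∧ ∃ k ∈ X.CT, g = k * X.b * k⁻¹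

theorem Mem.not_conj {g : G} (hg : X.Mem g) :
    g ≠ 1 ∧ ¬ IsConj z g ∧ g * X.a ≠ 1 ∧ ¬ IsConj z (g * X.a) := by
  obtain ⟨-, hgE, k, hk, rfl⟩ := hg
  have hka : k * (X.b * X.a) * k⁻¹ = k * X.b * k⁻¹ * X.a := by
    rw [show k * (X.b * X.a) * k⁻¹ = k * X.b * (X.a * k⁻¹) by group, ← X.comm_a (inv_mem hk)]
    group
  refine ⟨fun h => hgE (h ▸ one_mem _), fun h => X.not_conj_E X.b_E
    (h.trans (isConj_iff.2 ⟨k, rfl⟩).symm), fun h => hgE ?_, fun h => ?_⟩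
  · rw [eq_inv_of_mul_eq_one_left h]; exact inv_mem X.a_E
  · rw [← hka] at h
    exact X.not_conj_E X.ba_E (h.trans (isConj_iff.2 ⟨k, rfl⟩).symm)

variable (hA : X.AFacts) (hC : X.CentFacts) (hF : X.FixFacts)
include hA hC hF

theorem exists_conj_A {h : G} (hh : h ∈ X.CE) (h2 : h * h ∈ X.E) (h1 : h ∉ X.E) :
    ∃ l ∈ X.CE, l * h * l⁻¹ ∈ X.A := by
  obtain ⟨P, col, p, L⟩ := hC.local_data
  set zY := X.img ⟨z, X.A_le hA (X.z_A hA)⟩
  have hz : zY ∈ X.D := ⟨_, rfl, IsConj.refl _⟩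
  set y := X.img ⟨h, hh⟩
  have hy2 : y * y = 1 := by
    show QuotientGroup.mk' X.EC _ * QuotientGroup.mk' X.EC _ = 1
    rw [← map_mul]
    exact (QuotientGroup.eq_one_iff _).2 h2
  have hy1 : y ≠ 1 := fun e => h1 ((QuotientGroup.eq_one_iff (⟨h, hh⟩ : X.CE)).1 e)
  obtain ⟨d, hd, hyd⟩ := L.exists_fixed hz hy2 (by rw [X.closure_comp hA hC hF]; exact Subgroup.mem_top _)
  obtain ⟨k, -, e⟩ := L.transitive hz hd (mem_comp_self zY)
  have hc : Commute (k * y * k⁻¹) zY := by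
    have := hyd.map (MulAut.conj k).toMonoidHom
    simpa [e] using this
  obtain ⟨l, -, x, hxA, ex⟩ := hC.cover ⟨z, X.A_le hA (X.z_A hA)⟩ rfl (k * y * k⁻¹)
    (by rw [CfsgLib.Invol.orderOf_conj_eq]; exact invol_of_mul_self hy2 hy1) hc
  obtain ⟨K, hK⟩ := QuotientGroup.mk'_surjective X.EC (l * k)
  have e2 : X.img x = X.img (K * ⟨h, hh⟩ * K⁻¹) := by
    rw [ex]
    show l * (k * y * k⁻¹) * l⁻¹ = QuotientGroup.mk' X.EC (K * ⟨h, hh⟩ * K⁻¹)
    rw [map_mul, map_mul, map_inv, hK]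
    show _ = l * k * y * (l * k)⁻¹
    group
  refine ⟨K, K.2, ?_⟩
  have hE := (X.img_eq_iff).1 e2
  have := mul_mem hxA (hA.E_le hE)
  simpa using this

theorem conj_of_zc_one {h : G} (hh : h ∈ X.CE) (hz : IsConj z h) (h1 : X.zc h = 1) :
    ∃ l ∈ X.CE, h = l * z * l⁻¹ := by
  obtain ⟨l, hl, hlA⟩ := X.exists_conj_A hA hC hF hh (by rw [X.sq_of_conj hz]; exact one_mem _)
    fun h' => X.not_conj_E h' hz
  have hx1 : X.zc (l * h * l⁻¹) = 1 := by rw [X.zc_conj hl, h1]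
  obtain ⟨n, hn, -, he⟩ := hA.one_trans z (X.z_A hA) (X.zc_z hA) _ hlA hx1
  have hn1 : X.zc (n * z * n⁻¹) = 1 := by rw [X.zc_conj hn, X.zc_z hA]
  have heq : (n * z * n⁻¹)⁻¹ * (l * h * l⁻¹) = 1 := X.unique_z hn1 (isConj_iff.2 ⟨n, rfl⟩) he
    (by rw [mul_inv_cancel_left]; exact hz.trans (isConj_iff.2 ⟨l, rfl⟩))
  refine ⟨l⁻¹ * n, mul_mem (inv_mem hl) hn, ?_⟩
  rw [inv_mul_eq_one] at heq
  rw [show l⁻¹ * n * z * (l⁻¹ * n)⁻¹ = l⁻¹ * (n * z * n⁻¹) * l by group, heq]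
  group

theorem img_mem_D {h : X.CE} (hz : IsConj z (h : G)) (h1 : X.zc h = 1) : X.img h ∈ X.D := by
  obtain ⟨l, hl, e⟩ := X.conj_of_zc_one hA hC hF h.2 hz h1
  refine ⟨⟨z, X.A_le hA (X.z_A hA)⟩, rfl, isConj_iff.2 ⟨X.img ⟨l, hl⟩, ?_⟩⟩
  show QuotientGroup.mk' X.EC _ * QuotientGroup.mk' X.EC _ * (QuotientGroup.mk' X.EC _)⁻¹ =
    QuotientGroup.mk' X.EC h
  rw [← map_inv, ← map_mul, ← map_mul]
  exact congrArg (QuotientGroup.mk' X.EC) (Subtype.ext e.symm)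

theorem comp_eq_D : comp X.D (X.img ⟨z, X.A_le hA (X.z_A hA)⟩) = X.D := by
  obtain ⟨P, col, p, L⟩ := hC.local_data
  have hz : X.img ⟨z, X.A_le hA (X.z_A hA)⟩ ∈ X.D := ⟨_, rfl, IsConj.refl _⟩
  refine Set.Subset.antisymm (fun y hy => comp_sub hz hy) fun y hy => ?_
  obtain ⟨d, hd, hyd⟩ := L.exists_fixed hz (invol_mul_self (L.invol y hy))
    (by rw [X.closure_comp hA hC hF]; exact Subgroup.mem_top _)
  exact L.comp_of_commute hz hd hy hyd.symm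

theorem exists_fixed_z {g : G} (hg : g ∈ X.CT) (hg2 : g * g = 1) (hgb : g * X.b * g⁻¹ = X.b * X.a) :
    ∃ l ∈ X.CE, g * (l * z * l⁻¹) * g⁻¹ = l * z * l⁻¹ := by
  classical
  obtain ⟨P, col, p, L⟩ := hC.local_data
  set zc0 : X.CE := ⟨z, X.A_le hA (X.z_A hA)⟩ with hzc0
  have hz : X.img zc0 ∈ X.D := ⟨_, rfl, IsConj.refl _⟩
  set S : Set G := {h | h ∈ X.CE ∧ IsConj z h ∧ X.zc h = 1} with hS
  have hcard : S.ncard = 693 := by
    rw [← L.card_comp hz, X.comp_eq_D hA hC hF]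
    refine Set.ncard_congr (fun h hh => X.img ⟨h, hh.1⟩) (fun h hh => X.img_mem_D hA hC hF hh.2.1 hh.2.2)
      (fun h h' hh hh' e => ?_) fun y hy => ?_
    · have he := (X.img_eq_iff).1 e
      have := X.unique_z hh.2.2 hh.2.1 he (by rw [mul_inv_cancel_left]; exact hh'.2.1)
      exact inv_mul_eq_one.1 this
    · obtain ⟨g₀, hg₀, hc⟩ := hy
      obtain ⟨w, hw⟩ := isConj_iff.1 hc
      obtain ⟨w, rfl⟩ := QuotientGroup.mk'_surjective X.EC w
      refine ⟨((w * g₀ * w⁻¹ : X.CE) : G), ⟨(w * g₀ * w⁻¹).2, isConj_iff.2 ⟨w, ?_⟩, ?_⟩, ?_⟩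
      · simp [hg₀]
      · rw [Subgroup.coe_mul, Subgroup.coe_mul, Subgroup.coe_inv, X.zc_conj w.2, hg₀, X.zc_z hA]
      · rw [← hw]
        show QuotientGroup.mk' X.EC _ = _
        rw [Subtype.coe_eta, map_mul, map_mul, map_inv]
        rfl
  have hga : g * X.a * g⁻¹ = X.a := mul_inv_eq_iff_eq_mul.2 (X.comm_a hg)
  have hgi : g⁻¹ = g := inv_eq_of_mul_eq_one_right hg2
  have hE : ∀ e ∈ X.E, g * e * g⁻¹ ∈ X.E := by
    intro e he
    have hle : X.E ≤ X.E.comap (MulAut.conj g).toMonoidHom := (Subgroup.closure_le _).2 (by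
      rintro x (rfl | rfl)
      · show g * X.a * g⁻¹ ∈ X.E; rw [hga]; exact X.a_E
      · show g * X.b * g⁻¹ ∈ X.E; rw [hgb]; exact X.ba_E)
    exact hle he
  have hmap : ∀ h ∈ S, g * h * g⁻¹ ∈ S := by
    rintro h ⟨hh, hhz, hh1⟩
    refine ⟨?_, hhz.trans (isConj_iff.2 ⟨g, rfl⟩), ?_⟩
    · rw [Subgroup.mem_centralizer_iff]
      intro e he
      have c := (Subgroup.mem_centralizer_iff.1 hh) _ (hE e he)
      rw [hgi] at c ⊢
      calc e * (g * h * g) = g * (g * e * g * h) * g := by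
            simp only [← mul_assoc, hg2, one_mul]
        _ = g * (h * (g * e * g)) * g := by rw [c]
        _ = g * h * g * e := by simp only [mul_assoc, hg2, mul_one]
    · rw [Ctx.zc, ← hh1, Ctx.zc, ← Set.ncard_image_of_injective _ (MulAut.conj g).injective]
      congr 1
      ext e
      constructor
      · rintro ⟨u, ⟨hu, huz⟩, rfl⟩
        refine ⟨hE u hu, ?_⟩
        have h1 : g * (g * h * g⁻¹ * u) * g⁻¹ = h * (g * u * g⁻¹) := by
          rw [hgi]; simp only [mul_assoc, hg2, mul_one]; rw [← mul_assoc g g, hg2, one_mul]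
        show IsConj z (h * (g * u * g⁻¹))
        exact h1 ▸ huz.trans (isConj_iff.2 ⟨g, rfl⟩)
      · rintro ⟨he, hez⟩
        refine ⟨g * e * g⁻¹, ⟨hE e he, ?_⟩, ?_⟩
        · rw [show g * h * g⁻¹ * (g * e * g⁻¹) = g * (h * e) * g⁻¹ by group]
          exact hez.trans (isConj_iff.2 ⟨g, rfl⟩)
        · show g * (g * e * g⁻¹) * g⁻¹ = e
          rw [hgi, ← mul_assoc, ← mul_assoc, hg2, one_mul, mul_assoc, hg2, mul_one]
  haveI := Fintype.ofFinite S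
  haveI : Fact (Nat.Prime 2) := ⟨Nat.prime_two⟩
  let σ : Equiv.Perm S := Function.Involutive.toPerm (fun h => ⟨g * h.1 * g⁻¹, hmap _ h.2⟩)
    fun h => Subtype.ext (show g * (g * h.1 * g⁻¹) * g⁻¹ = h.1 by
      rw [hgi, ← mul_assoc, ← mul_assoc, hg2, one_mul, mul_assoc, hg2, mul_one])
  have hσ : σ ^ 2 ^ 1 = 1 := Equiv.ext fun h => by
    rw [pow_one, pow_two]
    exact (Function.Involutive.toPerm_involutive _) h
  have hodd : ¬ 2 ∣ Fintype.card S := by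
    rw [← Nat.card_eq_fintype_card, Nat.card_coe_set_eq, hcard]; decide
  obtain ⟨⟨h, hh⟩, hfix⟩ := Equiv.Perm.exists_fixed_point_of_prime hodd hσ
  obtain ⟨l, hl, rfl⟩ := X.conj_of_zc_one hA hC hF hh.1 hh.2.1 hh.2.2
  exact ⟨l, hl, congrArg Subtype.val hfix⟩

/-- A conjugate of `b` never exchanges `b` and `b * a`. -/
theorem no_exchange {k : G} (hk : k ∈ X.CT)
    (hb : k * X.b * k⁻¹ * X.b * (k * X.b * k⁻¹)⁻¹ = X.b * X.a) : False := by
  set g := k * X.b * k⁻¹ with hgdef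
  have hgT : g ∈ X.CT := mul_mem (mul_mem hk (X.A_le_CT X.b_A)) (inv_mem hk)
  have hg2 : g * g = 1 := by
    rw [hgdef, show k * X.b * k⁻¹ * (k * X.b * k⁻¹) = k * (X.b * X.b) * k⁻¹ by group, X.spine.sq X.b_A,
      mul_one, mul_inv_cancel]
  obtain ⟨l, hl, hfix⟩ := X.exists_fixed_z hA hC hF hgT hg2 hb
  set k' := l⁻¹ * k
  set g' := k' * X.b * k'⁻¹ with hg'def
  have hk' : k' ∈ X.CT := mul_mem (inv_mem (X.CE_le hl)) hk
  have hg'e : g' = l⁻¹ * g * l := by simp only [g', k', hgdef]; group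
  have hg'z : g' * z = z * g' := by
    rw [hg'e]
    calc l⁻¹ * g * l * z = l⁻¹ * (g * (l * z * l⁻¹) * g⁻¹) * g * l := by group
      _ = z * (l⁻¹ * g * l) := by rw [hfix]; group
  have hlb : ∀ e ∈ X.E, l * e = e * l := fun e he => ((Subgroup.mem_centralizer_iff.1 hl) e he).symm
  have hg'b : g' * X.b * g'⁻¹ = X.b * X.a := by
    rw [hg'e, show l⁻¹ * g * l * X.b * (l⁻¹ * g * l)⁻¹ = l⁻¹ * g * (l * X.b * l⁻¹) * g⁻¹ * l by group,
      mul_inv_eq_iff_eq_mul.2 (hlb _ X.b_E), show l⁻¹ * g * X.b * g⁻¹ * l = l⁻¹ * (g * X.b * g⁻¹) * l by group,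
      hb, mul_assoc, ← hlb _ X.ba_E, inv_mul_cancel_left]
  -- `z` seen from the conjugate lies in `C(E)`
  set y := k'⁻¹ * z * k' with hydef
  have hyz : IsConj z y := isConj_iff.2 ⟨k'⁻¹, by rw [hydef, inv_inv]⟩
  have hyE : y ∈ X.CE := X.mem_CE_iff.2 ⟨mul_mem (mul_mem (inv_mem hk') (X.A_le_CT (X.z_A hA))) hk', by
    calc k'⁻¹ * z * k' * X.b = k'⁻¹ * (z * g') * k' := by simp only [g']; group
      _ = X.b * (k'⁻¹ * z * k') := by rw [← hg'z]; simp only [g']; group⟩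
  obtain ⟨l₂, hl₂, hxA⟩ := X.exists_conj_A hA hC hF hyE (by rw [X.sq_of_conj hyz]; exact one_mem _)
    fun h' => X.not_conj_E h' hyz
  obtain ⟨n, hn, hnz⟩ := X.exists_conj ⟨hxA, hyz.trans (isConj_iff.2 ⟨l₂, rfl⟩)⟩
  set m := n⁻¹ * l₂ * k'⁻¹ with hmdef
  have hmz : m ∈ Subgroup.centralizer ({z} : Set G) := by
    refine Subgroup.mem_centralizer_singleton_iff.2 ?_
    calc n⁻¹ * l₂ * k'⁻¹ * z = n⁻¹ * (l₂ * y * l₂⁻¹) * l₂ * k'⁻¹ := by simp only [y]; group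
      _ = z * (n⁻¹ * l₂ * k'⁻¹) := by rw [← hnz]; group
  have hm : m * g' * m⁻¹ = n⁻¹ * X.b * n := by
    rw [hmdef, hg'def, show n⁻¹ * l₂ * k'⁻¹ * (k' * X.b * k'⁻¹) * (n⁻¹ * l₂ * k'⁻¹)⁻¹ =
      n⁻¹ * (l₂ * X.b * l₂⁻¹) * n by group,
      mul_inv_eq_iff_eq_mul.2 ((Subgroup.mem_centralizer_iff.1 hl₂) _ X.b_E).symm]
  have hmA : n⁻¹ * X.b * n ∈ X.A := by
    simpa using X.spine.localData.conj_mem (inv_mem hn) X.b_A
  obtain ⟨j, hj⟩ := X.spine.mem_M _ hmA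
  haveI : X.c.M.Normal := Subgroup.normal_of_index_eq_two X.c.index_M
  set mH : Subgroup.centralizer ({z} : Set G) := ⟨m, hmz⟩
  have hM : mH⁻¹ * (j : Subgroup.centralizer ({z} : Set G)) * mH ∈ X.c.M := by
    simpa using Subgroup.Normal.conj_mem inferInstance (j : Subgroup.centralizer ({z} : Set G)) j.2 mH⁻¹
  set i : X.c.M := ⟨_, hM⟩
  have hi : ((i : Subgroup.centralizer ({z} : Set G)) : G) = g' := by
    show m⁻¹ * ((j : Subgroup.centralizer ({z} : Set G)) : G) * m = g'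
    rw [hj, ← hm]; group
  obtain ⟨-, hpb⟩ := conj_prG X.c (m := i) X.b_mem
  obtain ⟨-, hpa⟩ := conj_prG X.c (m := i) X.a_mem
  rw [hi, hg'b, prG_mul X.c X.b_mem X.a_mem, X.b_eq] at hpb
  rw [hi, mul_inv_eq_iff_eq_mul.2 (X.comm_a (mul_mem (mul_mem hk' (X.A_le_CT X.b_A)) (inv_mem hk')))] at hpa
  rw [Matrix.mulVec_smul, ← hpa, add_eq_left] at hpb
  exact (isotropic_of_orbit (Or.inl X.a_small)).1 hpb

/-- The commuting conjugates lift to `C(E)`. -/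
theorem lift_CE {d : X.CT} (hd : (d : G) = X.b) {w : X.W} (hw : w ∈ conjugatesOf (X.imgT d))
    (hc : Commute w (X.imgT d)) :
    ∃ g : X.CE, X.inT g = w ∧ ∃ k ∈ X.CT, (g : G) = k * X.b * k⁻¹ := by
  obtain ⟨k, g, rfl, hg⟩ := X.conj_b_lift hd hw
  rcases (X.commute_imgT).1 hc with e | e <;> rw [hd, hg] at e
  · exact ⟨⟨g, X.mem_CE_iff.2 ⟨g.2, by rw [hg]; exact mul_inv_eq_iff_eq_mul.1 e⟩⟩, rfl, k, k.2, hg⟩
  · exact (X.no_exchange hA hC hF k.2 e).elim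

theorem mem_D {g : X.CE} (hg : X.Mem g) : X.img g ∈ X.D ∧ X.zc g = 1 := by
  obtain ⟨L⟩ := X.spine.edgeData.exists_lab
  obtain ⟨W⟩ := X.exists_triangle L
  obtain ⟨h1, h2, h3, h4⟩ := hg.not_conj
  have hsq : (g : G) * g = 1 := by
    obtain ⟨k, -, e⟩ := hg.2.2
    rw [e, show k * X.b * k⁻¹ * (k * X.b * k⁻¹) = k * (X.b * X.b) * k⁻¹ by group, X.spine.sq X.b_A, mul_one,
      mul_inv_cancel]
  obtain ⟨l, hl, hlA⟩ := X.exists_conj_A hA hC hF g.2 (by rw [hsq]; exact one_mem _) hg.2.1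
  set s := l * (g : G) * l⁻¹ with hsdef
  have hsa : s * X.a = l * ((g : G) * X.a) * l⁻¹ := by
    rw [hsdef, show l * ((g : G) * X.a) * l⁻¹ = l * g * (X.a * l⁻¹) by group,
      ← X.comm_a (inv_mem (X.CE_le hl))]
    group
  obtain ⟨j, jp, jq, hs, -⟩ := X.member_conj W (s := s)
    ⟨hlA, fun e => h1 (conj_eq_one_iff.1 e), fun e => h2 (e.trans (isConj_iff.2 ⟨l, rfl⟩).symm)⟩
    ⟨mul_mem hlA X.a_A, fun e => h3 (conj_eq_one_iff.1 (hsa ▸ e)),
      fun e => h4 ((hsa ▸ e).trans (isConj_iff.2 ⟨l, rfl⟩).symm)⟩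
  have hsE : s ∉ X.E := fun e => hg.2.1 (by
    have c : l⁻¹ * s = s * l⁻¹ := ((Subgroup.mem_centralizer_iff.1 (inv_mem hl)) _ e).symm
    have : (g : G) = s := by
      calc (g : G) = l⁻¹ * s * l := by rw [hsdef]; group
        _ = s := by rw [c, inv_mul_cancel_right]
    rwa [this])
  have jr : j ≠ W.r := by
    rintro rfl
    rw [W.eq_b] at hs
    rcases hs with e | e <;> exact hsE (e ▸ by first | exact X.b_E | exact X.ba_E)
  have hout : Out W j := by simp [Out, jp, jq, jr]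
  have hs1 : X.zc s = 1 := by
    rcases hs with e | e <;> rw [e]
    · exact zc_point W hout
    · rw [zc_shift _ X.a_E]; exact zc_point W hout
  have hg1 : X.zc (g : G) = 1 := by rw [← hs1, hsdef, X.zc_conj hl]
  refine ⟨?_, hg1⟩
  obtain ⟨u, hu⟩ := Set.ncard_eq_one.1 (show {e : G | e ∈ X.E ∧ IsConj z ((g : G) * e)}.ncard = 1 from hg1)
  obtain ⟨huE, huz⟩ : u ∈ {e : G | e ∈ X.E ∧ IsConj z ((g : G) * e)} := hu ▸ rfl
  have hu' : u ∈ X.CE := X.A_le_CE (hA.E_le huE)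
  have e : X.img g = X.img (g * ⟨u, hu'⟩) := (X.img_eq_iff).2 (by simpa using huE)
  rw [e]
  exact X.img_mem_D hA hC hF (h := g * ⟨u, hu'⟩) huz (by rw [Subgroup.coe_mul, zc_shift _ huE]; exact hg1)

theorem exists_mem {y : X.Y} (hy : y ∈ X.D) : ∃ g : X.CE, X.Mem g ∧ X.img g = y := by
  obtain ⟨L⟩ := X.spine.edgeData.exists_lab
  obtain ⟨W⟩ := X.exists_triangle L
  obtain ⟨g₀, hg₀, hc⟩ := hy
  obtain ⟨w, rfl⟩ := isConj_iff.1 hc
  obtain ⟨l, rfl⟩ := QuotientGroup.mk'_surjective X.EC w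
  obtain ⟨e, he, j, hj, hze⟩ := of_zc_one W (X.z_A hA) (X.zc_z hA)
  obtain ⟨jp, jq, jr⟩ := out_ne W hj
  obtain ⟨m, -, e1, e2⟩ := L.move3 W.p W.q W.r W.p W.q j W.pq W.pr W.qr W.pq jp.symm jq.symm
  rw [W.eq_a] at e1
  rw [W.eq_b] at e2
  have hmT : m ∈ X.CT := Subgroup.mem_centralizer_singleton_iff.2 (mul_inv_eq_iff_eq_mul.1 e1)
  have he' : e ∈ X.CE := X.A_le_CE (hA.E_le he)
  refine ⟨l * (g₀ * ⟨e, he'⟩) * l⁻¹, ⟨(l * (g₀ * ⟨e, he'⟩) * l⁻¹).2, fun h => ?_, (l : G) * m,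
    mul_mem (X.CE_le l.2) hmT, ?_⟩, ?_⟩
  · simp only [Subgroup.coe_mul, Subgroup.coe_inv, hg₀, hze] at h
    have hz1 : X.zc ((l : G) * L.π W.p j * (l : G)⁻¹) = 1 := by rw [X.zc_conj l.2, zc_point W hj]
    rw [zc_of_E W h] at hz1
    omega
  · simp only [Subgroup.coe_mul, Subgroup.coe_inv, hg₀, hze, ← e2]
    group
  · show QuotientGroup.mk' X.EC _ = _
    rw [map_mul, map_mul, map_mul, map_inv,
      show QuotientGroup.mk' X.EC ⟨e, he'⟩ = 1 from (QuotientGroup.eq_one_iff _).2 he, mul_one]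
    rfl

theorem mem_inj {g g' : X.CE} (hg : X.Mem g) (hg' : X.Mem g') (h : X.img g = X.img g') :
    X.inT g = X.inT g' := by
  have he := (X.img_eq_iff).1 h
  obtain ⟨e, heq⟩ : ∃ e, e = (g : G)⁻¹ * g' := ⟨_, rfl⟩
  have hge : (g' : G) = g * e := by rw [heq, mul_inv_cancel_left]
  rw [← heq] at he
  rw [inT_apply, inT_apply, imgT_eq_iff]
  show (g' : G) = g ∨ (g' : G) = g * X.a
  obtain ⟨-, h2, -, h4⟩ := hg.not_conj
  obtain ⟨-, h2', -, h4'⟩ := hg'.not_conj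
  rw [hge] at h2' h4'
  rcases X.E_cases he with rfl | rfl | rfl | rfl
  · exact Or.inl (by rw [hge, mul_one])
  · exact Or.inr hge
  all_goals
    exfalso
    have h1 := (X.mem_D hA hC hF hg).2
    obtain ⟨u, hu⟩ := Set.ncard_eq_one.1 (show {e : G | e ∈ X.E ∧ IsConj z ((g : G) * e)}.ncard = 1 from h1)
    obtain ⟨huE, huz⟩ : u ∈ {e : G | e ∈ X.E ∧ IsConj z ((g : G) * e)} := hu ▸ rfl
    rw [mul_assoc] at h4'
    rcases X.E_cases huE with rfl | rfl | rfl | rfl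
    · exact h2 (by rwa [mul_one] at huz)
    · exact h4 huz
  · exact h2' huz
  · exact h4' huz
  · exact h4' (by rwa [mul_assoc X.b X.a X.a, X.a_sq, mul_one])
  · exact h2' huz

end Ctx

end CfsgLib.Trans3.FiLarge.U6
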