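import Cfsg.Agent.Lib.Trans3.FiLarge.U6.Setting
import Cfsg.Agent.Lib.InvChar.Fi22W.Axioms

/-!
The centraliser of a small involution `t` modulo `t`, with the image of the second generator of the four-group.
-/

set_option autoImplicit false
set_option linter.unusedSectionVars false

namespace CfsgLib.Trans3.FiLarge.U6

open CfsgLib.Chev.U43U6 CfsgLib.Trans3.FiLarge CfsgLib.Trans3.FischerType.PairCode
open CfsgLib.InvChar.Fi22W CfsgLib.Trans3.Fi

variable {G : Type*} [Group G] {z : G} {Q : Subgroup (Subgroup.centralizer ({z} : Set G))}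

namespace Ctx

variable (X : Ctx z Q)

/-- The centraliser of the first generator. -/
abbrev CT : Subgroup G := Subgroup.centralizer ({X.a} : Set G)

/-- The group generated by the first generator, inside its centraliser. -/
abbrev TC : Subgroup X.CT := (Subgroup.zpowers X.a).subgroupOf X.CT

instance TC_normal : X.TC.Normal := ⟨fun n hn g => by
  have hc : (g : G) * X.a = X.a * g := Subgroup.mem_centralizer_singleton_iff.1 g.2
  obtain ⟨k, hk⟩ := Subgroup.mem_zpowers_iff.1 (Subgroup.mem_subgroupOf.1 hn)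
  have e : g * n * g⁻¹ = n := Subtype.ext (by
    rw [Subgroup.coe_mul, Subgroup.coe_mul, Subgroup.coe_inv, ← hk]
    exact mul_inv_eq_iff_eq_mul.2 ((show Commute (g : G) X.a from hc).zpow_right k).eq)
  rwa [e]⟩

/-- The quotient. -/
abbrev W : Type _ := X.CT ⧸ X.TC

/-- The image of an element. -/
def imgT (g : X.CT) : X.W := QuotientGroup.mk' X.TC g

/-- The number of conjugates of `z` among the two elements over an element. -/
noncomputable def zt (g : G) : ℕ := {e : G | e ∈ Subgroup.zpowers X.a ∧ IsConj z (g * e)}.ncard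

/-- What holds in the quotient at the image `d` of the second generator. -/
structure OutFacts : Prop where
  cenW : ∀ d : X.CT, (d : G) = X.b → CenW (X.imgT d)
  no_outer : ∀ d : X.CT, (d : G) = X.b → ∀ w : X.W, w ∈ conjugatesOf (X.imgT d) → Commute w (X.imgT d) →
    w ∈ Hd (conjugatesOf (X.imgT d)) (X.imgT d)
  swap : ∀ d : X.CT, (d : G) = X.b → ∃ w : X.W, Commute w (X.imgT d) ∧ w ∉ Hd (conjugatesOf (X.imgT d)) (X.imgT d)
  index_le : ∀ d : X.CT, (d : G) = X.b → ∀ w w' : X.W, Commute w (X.imgT d) → Commute w' (X.imgT d) →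
    w ∉ Hd (conjugatesOf (X.imgT d)) (X.imgT d) → w' ∉ Hd (conjugatesOf (X.imgT d)) (X.imgT d) →
    w * w' ∈ Hd (conjugatesOf (X.imgT d)) (X.imgT d)
  /-- Every involution of the neighbourhood group is conjugate into `A`. -/
  cover : ∀ d : X.CT, (d : G) = X.b → ∀ i ∈ Hd (conjugatesOf (X.imgT d)) (X.imgT d), orderOf i = 2 →
    ∃ k ∈ Hd (conjugatesOf (X.imgT d)) (X.imgT d), ∃ x : X.CT, (x : G) ∈ X.A ∧ X.imgT x = k * i * k⁻¹
  /-- Elements centralising an involution of `A` move some member of `A` in the component into `A`. -/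
  fixA : ∀ x : X.CT, (x : G) ∈ X.A → X.imgT x ≠ 1 → ∀ g : X.W, Commute g (X.imgT x) →
    ∃ p : X.CT, (p : G) ∈ X.A ∧ (∃ d : X.CT, (d : G) = X.b ∧ X.imgT p ∈ conjugatesOf (X.imgT d)) ∧
      ∃ q : X.CT, (q : G) ∈ X.A ∧ g * X.imgT p * g⁻¹ = X.imgT q
  memA : ∀ d : X.CT, (d : G) = X.b → ∀ p : X.CT, (p : G) ∈ X.A → X.imgT p ∈ conjugatesOf (X.imgT d) →
    Relation.ReflTransGen (fun x y => y ∈ nbrs (conjugatesOf (X.imgT d)) x) (X.imgT d) (X.imgT p)

end Ctx

end CfsgLib.Trans3.FiLarge.U6
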