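import Cfsg.Agent.Lib.Trans3.FischerType.PairWiring
import Cfsg.Agent.Lib.Trans3.FiLarge.SmallStab.TwoCore
import Cfsg.Agent.Lib.Amalgam.SixMinusSylow
import Cfsg.Agent.Lib.Classical.SpSimple

/-!
The 45 points and 27 lines over an arbitrary small vector `u = g₀ v₀`.
-/

set_option autoImplicit false
set_option linter.unusedSectionVars false

namespace CfsgLib.Trans3.FiLarge.U6

open Matrix CfsgLib.Trans3.FiLarge
open CfsgLib.Chev.U43U6 hiding orth
open CfsgLib.Trans3.FiLarge.SmallStab (v0 pv ptv orth onLn lineOf pA pB Rel KS mat_mul mat_one)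

/-- Finite facts about the quadrangle. -/
theorem quad_facts :
    (∀ i : Fin 45, orth i i = true) ∧ (∀ i : Fin 45, ∃ l : Fin 27, onLn i l = true) ∧
    (∀ i j : Fin 45, orth i j = orth j i) := by
  refine ⟨by decide +kernel, by decide +kernel, by decide +kernel⟩

theorem span_check : ((List.range 4096).all fun c =>
    !Nat.beq (CfsgLib.Chev.U43U6.herm c 5) 0 || ((List.range 4).any fun a => Nat.beq c (sclV a 5)) ||
      (List.range 45).any fun k => !Nat.beq (CfsgLib.Chev.U43U6.herm c (ptv k)) 0) = true := by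
  decide +kernel

theorem mat_inv_cancel (g : GS F4) (x : V6) : mat g⁻¹ *ᵥ (mat g *ᵥ x) = x := by
  rw [mulVec_mulVec, ← mat_mul, inv_mul_cancel, mat_one, one_mulVec]

theorem mat_cancel_inv (g : GS F4) (x : V6) : mat g *ᵥ (mat g⁻¹ *ᵥ x) = x := by
  rw [mulVec_mulVec, ← mat_mul, mul_inv_cancel, mat_one, one_mulVec]

theorem mat_mulVec_mul (g h : GS F4) (x : V6) : mat (g * h) *ᵥ x = mat g *ᵥ (mat h *ᵥ x) := by
  rw [mat_mul, mulVec_mulVec]

theorem mat_inj (g : GS F4) {x y : V6} (h : mat g *ᵥ x = mat g *ᵥ y) : x = y := by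
  rw [← mat_inv_cancel g x, h, mat_inv_cancel]

theorem herm_mat6 (g : GS F4) (x y : V6) : herm6 (mat g *ᵥ x) (mat g *ᵥ y) = herm6 x y :=
  herm_mat g x y

theorem f4_pow_zero : ∀ a : F4, a ^ 2 = 0 ↔ a = 0 := by decide

theorem herm6_comm {x y : V6} : herm6 x y = 0 ↔ herm6 y x = 0 := by
  constructor <;> intro h <;>
    rw [← SmallStab.herm6_swap, h, zero_pow two_ne_zero]

variable (g0 : GS F4)

/-- The small vector. -/
noncomputable def uv : V6 := mat g0 *ᵥ v0

/-- The vector of a point. -/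
noncomputable def pt (k : Fin 45) : V6 := mat g0 *ᵥ pv k

/-- A vector lying over a point. -/
def PRel (x : V6) (k : Fin 45) : Prop := ∃ a c : F4, a ≠ 0 ∧ x = a • pt g0 k + c • uv g0

theorem prel_self (k : Fin 45) : PRel g0 (pt g0 k) k := ⟨1, 0, one_ne_zero, by simp⟩

theorem prel_iff {x : V6} {k : Fin 45} : PRel g0 x k ↔ Rel (mat g0⁻¹ *ᵥ x) k := by
  refine exists_congr fun a => exists_congr fun c => and_congr_right fun _ => ⟨fun h => ?_, fun h => ?_⟩
  · rw [h, mulVec_add, mulVec_smul, mulVec_smul, pt, uv, mat_inv_cancel, mat_inv_cancel]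
  · rw [← mat_cancel_inv g0 x, h, mulVec_add, mulVec_smul, mulVec_smul]; rfl

theorem uv_iso : herm6 (uv g0) (uv g0) = 0 := by rw [uv, herm_mat6, SmallStab.v0_iso]

theorem pt_u (k : Fin 45) : herm6 (pt g0 k) (uv g0) = 0 := by
  rw [pt, uv, herm_mat6, (SmallStab.pts_facts k).2.1]

theorem u_pt (k : Fin 45) : herm6 (uv g0) (pt g0 k) = 0 := herm6_comm.1 (pt_u g0 k)

theorem pt_iso (k : Fin 45) : herm6 (pt g0 k) (pt g0 k) = 0 := by
  rw [pt, herm_mat6, (SmallStab.pts_facts k).2.2.1]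

theorem pt_ne (k : Fin 45) (c : F4) : pt g0 k ≠ c • uv g0 := fun h =>
  (SmallStab.pts_facts k).2.2.2 c (mat_inj g0 (h.trans (mulVec_smul _ _ _).symm))

theorem pt_orth (i j : Fin 45) : herm6 (pt g0 i) (pt g0 j) = 0 ↔ orth i j = true := by
  rw [pt, pt, herm_mat6, pv, pv, SmallStab.herm6_dec]
  constructor
  · intro h
    have := dec_inj isOmega_om (herm_lt _ _) (b := 0) (by norm_num) (h.trans dec_zero.symm)
    rw [SmallStab.orth, this]; rfl
  · intro h; rw [Nat.eq_of_beq_eq_true h, dec_zero]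

theorem prel_u {x : V6} {k : Fin 45} (h : PRel g0 x k) : herm6 x (uv g0) = 0 := by
  obtain ⟨a, c, -, rfl⟩ := h
  rw [SmallStab.herm6_add_left, SmallStab.herm6_smul_left, SmallStab.herm6_smul_left, pt_u, uv_iso,
    mul_zero, mul_zero, add_zero]

theorem prel_orth {x y : V6} {i j : Fin 45} (hx : PRel g0 x i) (hy : PRel g0 y j) :
    herm6 x y = 0 ↔ orth i j = true := by
  obtain ⟨a, c, ha, rfl⟩ := hx
  obtain ⟨b, d, hb, rfl⟩ := hy
  rw [← pt_orth g0]
  simp only [SmallStab.herm6_add_left, SmallStab.herm6_add_right, SmallStab.herm6_smul_left,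
    SmallStab.herm6_smul_right, pt_u, u_pt, uv_iso, mul_zero, add_zero, mul_eq_zero, ha, f4_pow_zero, hb,
    false_or]

theorem prel_pt {x : V6} {i : Fin 45} (hx : PRel g0 x i) (j : Fin 45) :
    herm6 x (pt g0 j) = 0 ↔ orth i j = true := prel_orth g0 hx (prel_self g0 j)

theorem prel_unique {x : V6} {i j : Fin 45} (hi : PRel g0 x i) (hj : PRel g0 x j) : i = j :=
  SmallStab.rel_unique ((prel_iff g0).1 hi) ((prel_iff g0).1 hj)

theorem prel_exists {x : V6} (h0 : herm6 x (uv g0) = 0) (h1 : herm6 x x = 0)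
    (h2 : ∀ c : F4, x ≠ c • uv g0) : ∃ k, PRel g0 x k := by
  have e : x = mat g0 *ᵥ (mat g0⁻¹ *ᵥ x) := (mat_cancel_inv g0 x).symm
  obtain ⟨k, hk⟩ := SmallStab.rel_exists (x := mat g0⁻¹ *ᵥ x)
    (by rw [e, uv, herm_mat6] at h0; exact h0)
    (by rw [e, herm_mat6] at h1; exact h1)
    (fun c h => h2 c (by rw [e, h, mulVec_smul]; rfl))
  exact ⟨k, (prel_iff g0).2 hk⟩

theorem prel_smul {x : V6} {k : Fin 45} (h : PRel g0 x k) {a : F4} (ha : a ≠ 0) (c : F4) :
    PRel g0 (a • x + c • uv g0) k := by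
  obtain ⟨b, d, hb, rfl⟩ := h
  exact ⟨a * b, a * d + c, mul_ne_zero ha hb, by module⟩

/-- A vector orthogonal to `u` and to all points is a multiple of `u`. -/
theorem eq_smul_of_orth {x : V6} (h0 : herm6 x (uv g0) = 0) (h : ∀ k, herm6 x (pt g0 k) = 0) :
    ∃ c : F4, x = c • uv g0 := by
  obtain ⟨n, hn, hx⟩ := vdec_surj isOmega_om card_F4 (mat g0⁻¹ *ᵥ x)
  have e : x = mat g0 *ᵥ vdec om n := by rw [hx, mat_cancel_inv]
  have z : ∀ w, herm6 (vdec om n) (vdec om w) = 0 → Nat.beq (CfsgLib.Chev.U43U6.herm n w) 0 = true := by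
    intro w e
    rw [SmallStab.herm6_dec] at e
    rw [dec_inj isOmega_om (herm_lt n w) (b := 0) (by norm_num) (e.trans dec_zero.symm)]; rfl
  have hc := SmallStab.of_all span_check hn
  simp only [Bool.or_eq_true, Bool.not_eq_true', List.any_eq_true] at hc
  rcases hc with (hc | ⟨a, -, ha⟩) | ⟨k, hk, hne⟩
  · rw [e, uv, herm_mat6] at h0
    rw [z 5 h0] at hc
    exact absurd hc (by decide)
  · refine ⟨dec om a, ?_⟩
    rw [e, Nat.eq_of_beq_eq_true ha, vdec_scl isOmega_om, mulVec_smul]; rfl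
  · have h' := h ⟨k, List.mem_range.1 hk⟩
    rw [e, pt, herm_mat6] at h'
    rw [z _ h'] at hne
    exact absurd hne (by decide)

/-- Pairwise orthogonal vectors have their points on a common line. -/
theorem exists_line (T : Set V6) (hu : ∀ x ∈ T, herm6 x (uv g0) = 0)
    (ho : ∀ x ∈ T, ∀ y ∈ T, herm6 x y = 0) :
    ∃ L : Fin 27, ∀ x ∈ T, ∀ k, onLn k L = true → herm6 x (pt g0 k) = 0 := by
  have triv : ∀ x ∈ T, (∀ j, ¬ PRel g0 x j) → ∀ k, herm6 x (pt g0 k) = 0 := by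
    intro x hx hn k
    by_contra hne
    obtain ⟨j, hj⟩ := prel_exists g0 (hu x hx) (ho x hx x hx) fun c e => hne (by
      rw [e, SmallStab.herm6_smul_left, u_pt, mul_zero])
    exact hn j hj
  by_cases h2 : ∃ x ∈ T, ∃ i, PRel g0 x i
  swap
  · exact ⟨0, fun x hx k _ => triv x hx (fun j hj => h2 ⟨x, hx, j, hj⟩) k⟩
  obtain ⟨x, hx, i, hi⟩ := h2
  by_cases h3 : ∃ y ∈ T, ∃ j, PRel g0 y j ∧ i ≠ j
  · obtain ⟨y, hy, j, hj, hij⟩ := h3
    obtain ⟨-, -, hl⟩ := SmallStab.line_of i j hij ((prel_orth g0 hi hj).1 (ho x hx y hy))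
    refine ⟨lineOf i j, fun w hw k hk => ?_⟩
    by_cases hp : ∃ m, PRel g0 w m
    · obtain ⟨m, hm⟩ := hp
      exact (prel_pt g0 hm k).2 (SmallStab.on_orth _ m
        (hl m ((prel_orth g0 hm hi).1 (ho w hw x hx)) ((prel_orth g0 hm hj).1 (ho w hw y hy))) k hk)
    · exact triv w hw (fun m hm => hp ⟨m, hm⟩) k
  · obtain ⟨l, hl⟩ := quad_facts.2.1 i
    refine ⟨l, fun w hw k hk => ?_⟩
    by_cases hp : ∃ m, PRel g0 w m
    · obtain ⟨m, hm⟩ := hp
      have : i = m := by by_contra hne; exact h3 ⟨w, hw, m, hm, hne⟩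
      subst this
      exact (prel_pt g0 hm k).2 (SmallStab.on_orth _ i hl k hk)
    · exact triv w hw (fun m hm => hp ⟨m, hm⟩) k

/-- The pointwise stabiliser of the small vector in a cover. -/
noncomputable def Ku (b : Fin 3) : Subgroup (GS F4) where
  carrier := {g | g ∈ K b ∧ mat g *ᵥ uv g0 = uv g0}
  one_mem' := ⟨one_mem _, by rw [mat_one, one_mulVec]⟩
  mul_mem' {g h} hg hh := ⟨mul_mem hg.1 hh.1, by rw [mat_mulVec_mul, hh.2, hg.2]⟩
  inv_mem' {g} hg := ⟨inv_mem hg.1, by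
    conv_lhs => rw [← hg.2]
    exact mat_inv_cancel g _⟩

theorem mem_Ku {b : Fin 3} {g : GS F4} : g ∈ Ku g0 b ↔ g ∈ K b ∧ mat g *ᵥ uv g0 = uv g0 := Iff.rfl

variable {g0} {b : Fin 3} (hg0 : g0 ∈ K b)

include hg0

theorem conj_mem_KS {g : GS F4} (hg : g ∈ Ku g0 b) : g0⁻¹ * g * g0 ∈ KS b :=
  ⟨mul_mem (mul_mem (inv_mem hg0) hg.1) hg0, by
    rw [mat_mulVec_mul, mat_mulVec_mul]
    show mat g0⁻¹ *ᵥ (mat g *ᵥ uv g0) = v0
    rw [hg.2]; exact mat_inv_cancel g0 _⟩

theorem conj_mem_Ku {g : GS F4} (hg : g ∈ KS b) : g0 * g * g0⁻¹ ∈ Ku g0 b :=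
  ⟨mul_mem (mul_mem hg0 hg.1) (inv_mem hg0), by
    rw [mat_mulVec_mul, mat_mulVec_mul, uv, mat_inv_cancel, hg.2]⟩

/-- The stabiliser is the conjugate of the standard one. -/
noncomputable def kuEquiv : KS b ≃* Ku g0 b where
  toFun g := ⟨g0 * g.1 * g0⁻¹, conj_mem_Ku hg0 g.2⟩
  invFun g := ⟨g0⁻¹ * g.1 * g0, conj_mem_KS hg0 g.2⟩
  left_inv g := Subtype.ext (by show g0⁻¹ * (g0 * g.1 * g0⁻¹) * g0 = g.1; group)
  right_inv g := Subtype.ext (by show g0 * (g0⁻¹ * g.1 * g0) * g0⁻¹ = g.1; group)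
  map_mul' g h := Subtype.ext (by
    show g0 * (g.1 * h.1) * g0⁻¹ = g0 * g.1 * g0⁻¹ * (g0 * h.1 * g0⁻¹); group)

theorem card_Ku : Nat.card (Ku g0 b) = 25920 := by
  rw [← Nat.card_congr (kuEquiv hg0).toEquiv, (SmallStab.lineK_facts b).2]

/-- The stabiliser moves any line to any other. -/
theorem line_move (L L' : Fin 27) : ∃ g ∈ Ku g0 b, ∀ k, onLn k L' = true →
    ∃ k', onLn k' L = true ∧ PRel g0 (mat g *ᵥ pt g0 k') k := by
  obtain ⟨r, hr⟩ := SmallStab.lineK_transitive b L'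
  obtain ⟨s, hs⟩ := SmallStab.lineK_transitive b L
  set t := r * s⁻¹ with ht
  have hL : (SmallStab.lineK b t).1 L = L' := by
    rw [ht, map_mul, map_inv, ← hr, ← hs]
    exact congrArg (SmallStab.lineK b r).1 (Equiv.symm_apply_apply _ _)
  refine ⟨_, (kuEquiv hg0 t).2, fun k hk => ?_⟩
  set T : SmallStab.Stab := ⟨SmallStab.matPerm t.1, SmallStab.matPerm_mem_Stab t.2.2⟩
  have hsp := SmallStab.lam_spec (s := SmallStab.sigma T) (fun i j => SmallStab.sigma_orth T i j) L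
  have hlam : SmallStab.lam (SmallStab.sigma T) L = L' := hL
  refine ⟨(SmallStab.sigma T)⁻¹ k, ?_, ?_⟩
  · rw [← hsp, hlam, show SmallStab.sigma T ((SmallStab.sigma T)⁻¹ k) = k from Equiv.apply_symm_apply _ k]
    exact hk
  · rw [prel_iff, pt, kuEquiv]
    show Rel (mat g0⁻¹ *ᵥ (mat (g0 * t.1 * g0⁻¹) *ᵥ (mat g0 *ᵥ _))) k
    rw [mat_mulVec_mul, mat_mulVec_mul, mat_inv_cancel, mat_inv_cancel]
    have := SmallStab.sigma_spec T ((SmallStab.sigma T)⁻¹ k)
    rwa [show SmallStab.sigmaFun T ((SmallStab.sigma T)⁻¹ k) = k from (SmallStab.sigma T).apply_symm_apply k] at this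

/-- An element acting trivially on every point is the identity. -/
theorem eq_one_of_points {g : GS F4} (hg : g ∈ Ku g0 b)
    (h : ∀ k, ∃ c : F4, mat g *ᵥ pt g0 k = pt g0 k + c • uv g0) : g = 1 := by
  set t : KS b := ⟨_, conj_mem_KS hg0 hg⟩
  set T : SmallStab.Stab := ⟨SmallStab.matPerm t.1, SmallStab.matPerm_mem_Stab t.2.2⟩
  have hfix : ∀ k, SmallStab.sigmaFun T k = k := fun k => by
    obtain ⟨c, hc⟩ := h k
    refine SmallStab.rel_unique (SmallStab.sigma_spec T k) ⟨1, c, one_ne_zero, ?_⟩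
    show mat (g0⁻¹ * g * g0) *ᵥ pv k = _
    rw [mat_mulVec_mul, mat_mulVec_mul]
    show mat g0⁻¹ *ᵥ (mat g *ᵥ pt g0 k) = _
    rw [hc, mulVec_add, mulVec_smul, pt, uv, mat_inv_cancel, mat_inv_cancel, one_smul]
  have h1 : SmallStab.lineK b t = 1 := Subtype.ext (Equiv.ext fun l => by
    show lineOf (SmallStab.sigmaFun T (pA l)) (SmallStab.sigmaFun T (pB l)) = l
    rw [hfix, hfix]
    refine SmallStab.line_ext _ _ fun k => ?_
    obtain ⟨ha, hb, hne⟩ := SmallStab.first_two l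
    obtain ⟨h1, h2, h3⟩ := SmallStab.line_of _ _ hne (SmallStab.on_orth l _ ha _ hb)
    refine Bool.eq_iff_iff.2 ⟨fun hk => ?_, fun hk => h3 k (SmallStab.on_orth l k hk _ ha) (SmallStab.on_orth l k hk _ hb)⟩
    by_contra hne'
    have hsub : (Finset.univ.filter fun k => onLn k l = true) ⊆
        Finset.univ.filter fun k => onLn k (lineOf (pA l) (pB l)) = true := fun x hx => by
      rw [Finset.mem_filter] at hx ⊢
      exact ⟨hx.1, h3 x (SmallStab.on_orth l x hx.2 _ ha) (SmallStab.on_orth l x hx.2 _ hb)⟩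
    have := Finset.eq_of_subset_of_card_le hsub (by rw [SmallStab.line_card, SmallStab.line_card])
    have hkm : k ∈ Finset.univ.filter fun k => onLn k (lineOf (pA l) (pB l)) = true :=
      Finset.mem_filter.2 ⟨Finset.mem_univ k, hk⟩
    rw [← this] at hkm
    exact hne' (Finset.mem_filter.1 hkm).2)
  have h2 : t = 1 := (SmallStab.lineK_facts b).1 (h1.trans (map_one _).symm)
  have h3 := congrArg Subtype.val h2
  calc g = g0 * (g0⁻¹ * g * g0) * g0⁻¹ := by group
    _ = 1 := by rw [show g0⁻¹ * g * g0 = 1 from h3]; group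

/-- The stabiliser is simple. -/
theorem isSimple_Ku : IsSimpleGroup (Ku g0 b) := by
  classical
  obtain ⟨Φ, hΦ⟩ := SmallStab.exists_graph_hom
  obtain ⟨hinj, hK⟩ := SmallStab.lineK_facts b
  have hcomp : Function.Injective (Φ.comp (SmallStab.lineK b)) := hΦ.comp hinj
  set R := (Φ.comp (SmallStab.lineK b)).range
  have hR : Nat.card R = 25920 := by
    rw [← hK]
    exact (Nat.card_congr (MonoidHom.ofInjective hcomp).toEquiv).symm
  haveI : Fintype (ZMod 3) := inferInstance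
  haveI := CfsgLib.Classical.isSimpleGroup_psp (F := ZMod 3) 2 le_rfl (fun _ => by rw [ZMod.card])
  obtain ⟨e⟩ := Amalgam.SixMinus.pSp_equiv_omega (ZMod 3) (ZMod.card 3)
  haveI hΩ : IsSimpleGroup (Cfsg.Omega (ZMod 2) Amalgam.SixMinus.Q2) := MulEquiv.isSimpleGroup e.symm
  have hRidx : R.index = 2 := by
    have := R.card_mul_index
    rw [hR, show Nat.card Amalgam.SixMinus.O2 = 51840 from Amalgam.SixMinus.card_O2] at this
    omega
  haveI : R.Normal := Subgroup.normal_of_index_eq_two hRidx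
  have heq : R = Cfsg.Omega (ZMod 2) Amalgam.SixMinus.Q2 := by
    rcases (inferInstance : (R.subgroupOf (Cfsg.Omega (ZMod 2) Amalgam.SixMinus.Q2)).Normal).eq_bot_or_eq_top with h | h
    · exfalso
      have h1 := Subgroup.card_eq_card_quotient_mul_card_subgroup
        (R.subgroupOf (Cfsg.Omega (ZMod 2) Amalgam.SixMinus.Q2))
      rw [h, Subgroup.card_bot, mul_one, Amalgam.SixMinus.card_omega] at h1
      have h2 : (R.subgroupOf (Cfsg.Omega (ZMod 2) Amalgam.SixMinus.Q2)).index ≤ R.index := by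
        exact Nat.le_of_dvd (by omega) (Subgroup.relIndex_dvd_index_of_normal R _)
      rw [h, Subgroup.index_bot, Amalgam.SixMinus.card_omega, hRidx] at h2
      omega
    · rw [Subgroup.subgroupOf_eq_top] at h
      exact (Subgroup.eq_of_le_of_card_ge h (by rw [hR, Amalgam.SixMinus.card_omega])).symm
  haveI : IsSimpleGroup R := heq ▸ hΩ
  haveI : IsSimpleGroup (KS b) := MulEquiv.isSimpleGroup (MonoidHom.ofInjective hcomp)
  exact MulEquiv.isSimpleGroup (kuEquiv hg0).symm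

end CfsgLib.Trans3.FiLarge.U6
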