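import Cfsg.Agent.Lib.Trans3.FischerType.PairSpine
import Cfsg.Agent.Lib.Trans3.FischerType.PairWiring
import Cfsg.Agent.Lib.Trans3.FiLarge.U6.Axioms

/-!
The four-group `E` of a small vector of `U` and the group `C(E)/E`.
-/

set_option autoImplicit false
set_option linter.unusedSectionVars false

namespace CfsgLib.Trans3.FiLarge.U6

open CfsgLib.Chev.U43U6 CfsgLib.Trans3.FiLarge CfsgLib.Trans3.FischerType.PairCode

variable {G : Type*} [Group G] {z : G} {Q : Subgroup (Subgroup.centralizer ({z} : Set G))}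

/-- Coordinates, the subgroup `A` and two elements over a small vector and its multiple by `ω`. -/
structure Ctx (z : G) (Q : Subgroup (Subgroup.centralizer ({z} : Set G))) where
  /-- The coordinates. -/
  c : Coord z Q
  hb : c.b = 0
  /-- The module facts. -/
  f : WFacts c.b
  hf : WExtra f
  /-- The subgroup `A`. -/
  A : Subgroup G
  spine : ASpine c f A
  semi : OuterSemi c
  fix_U : ∀ g ∈ f.W, ∀ g' ∈ f.W, g ≠ 1 → g' ≠ 1 → g ≠ g' →
    ∀ v : V6, Matrix.mulVec (mat g) v = v → Matrix.mulVec (mat g') v = v → v ∈ f.U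
  /-- Over the small vector. -/
  a : G
  /-- Over its multiple. -/
  b : G
  a_mem : a ∈ qg Q
  b_mem : b ∈ qg Q
  a_U : prG c a ∈ f.U
  a_small : InSmall c.b (prG c a)
  b_eq : prG c b = om • prG c a

namespace Ctx

variable (X : Ctx z Q)

/-- The four-group. -/
def E : Subgroup G := Subgroup.closure {X.a, X.b}

/-- The centraliser of the four-group. -/
abbrev CE : Subgroup G := Subgroup.centralizer (X.E : Set G)

/-- The four-group inside its centraliser. -/
abbrev EC : Subgroup X.CE := X.E.subgroupOf X.CE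

/-- The number of conjugates of `z` in a coset of `E`. -/
noncomputable def zc (g : G) : ℕ := {e : G | e ∈ X.E ∧ IsConj z (g * e)}.ncard

instance EC_normal : X.EC.Normal := ⟨fun n hn g => by
  have h : (n : G) * g = g * n := (Subgroup.mem_centralizer_iff.1 g.2) n hn
  have e : g * n * g⁻¹ = n := Subtype.ext (by simp [← h])
  rwa [e]⟩

/-- The group recognised. -/
abbrev Y : Type _ := X.CE ⧸ X.EC

/-- The image of an element of the centraliser. -/
def img (g : X.CE) : X.Y := QuotientGroup.mk' X.EC g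

/-- The class of the image of `z`. -/
def D : Set X.Y := {y | ∃ g : X.CE, (g : G) = z ∧ IsConj (X.img g) y}

/-- What `A` gives. -/
structure AFacts : Prop where
  E_le : X.E ≤ X.A
  E_elem : Cfsg.IsElementaryAbelian 2 X.E
  E_card : Nat.card X.E = 4
  E_small : ∀ e ∈ X.E, e ≠ 1 → e ∈ qg Q ∧ ¬ IsConj z e ∧ InSmall X.c.b (prG X.c e)
  z_notMem : z ∉ X.E
  cases : ∀ x ∈ X.A, x ∉ X.E → X.zc x = 1 ∨ X.zc x = 3 ∨ X.zc x = 4
  one_card : {y : X.Y | ∃ g : X.CE, (g : G) ∈ X.A ∧ X.zc g = 1 ∧ X.img g = y}.ncard = 21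
  one_trans : ∀ x ∈ X.A, X.zc x = 1 → ∀ y ∈ X.A, X.zc y = 1 →
    ∃ n : G, n ∈ X.CE ∧ n ∈ Subgroup.normalizer (X.A : Set G) ∧ (n * x * n⁻¹)⁻¹ * y ∈ X.E
  other : ∃ x ∈ X.A, X.zc x = 3
  two_label : ∀ x ∈ X.A, X.zc x = 3 → ∃ e ∈ X.E, ∃ w ∈ zcls z X.A, ∃ s ∈ tcls z X.A,
    w⁻¹ * x ∈ X.E ∧ e ≠ 1 ∧ e * w ∈ zcls z X.A ∧ s * w ∈ zcls z X.A ∧
      s * e ∈ tcls z X.A ∧ s * e * w ∈ tcls z X.A ∧ X.zc s = 1
  E_comm : X.EC ≤ commutator X.CE

/-- An element centralising a coset with three or four conjugates of `z` moves a coset with one into `A`. -/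
def FixFacts : Prop :=
  ∀ x ∈ X.A, (X.zc x = 3 ∨ X.zc x = 4) → ∀ g ∈ X.CE, (g * x * g⁻¹)⁻¹ * x ∈ X.E →
    ∃ p ∈ X.A, X.zc p = 1 ∧ g * p * g⁻¹ ∈ X.A

/-- What the centraliser of the image of `z` gives. -/
structure CentFacts : Prop where
  local_data : ∃ (P : Type) (col : P → P → Prop) (p : X.Y → X.Y → P), Local X.D P col p
  cover : ∀ g : X.CE, (g : G) = z → ∀ i : X.Y, orderOf i = 2 → Commute i (X.img g) →
    ∃ k : X.Y, Commute k (X.img g) ∧ ∃ x : X.CE, (x : G) ∈ X.A ∧ X.img x = k * i * k⁻¹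

end Ctx

end CfsgLib.Trans3.FiLarge.U6
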