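import Cfsg.Agent.Lib.Trans3.FiLarge.Fusion
import Cfsg.Agent.Lib.Trans3.FiLarge.U6.Pts

/-!
Involutions of the stabiliser of a small vector `u`: each fixes a line pointwise, and those whose line contains
`u` correspond to the 45 points as the transvections of `U₄(2)` do.
-/

set_option autoImplicit false
set_option linter.unusedSectionVars false

namespace CfsgLib.Trans3.FiLarge.U6

open Matrix CfsgLib.Trans3.FiLarge CfsgLib.Trans3.FischerType.PairCode
open CfsgLib.Chev.U43U6 hiding orth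
open CfsgLib.Trans3.FiLarge.SmallStab (orth onLn lineOf herm6_add_left herm6_add_right herm6_smul_left
  herm6_smul_right herm6_swap v6_self mat_mul mat_one)

theorem f4_trace_pair : ∀ x : F4, x + x ^ 2 = 0 → om ^ 2 * x + (om ^ 2 * x) ^ 2 = 0 → x = 0 := by decide

theorem f4_sq_fix : ∀ x : F4, x ^ 2 = x → x = 0 ∨ x = 1 := by decide

theorem herm6_eq_zero {x : V6} (h : ∀ v, herm6 x v = 0) : x = 0 := by
  by_contra hx
  obtain ⟨w, hw⟩ := exists_trace_ne hx
  exact hw (by rw [h w]; decide)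

theorem inSmall_smul {b : Fin 3} {x : V6} (h : InSmall b x) {a : F4} (ha : a ≠ 0) : InSmall b (a • x) := by
  obtain ⟨s, hs, e⟩ := CfsgLib.Trans3.FischerType.exists_scalar b
  have h1 : ∀ y, InSmall b y → InSmall b (om • y) := fun y hy => by
    have := hy.mulVec hs
    rwa [e, smul_mulVec, one_mulVec] at this
  rcases CfsgLib.Trans3.FischerType.f4_cases a with rfl | rfl | rfl | rfl
  · exact absurd rfl ha
  · rwa [one_smul]
  · exact h1 x h
  · rw [← CfsgLib.Trans3.FischerType.f4_om_sq, pow_two, ← smul_smul]; exact h1 _ (h1 x h)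

/-- The map `k - 1`. -/
noncomputable def nf (k : GS F4) (x : V6) : V6 := mat k *ᵥ x + x

theorem mulVec_eq (k : GS F4) (x : V6) : mat k *ᵥ x = x + nf k x := by
  rw [nf, add_left_comm, v6_self, add_zero]

theorem fixed_iff (k : GS F4) (x : V6) : mat k *ᵥ x = x ↔ nf k x = 0 := by
  rw [mulVec_eq]; exact add_eq_left

theorem nf_add (k : GS F4) (x y : V6) : nf k (x + y) = nf k x + nf k y := by
  simp only [nf, mulVec_add]; abel

theorem nf_smul (k : GS F4) (a : F4) (x : V6) : nf k (a • x) = a • nf k x := by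
  simp only [nf, mulVec_smul, smul_add]

theorem mem_line {k : GS F4} {d : V6} : d ∈ line k ↔ ∃ v, d = nf k v := Iff.rfl

theorem nf_conj (g k : GS F4) (x : V6) : nf (g * k * g⁻¹) (mat g *ᵥ x) = mat g *ᵥ nf k x := by
  rw [nf, nf, mat_mulVec_mul, mat_mulVec_mul, mat_inv_cancel, mulVec_add]

theorem line_conj (g k : GS F4) : line (g * k * g⁻¹) = (fun d => mat g *ᵥ d) '' line k := by
  ext d
  constructor
  · rintro ⟨v, rfl⟩
    refine ⟨nf k (mat g⁻¹ *ᵥ v), ⟨_, rfl⟩, ?_⟩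
    show mat g *ᵥ nf k _ = nf (g * k * g⁻¹) v
    rw [← nf_conj, mat_cancel_inv]
  · rintro ⟨_, ⟨v, rfl⟩, rfl⟩
    exact ⟨mat g *ᵥ v, (nf_conj g k v).symm⟩

section Invol

variable {k : GS F4} (h2 : k * k = 1)

include h2

theorem mat_invol (x : V6) : mat k *ᵥ (mat k *ᵥ x) = x := by
  rw [← mat_mulVec_mul, h2, mat_one, one_mulVec]

theorem herm_nf (x y : V6) : herm6 (nf k x) y = herm6 x (nf k y) := by
  rw [nf, nf, herm6_add_left, herm6_add_right]
  conv_lhs => arg 1; rw [← mat_invol h2 y, herm_mat6]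

theorem nf_nf (x : V6) : nf k (nf k x) = 0 := by
  rw [nf, nf, mulVec_add, mat_invol h2, add_comm x, v6_self]

theorem herm_nf_nf (x y : V6) : herm6 (nf k x) (nf k y) = 0 := by
  rw [herm_nf h2, nf_nf h2]
  simp [herm6, Cfsg.hermForm]

theorem herm_nf_self (x : V6) : herm6 (nf k x) x = 0 ∨ herm6 (nf k x) x = 1 := by
  refine f4_sq_fix _ ?_
  rw [herm6_swap, herm_nf h2]

theorem nf_eq_zero {x : V6} (h : ∀ v, herm6 x (nf k v) = 0) : nf k x = 0 :=
  herm6_eq_zero fun v => by rw [herm_nf h2, h]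

end Invol

/-- The module data around a small vector. -/
structure Mdl (b : Fin 3) where
  /-- The element carrying the standard vector to the vector. -/
  g0 : GS F4
  hg0 : g0 ∈ K b
  /-- The module facts. -/
  f : WFacts b
  hf : WExtra f
  u_mem : uv g0 ∈ f.U
  sq : ∀ w ∈ f.W, w * w = 1

namespace Mdl

variable {b : Fin 3} (M : Mdl b)

/-- The vector. -/
noncomputable abbrev u : V6 := uv M.g0

/-- Its stabiliser. -/
noncomputable abbrev S : Subgroup (GS F4) := Ku M.g0 b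

theorem u_small : InSmall b M.u := ⟨M.g0, M.hg0, rfl⟩

theorem u_ne : M.u ≠ 0 := (isotropic_of_orbit (Or.inl M.u_small)).1

theorem fix {g : GS F4} (hg : g ∈ M.S) : mat g *ᵥ M.u = M.u := hg.2

theorem W_K {w : GS F4} (hw : w ∈ M.f.W) : w ∈ K b := M.f.N_le (M.f.W_le hw)

theorem W_S {w : GS F4} (hw : w ∈ M.f.W) : w ∈ M.S := ⟨M.W_K hw, M.f.W_fix w hw _ M.u_mem⟩

theorem W_comm {v w : GS F4} (hv : v ∈ M.f.W) (hw : w ∈ M.f.W) : v * w = w * v := by
  calc v * w = (v * w)⁻¹ := (inv_eq_of_mul_eq_one_right (M.sq _ (mul_mem hv hw))).symm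
    _ = w * v := by rw [_root_.mul_inv_rev, inv_eq_of_mul_eq_one_right (M.sq v hv),
      inv_eq_of_mul_eq_one_right (M.sq w hw)]

theorem U_herm {x y : V6} (hx : x ∈ M.f.U) (hy : y ∈ M.f.U) : herm6 x y = 0 := by
  have h1 := M.f.U_bform x hx y hy
  have h2 := M.f.U_bform x hx _ (M.hf.smul y hy om)
  rw [bform, herm6_smul_right] at h2
  exact f4_trace_pair _ h1 h2

theorem card_smul_u : {x : V6 | ∃ c : F4, x = c • M.u}.ncard ≤ 4 := by
  have h : {x : V6 | ∃ c : F4, x = c • M.u} = (fun c : F4 => c • M.u) '' Set.univ := by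
    ext x; simp [eq_comm]
  rw [h]
  refine (Set.ncard_image_le (Set.toFinite _)).trans ?_
  rw [Set.ncard_univ, Nat.card_eq_fintype_card, card_F4]

theorem exists_uline : ∃ L : Fin 27, (∀ k, onLn k L = true → pt M.g0 k ∈ M.f.U) ∧
    ∀ x ∈ M.f.U, (∃ c : F4, x = c • M.u) ∨ ∃ k, PRel M.g0 x k ∧ onLn k L = true := by
  classical
  have hp : ∀ x ∈ M.f.U, (∀ c : F4, x ≠ c • M.u) → ∃ k, PRel M.g0 x k := fun x hx hne =>
    prel_exists M.g0 (M.U_herm hx M.u_mem) (M.U_herm hx hx) hne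
  have hU : (M.f.U : Set V6).ncard = 64 := by rw [← Nat.card_coe_set_eq]; exact M.f.card_U
  obtain ⟨x, hx, hxu⟩ : ∃ x ∈ M.f.U, ∀ c : F4, x ≠ c • M.u := by
    by_contra h
    push Not at h
    have := Set.ncard_le_ncard (show (M.f.U : Set V6) ⊆ {x | ∃ c : F4, x = c • M.u} from h) (Set.toFinite _)
    have := M.card_smul_u
    omega
  obtain ⟨i, hi⟩ := hp x hx hxu
  obtain ⟨y, hy, hyx⟩ : ∃ y ∈ M.f.U, ∀ a c : F4, y ≠ a • pt M.g0 i + c • M.u := by
    by_contra h
    push Not at h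
    have h' : (M.f.U : Set V6) ⊆ (fun p : F4 × F4 => p.1 • pt M.g0 i + p.2 • M.u) '' Set.univ := fun y hy => by
      obtain ⟨a, c, e⟩ := h y hy
      exact ⟨(a, c), trivial, e.symm⟩
    have := (Set.ncard_le_ncard h' (Set.toFinite _)).trans (Set.ncard_image_le (Set.toFinite _))
    rw [hU, Set.ncard_univ, Nat.card_prod, Nat.card_eq_fintype_card, card_F4] at this
    omega
  obtain ⟨j, hj⟩ := hp y hy fun c e => hyx 0 c (by rw [e, zero_smul, zero_add])
  have hij : i ≠ j := by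
    rintro rfl
    obtain ⟨a, c, -, e⟩ := hj
    exact hyx a c e
  obtain ⟨h1, h2, h3⟩ := SmallStab.line_of i j hij ((prel_orth M.g0 hi hj).1 (M.U_herm hx hy))
  have hcases : ∀ w ∈ M.f.U, (∃ c : F4, w = c • M.u) ∨ ∃ k, PRel M.g0 w k ∧ onLn k (lineOf i j) = true := by
    intro w hw
    by_cases hwu : ∀ c : F4, w ≠ c • M.u
    · obtain ⟨k, hk⟩ := hp w hw hwu
      exact Or.inr ⟨k, hk, h3 k ((prel_orth M.g0 hk hi).1 (M.U_herm hw hx))
        ((prel_orth M.g0 hk hj).1 (M.U_herm hw hy))⟩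
    · push Not at hwu
      exact Or.inl hwu
  refine ⟨lineOf i j, fun k hk => M.hf.perp _ fun w hw => ?_, hcases⟩
  have h0 : herm6 (pt M.g0 k) w = 0 := by
    rcases hcases w hw with ⟨c, rfl⟩ | ⟨m, hm, hmL⟩
    · rw [herm6_smul_right, pt_u, mul_zero]
    · exact herm6_comm.1 ((prel_pt M.g0 hm k).2 (SmallStab.on_orth _ m hmL k hk))
  rw [bform, h0, zero_pow two_ne_zero, add_zero]

/-- The line of `U`. -/
noncomputable def LU : Fin 27 := M.exists_uline.choose

theorem LU_mem {k : Fin 45} (hk : onLn k M.LU = true) : pt M.g0 k ∈ M.f.U := M.exists_uline.choose_spec.1 k hk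

theorem U_cases {x : V6} (hx : x ∈ M.f.U) :
    (∃ c : F4, x = c • M.u) ∨ ∃ k, PRel M.g0 x k ∧ onLn k M.LU = true := M.exists_uline.choose_spec.2 x hx

/-- An element moving the line `L` to that of `U`. -/
theorem exists_move (L : Fin 27) : ∃ g ∈ M.S, ∀ x ∈ M.f.U, ∃ y, x = mat g *ᵥ y ∧
    ∀ z : V6, herm6 z M.u = 0 → (∀ k, onLn k L = true → herm6 z (pt M.g0 k) = 0) → herm6 z y = 0 := by
  obtain ⟨g, hg, hmap⟩ := line_move M.hg0 L M.LU
  refine ⟨g, hg, fun x hx => ?_⟩
  rcases M.U_cases hx with ⟨c, rfl⟩ | ⟨k, hk, hkL⟩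
  · exact ⟨c • M.u, by rw [mulVec_smul, hg.2], fun z hz _ => by rw [herm6_smul_right, hz, mul_zero]⟩
  · obtain ⟨k', hk', a, c, ha, e⟩ := hmap k hkL
    obtain ⟨a', c', ha', rfl⟩ := hk
    refine ⟨(a' * a⁻¹) • pt M.g0 k' + (a' * a⁻¹ * c + c') • M.u, ?_, fun z hz hzk => ?_⟩
    · rw [mulVec_add, mulVec_smul, mulVec_smul, e, hg.2, smul_add, smul_smul, smul_smul, add_assoc, ← add_smul,
        mul_assoc, inv_mul_cancel₀ ha, mul_one, ← add_assoc]
      congr 2
      exact (show ∀ p q : F4, q = p + p + q by decide) _ _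
    · rw [herm6_add_right, herm6_smul_right, herm6_smul_right, hzk k' hk', hz, mul_zero, mul_zero, add_zero]

/-- An involution fixing the points of a line is conjugate into `W`. -/
theorem conj_W_of_line {k : GS F4} (hk : k ∈ M.S) (h2 : k * k = 1) (L : Fin 27)
    (hfix : ∀ j, onLn j L = true → ∀ v, herm6 (nf k v) (pt M.g0 j) = 0) {g : GS F4} (hg : g ∈ M.S)
    (hmv : ∀ x ∈ M.f.U, ∃ y, x = mat g *ᵥ y ∧
      ∀ z : V6, herm6 z M.u = 0 → (∀ j, onLn j L = true → herm6 z (pt M.g0 j) = 0) → herm6 z y = 0) :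
    g * k * g⁻¹ ∈ M.f.W := by
  refine M.hf.fixer _ (mul_mem (mul_mem hg.1 hk.1) (inv_mem hg.1)) fun x hx => ?_
  obtain ⟨y, rfl, hy⟩ := hmv x hx
  rw [fixed_iff, nf_conj, nf_eq_zero h2 (x := y), mulVec_zero]
  intro v
  refine herm6_comm.1 (hy _ ?_ fun j hj => hfix j hj v)
  rw [herm_nf h2, (fixed_iff k M.u).1 hk.2]
  simp [herm6, Cfsg.hermForm]

theorem nf_u {k : GS F4} (hk : k ∈ M.S) : nf k M.u = 0 := (fixed_iff k _).1 hk.2

theorem herm_nf_u {k : GS F4} (hk : k ∈ M.S) (h2 : k * k = 1) (v : V6) : herm6 (nf k v) M.u = 0 := by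
  rw [herm_nf h2, M.nf_u hk]
  simp [herm6, Cfsg.hermForm]

/-- Every involution of the stabiliser is conjugate into `W`. -/
theorem conj_W {k : GS F4} (hk : k ∈ M.S) (h2 : k * k = 1) : ∃ g ∈ M.S, g * k * g⁻¹ ∈ M.f.W := by
  obtain ⟨L, hL⟩ := exists_line M.g0 (line k)
    (by rintro _ ⟨v, rfl⟩; exact M.herm_nf_u hk h2 v)
    (by rintro _ ⟨v, rfl⟩ _ ⟨w, rfl⟩; exact herm_nf_nf h2 v w)
  obtain ⟨g, hg, hmv⟩ := M.exists_move L
  exact ⟨g, hg, M.conj_W_of_line hk h2 L (fun j hj v => hL _ ⟨v, rfl⟩ j hj) hg hmv⟩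

/-- No vector orthogonal to `u` is moved by a multiple of `u`. -/
theorem no_u {k : GS F4} (hk : k ∈ M.S) (h2 : k * k = 1) {x : V6} (hx : herm6 x M.u = 0) {c : F4}
    (h : nf k x = c • M.u) : c = 0 := by
  by_contra hc
  obtain ⟨g, hg, hw⟩ := M.conj_W hk h2
  have e1 : nf (g * k * g⁻¹) (mat g *ᵥ x) = c • M.u := by rw [nf_conj, h, mulVec_smul, hg.2]
  have e2 : nf (g * k * g⁻¹) (om • (mat g *ᵥ x)) = (om * c) • M.u := by rw [nf_smul, e1, smul_smul]
  have hom : (om : F4) ≠ 0 := by decide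
  have e3 : c • M.u + (om * c) • M.u = ((1 + om) * c) • M.u := by rw [← add_smul]; ring_nf
  have := M.f.parity _ hw (mat g *ᵥ x) (om • (mat g *ᵥ x))
    (show InSmall b (nf _ _) by rw [e1]; exact inSmall_smul M.u_small hc)
    (show InSmall b (nf _ _) by rw [e2]; exact inSmall_smul M.u_small (mul_ne_zero hom hc))
    (show InSmall b (nf _ _ + nf _ _) by
      rw [e1, e2, e3]; exact inSmall_smul M.u_small (mul_ne_zero (by decide) hc))
  change bform (nf _ _) _ = 1 at this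
  have hz : herm6 M.u (mat g *ᵥ x) = 0 := by
    conv_lhs => arg 1; rw [← M.fix hg]
    rw [herm_mat6]; exact herm6_comm.1 hx
  rw [e1, bform, herm6_smul_left, herm6_smul_right, hz] at this
  simp at this

/-- An involution whose line contains `u`. -/
structure IsT (k : GS F4) : Prop where
  mem : k ∈ M.S
  sq : k * k = 1
  u_line : M.u ∈ line k

variable {M}

theorem IsT.ne_one {k : GS F4} (h : M.IsT k) : k ≠ 1 := by
  rintro rfl
  obtain ⟨v, hv⟩ := h.u_line
  rw [mat_one, one_mulVec, v6_self] at hv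
  exact M.u_ne hv

theorem IsT.conj {k g : GS F4} (h : M.IsT k) (hg : g ∈ M.S) : M.IsT (g * k * g⁻¹) :=
  ⟨mul_mem (mul_mem hg h.mem) (inv_mem hg), by
    rw [show g * k * g⁻¹ * (g * k * g⁻¹) = g * (k * k) * g⁻¹ by group, h.sq, mul_one, mul_inv_cancel], by
    rw [line_conj]; exact ⟨_, h.u_line, hg.2⟩⟩

theorem IsT.line_card {k : GS F4} (h : M.IsT k) : (line k).ncard = 16 := by
  obtain ⟨g, hg, hw⟩ := M.conj_W h.mem h.sq
  have := M.f.line_card _ hw (h.conj hg).ne_one
  rwa [line_conj, Set.ncard_image_of_injective _ (fun _ _ e => mat_inj g e)] at this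

theorem IsT.span {k : GS F4} (h : M.IsT k) {x : V6} (hx : herm6 x M.u = 0) (hne : nf k x ≠ 0) :
    line k = (fun p : F4 × F4 => p.1 • M.u + p.2 • nf k x) '' Set.univ := by
  have hinj : Function.Injective fun p : F4 × F4 => p.1 • M.u + p.2 • nf k x := by
    rintro ⟨a, c⟩ ⟨a', c'⟩ e
    simp only at e
    have e2 : (a + a') • M.u = (c + c') • nf k x := by
      calc (a + a') • M.u = (a • M.u + c • nf k x) + c • nf k x + a' • M.u := by
            rw [add_assoc (a • M.u), v6_self, add_zero, add_smul]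
        _ = (c + c') • nf k x := by
            rw [e, add_smul]
            calc a' • M.u + c' • nf k x + c • nf k x + a' • M.u
                = (a' • M.u + a' • M.u) + (c • nf k x + c' • nf k x) := by abel
              _ = _ := by rw [v6_self, zero_add]
    have hc : c + c' = 0 := by
      by_contra hc
      have h1 : nf k x = ((c + c')⁻¹ * (a + a')) • M.u := by
        rw [← smul_smul, e2, smul_smul, inv_mul_cancel₀ hc, one_smul]
      exact hne (by rw [h1, M.no_u h.mem h.sq hx h1, zero_smul])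
    rw [hc, zero_smul, smul_eq_zero] at e2
    have q : ∀ p r : F4, p + r = 0 → p = r := by decide
    exact Prod.ext (q _ _ (e2.resolve_right M.u_ne)) (q _ _ hc)
  refine (Set.eq_of_subset_of_ncard_le ?_ ?_ (Set.toFinite _)).symm
  · rintro _ ⟨⟨a, c⟩, -, rfl⟩
    obtain ⟨v, hv⟩ := mem_line.1 h.u_line
    exact ⟨a • v + c • x, by
      show _ = nf k _
      rw [nf_add, nf_smul, nf_smul, ← hv]⟩
  · rw [h.line_card, Set.ncard_image_of_injective _ hinj, Set.ncard_univ, Nat.card_prod,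
      Nat.card_eq_fintype_card, card_F4]

theorem IsT.self_one {k : GS F4} (h : M.IsT k) {x : V6} (hx : herm6 x M.u = 0) (hne : nf k x ≠ 0) :
    herm6 (nf k x) x = 1 := by
  refine (herm_nf_self h.sq x).resolve_left fun h0 => hne (nf_eq_zero h.sq fun v => ?_)
  obtain ⟨⟨a, c⟩, -, e⟩ := (Set.ext_iff.1 (h.span hx hne) (nf k v)).1 ⟨v, rfl⟩
  rw [← e, herm6_add_right, herm6_smul_right, herm6_smul_right, hx, herm6_comm.1 h0]
  simp

variable (M)

/-- A transvection with its point. -/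
structure HasPt (k : GS F4) (p : Fin 45) : Prop where
  isT : M.IsT k
  point : ∃ x, herm6 x M.u = 0 ∧ PRel M.g0 (nf k x) p

variable {M}

theorem IsT.exists_pt {k : GS F4} (h : M.IsT k) : ∃ p, M.HasPt k p := by
  obtain ⟨x, hx, hne⟩ : ∃ x, herm6 x M.u = 0 ∧ nf k x ≠ 0 := by
    by_contra hall
    push Not at hall
    have hall' : line k ⊆ {x | ∃ c : F4, x = c • M.u} := by
      rintro _ ⟨v, rfl⟩
      refine eq_smul_of_orth M.g0 (M.herm_nf_u h.mem h.sq v) fun q => ?_
      show herm6 (nf k v) _ = 0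
      rw [herm_nf h.sq, hall _ (pt_u M.g0 q)]
      simp [herm6, Cfsg.hermForm]
    have := (Set.ncard_le_ncard hall' (Set.toFinite _)).trans M.card_smul_u
    rw [h.line_card] at this
    omega
  obtain ⟨p, hp⟩ := prel_exists M.g0 (M.herm_nf_u h.mem h.sq x) (herm_nf_nf h.sq x x) fun c e => hne (by
    rw [e, M.no_u h.mem h.sq hx e, zero_smul])
  exact ⟨p, h, x, hx, hp⟩

theorem HasPt.mem_span {k : GS F4} {p : Fin 45} (h : M.HasPt k p) (v : V6) :
    ∃ a c : F4, nf k v = a • pt M.g0 p + c • M.u := by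
  obtain ⟨x, hx, a, c, ha, e⟩ := h.point
  have hne : nf k x ≠ 0 := fun h0 => by
    refine pt_ne M.g0 p (a⁻¹ * c) ?_
    have e' : a • pt M.g0 p = c • uv M.g0 := by
      calc a • pt M.g0 p = a • pt M.g0 p + c • uv M.g0 + c • uv M.g0 := by rw [add_assoc, v6_self, add_zero]
        _ = _ := by rw [← e, h0, zero_add]
    rw [← smul_smul, ← e', smul_smul, inv_mul_cancel₀ ha, one_smul]
  obtain ⟨⟨r, s⟩, -, e'⟩ := (Set.ext_iff.1 (h.isT.span hx hne) (nf k v)).1 ⟨v, rfl⟩
  exact ⟨s * a, r + s * c, by rw [← e', e]; module⟩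

theorem HasPt.nf_eq_zero_iff {k : GS F4} {p : Fin 45} (h : M.HasPt k p) {x : V6} (hx : herm6 x M.u = 0) :
    nf k x = 0 ↔ herm6 x (pt M.g0 p) = 0 := by
  constructor
  · intro h0
    obtain ⟨x0, -, a, c, ha, e⟩ := h.point
    have h1 : herm6 x (nf k x0) = 0 := by
      rw [← herm_nf h.isT.sq, h0]
      simp [herm6, Cfsg.hermForm]
    rw [e, herm6_add_right, herm6_smul_right, herm6_smul_right, hx, mul_zero, add_zero, mul_eq_zero,
      f4_pow_zero] at h1
    exact h1.resolve_left ha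
  · intro h0
    refine nf_eq_zero h.isT.sq fun v => ?_
    obtain ⟨a, c, e⟩ := h.mem_span v
    rw [e, herm6_add_right, herm6_smul_right, herm6_smul_right, hx, h0]
    simp

theorem HasPt.coeff {k : GS F4} {p : Fin 45} (h : M.HasPt k p) {x : V6} (hx : herm6 x M.u = 0)
    (hne : herm6 x (pt M.g0 p) ≠ 0) :
    ∃ c : F4, nf k x = (herm6 (pt M.g0 p) x)⁻¹ • pt M.g0 p + c • M.u := by
  obtain ⟨a, c, e⟩ := h.mem_span x
  have h1 := h.isT.self_one hx fun h0 => hne ((h.nf_eq_zero_iff hx).1 h0)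
  rw [e, herm6_add_left, herm6_smul_left, herm6_smul_left, herm6_comm.1 hx, mul_zero, add_zero] at h1
  exact ⟨c, by rw [e, eq_inv_of_mul_eq_one_left h1]⟩

theorem HasPt.unique {k : GS F4} {p q : Fin 45} (h : M.HasPt k p) (h' : M.HasPt k q) : p = q := by
  obtain ⟨x, hx, hq⟩ := h'.point
  obtain ⟨a, c, e⟩ := h.mem_span x
  have ha : a ≠ 0 := by
    rintro rfl
    obtain ⟨a', c', ha', e'⟩ := hq
    rw [zero_smul, zero_add] at e
    refine pt_ne M.g0 q (a'⁻¹ * (c + c')) ?_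
    have e'' : a' • pt M.g0 q = (c + c') • uv M.g0 := by
      rw [add_smul, show c • uv M.g0 = a' • pt M.g0 q + c' • uv M.g0 from e.symm.trans e', add_assoc,
        v6_self, add_zero]
    rw [← smul_smul, ← e'', smul_smul, inv_mul_cancel₀ ha', one_smul]
  exact prel_unique M.g0 ⟨a, c, ha, e⟩ hq

theorem HasPt.conj {k g : GS F4} {p q : Fin 45} (h : M.HasPt k p) (hg : g ∈ M.S)
    (hq : PRel M.g0 (mat g *ᵥ pt M.g0 p) q) : M.HasPt (g * k * g⁻¹) q := by
  obtain ⟨x, hx, a, c, ha, e⟩ := h.point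
  refine ⟨h.isT.conj hg, mat g *ᵥ x, by conv_lhs => arg 2; rw [← M.fix hg]
                                        rw [herm_mat6, hx], ?_⟩
  rw [nf_conj, e, mulVec_add, mulVec_smul, mulVec_smul, show mat g *ᵥ uv M.g0 = uv M.g0 from hg.2]
  exact prel_smul M.g0 hq ha c

theorem HasPt.conj_exists {k g : GS F4} {p : Fin 45} (h : M.HasPt k p) (hg : g ∈ M.S) :
    ∃ q, M.HasPt (g * k * g⁻¹) q := (h.isT.conj hg).exists_pt

theorem HasPt.line_fix {k : GS F4} {p : Fin 45} (h : M.HasPt k p) {L : Fin 27} (hL : onLn p L = true)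
    (j : Fin 45) (hj : onLn j L = true) (v : V6) : herm6 (nf k v) (pt M.g0 j) = 0 := by
  obtain ⟨a, c, e⟩ := h.mem_span v
  rw [e, herm6_add_left, herm6_smul_left, herm6_smul_left,
    (pt_orth M.g0 p j).2 (SmallStab.on_orth L p hL j hj), u_pt]
  simp

/-- A transvection is determined by its point. -/
theorem HasPt.eq {k k' : GS F4} {p : Fin 45} (h : M.HasPt k p) (h' : M.HasPt k' p) : k = k' := by
  obtain ⟨L, hL⟩ := quad_facts.2.1 p
  obtain ⟨g, hg, hmv⟩ := M.exists_move L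
  have hw := M.conj_W_of_line h.isT.mem h.isT.sq L (h.line_fix hL) hg hmv
  have hw' := M.conj_W_of_line h'.isT.mem h'.isT.sq L (h'.line_fix hL) hg hmv
  by_contra hne
  have hcomm : k * k' = k' * k := by
    refine (MulAut.conj g).injective ?_
    rw [map_mul, map_mul]; exact M.W_comm hw hw'
  have hinv : k' = k'⁻¹ := (inv_eq_of_mul_eq_one_right h'.isT.sq).symm
  have hk3ne : k * k' ≠ 1 := fun e => hne (by rw [eq_inv_of_mul_eq_one_left e, ← hinv])
  have hw3 : g * (k * k') * g⁻¹ ∈ M.f.W := by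
    rw [show g * (k * k') * g⁻¹ = g * k * g⁻¹ * (g * k' * g⁻¹) by group]; exact mul_mem hw hw'
  have hS : k * k' ∈ M.S := mul_mem h.isT.mem h'.isT.mem
  have h2 : k * k' * (k * k') = 1 := by
    calc k * k' * (k * k') = k * (k' * k) * k' := by group
      _ = (k * k) * (k' * k') := by rw [← hcomm]; group
      _ = 1 := by rw [h.isT.sq, h'.isT.sq, one_mul]
  have hz : ∀ v, nf k (nf k' v) = 0 := fun v => by
    obtain ⟨a, c, e⟩ := h'.mem_span v
    rw [e, nf_add, nf_smul, nf_smul, M.nf_u h.isT.mem,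
      (h.nf_eq_zero_iff (pt_u M.g0 p)).2 (pt_iso M.g0 p)]
    simp
  have hadd : ∀ v, nf (k * k') v = nf k v + nf k' v := fun v => by
    rw [nf, mat_mulVec_mul, mulVec_eq k' v, mulVec_add, mulVec_eq k v, (fixed_iff k _).2 (hz v)]
    calc v + nf k v + nf k' v + v = (v + v) + (nf k v + nf k' v) := by abel
      _ = _ := by rw [v6_self, zero_add]
  have hcard : (line (k * k')).ncard = 16 := by
    have := M.f.line_card _ hw3 (fun e => hk3ne ((MulAut.conj g).injective (e.trans (map_one _).symm)))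
    rwa [line_conj, Set.ncard_image_of_injective _ (fun _ _ e => mat_inj g e)] at this
  have hspan : line (k * k') = (fun q : F4 × F4 => q.1 • pt M.g0 p + q.2 • M.u) '' Set.univ := by
    refine Set.eq_of_subset_of_ncard_le ?_ ?_ (Set.toFinite _)
    · rintro _ ⟨v, rfl⟩
      obtain ⟨a, c, e⟩ := h.mem_span v
      obtain ⟨a', c', e'⟩ := h'.mem_span v
      exact ⟨(a + a', c + c'), trivial, by
        show _ = nf (k * k') v
        rw [hadd, e, e']; module⟩
    · refine (Set.ncard_image_le (Set.toFinite _)).trans ?_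
      rw [hcard, Set.ncard_univ, Nat.card_prod, Nat.card_eq_fintype_card, card_F4]
  have hT : M.IsT (k * k') := ⟨hS, h2, by rw [hspan]; exact ⟨(0, 1), trivial, by simp⟩⟩
  obtain ⟨q, hq⟩ : ∃ q, orth p q = false := by
    by_contra hall
    push Not at hall
    obtain ⟨c, e⟩ := eq_smul_of_orth M.g0 (pt_u M.g0 p) fun q => (pt_orth M.g0 p q).2 (by simpa using hall q)
    exact pt_ne M.g0 p c e
  have hx := pt_u M.g0 q
  have hxp : herm6 (pt M.g0 q) (pt M.g0 p) ≠ 0 := fun e => by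
    rw [(pt_orth M.g0 p q).1 (herm6_comm.1 e)] at hq; simp at hq
  have n1 : nf k (pt M.g0 q) ≠ 0 := fun e => hxp ((h.nf_eq_zero_iff hx).1 e)
  have n2 : nf k' (pt M.g0 q) ≠ 0 := fun e => hxp ((h'.nf_eq_zero_iff hx).1 e)
  have hsum : herm6 (nf (k * k') (pt M.g0 q)) (pt M.g0 q) = 0 := by
    rw [hadd, herm6_add_left, h.isT.self_one hx n1, h'.isT.self_one hx n2]; decide
  have h3 : nf (k * k') (pt M.g0 q) = 0 := by
    by_contra hne'
    rw [hT.self_one hx hne'] at hsum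
    exact one_ne_zero hsum
  refine hxp ?_
  obtain ⟨v, hv⟩ : pt M.g0 p ∈ line (k * k') := by rw [hspan]; exact ⟨(1, 0), trivial, by simp⟩
  rw [show pt M.g0 p = nf (k * k') v from hv, ← herm_nf h2, h3]
  simp [herm6, Cfsg.hermForm]

/-- Transvections of collinear points commute. -/
theorem HasPt.commute {k k' : GS F4} {p p' : Fin 45} (h : M.HasPt k p) (h' : M.HasPt k' p')
    (ho : orth p p' = true) : k * k' = k' * k := by
  by_cases e : p = p'
  · subst e; rw [h.eq h']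
  obtain ⟨h1, h2, -⟩ := SmallStab.line_of p p' e ho
  obtain ⟨g, hg, hmv⟩ := M.exists_move (lineOf p p')
  refine (MulAut.conj g).injective ?_
  rw [map_mul, map_mul]
  exact M.W_comm (M.conj_W_of_line h.isT.mem h.isT.sq _ (h.line_fix h1) hg hmv)
    (M.conj_W_of_line h'.isT.mem h'.isT.sq _ (h'.line_fix h2) hg hmv)

/-- Transvections of other points do not commute, and their product has order three. -/
theorem HasPt.braid {k k' : GS F4} {p p' : Fin 45} (h : M.HasPt k p) (h' : M.HasPt k' p')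
    (ho : ¬ orth p p' = true) : k * k' ≠ k' * k ∧ k' * k * k' = k * k' * k := by
  have hpp : herm6 (pt M.g0 p) (pt M.g0 p') ≠ 0 := fun e => ho ((pt_orth M.g0 p p').1 e)
  have hp'p : herm6 (pt M.g0 p') (pt M.g0 p) ≠ 0 := fun e => hpp (herm6_comm.1 e)
  obtain ⟨c, hc⟩ := h'.coeff (pt_u M.g0 p) hpp
  obtain ⟨d, hd⟩ := h.coeff (pt_u M.g0 p') hp'p
  constructor
  · intro e
    have hpt : PRel M.g0 (mat k' *ᵥ pt M.g0 p) p := by
      obtain ⟨q, hq⟩ := h.conj_exists h'.isT.mem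
      obtain ⟨q', hq'⟩ : ∃ q', PRel M.g0 (mat k' *ᵥ pt M.g0 p) q' := by
        refine prel_exists M.g0 ?_ (by rw [herm_mat6, pt_iso]) fun c e => pt_ne M.g0 p c ?_
        · conv_lhs => arg 2; rw [← (show mat k' *ᵥ uv M.g0 = uv M.g0 from M.fix h'.isT.mem)]
          rw [herm_mat6, pt_u]
        · refine mat_inj k' ?_
          rw [e, mulVec_smul, h'.isT.mem.2]
      have := h.conj h'.isT.mem hq'
      rw [← e, mul_inv_cancel_right] at this
      exact h.unique this ▸ hq'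
    have h1 := (prel_orth M.g0 hpt (prel_self M.g0 p)).2 (quad_facts.1 p)
    rw [mulVec_eq, hc, herm6_add_left, herm6_add_left, herm6_smul_left, herm6_smul_left, pt_iso,
      show herm6 (uv M.g0) (pt M.g0 p) = 0 from u_pt M.g0 p] at h1
    simp [hp'p, hpp] at h1
  · have hi : k⁻¹ = k := inv_eq_of_mul_eq_one_right h.isT.sq
    have hi' : k'⁻¹ = k' := inv_eq_of_mul_eq_one_right h'.isT.sq
    set a := herm6 (pt M.g0 p') (pt M.g0 p) with ha
    have key : ∀ a : F4, a ≠ 0 → (a ^ 2)⁻¹ = a ∧ a⁻¹ * a = 1 := by decide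
    have hb : herm6 (pt M.g0 p) (pt M.g0 p') = a ^ 2 := (herm6_swap _ _).symm
    have e1 : mat k' *ᵥ pt M.g0 p = pt M.g0 p + a⁻¹ • pt M.g0 p' + c • M.u := by
      rw [mulVec_eq, hc, ← add_assoc]
    have e2 : mat k *ᵥ pt M.g0 p' = pt M.g0 p' + a • pt M.g0 p + d • M.u := by
      rw [mulVec_eq, hd, ← add_assoc, hb, (key a hp'p).1]
    obtain ⟨q, hq⟩ : ∃ q, PRel M.g0 (mat k' *ᵥ pt M.g0 p) q := by
      refine prel_exists M.g0 ?_ (by rw [herm_mat6, pt_iso]) fun e he => pt_ne M.g0 p e ?_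
      · conv_lhs => arg 2; rw [← (show mat k' *ᵥ uv M.g0 = uv M.g0 from M.fix h'.isT.mem)]
        rw [herm_mat6, pt_u]
      · refine mat_inj k' ?_
        rw [he, mulVec_smul, h'.isT.mem.2]
    have hq' : PRel M.g0 (mat k *ᵥ pt M.g0 p') q := by
      have := prel_smul M.g0 hq (a := a) hp'p (a * c + d)
      rwa [show a • (mat k' *ᵥ pt M.g0 p) + (a * c + d) • uv M.g0 = mat k *ᵥ pt M.g0 p' by
        rw [e1, e2, smul_add, smul_add, smul_smul, smul_smul, mul_inv_cancel₀ hp'p, one_smul]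
        calc a • pt M.g0 p + pt M.g0 p' + (a * c) • M.u + (a * c + d) • M.u
            = (pt M.g0 p' + a • pt M.g0 p + d • M.u) + ((a * c) • M.u + (a * c) • M.u) := by module
          _ = _ := by rw [v6_self, add_zero]] at this
    have := (h.conj h'.isT.mem hq).eq (h'.conj h.isT.mem hq')
    rwa [hi, hi'] at this

end Mdl

end CfsgLib.Trans3.FiLarge.U6
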